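import Mathlib
import Cfsg.Agent.H914.SixBase
import Cfsg.Agent.ClassicalGeometry.TwoFamilies
import Cfsg.Agent.H906.Cover_m3
import Cfsg.Agent.H464.Sl2Basic
import Cfsg.Agent.PermutationGroups.ZassIcos
import Cfsg.Agent.H464.L2StageOne_m3
import Cfsg.Agent.H955.Sp
import Cfsg.Agent.LieClassical.FieldTransfer
import Cfsg.Prelude.Def_Spor_J2
import Cfsg.Statements.S5806
import Cfsg.Agent.FastGrp
import Cfsg.Agent.Prune
set_option linter.all false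

section
prune_inst 0x7ffdb8fbbbf8f9dfdfff7e77aedadffdb9931fffa6dff9cbffe061ff0bdf03028dc56b8d09e010fe0ed6e01410b87843fb7eeeffe86fdc7ffffdfff41ffbee0fe5f73508519c88b40fbc0ff603f0778e7f3fffffffffffffffffffffffffffaeffbfffffffff

-- part: H476/JTwo/Tps
section
prune_inst 0x10000040620000000000000000000004000492000000000000004001084020090228000020011210200c0020000000001000200000000000000000000501000800000001000000020080000000000000000000000000000000000000000000000000000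
set_option linter.all false
open scoped Cfsg.Agent.FastGrp
private noncomputable def lq2633264968 {T : Sort _} (f :
    type_of% (@_root_.List.cons.{0}) →
    type_of% (@_root_.List.nil.{0}) →
    type_of% (@_root_.Nat.mul) →
    type_of% (@_root_.Nat.add) →
    type_of% (@_root_.Nat.mod) → T) : T :=
  f (@_root_.List.cons.{0}) (@_root_.List.nil.{0}) (@_root_.Nat.mul) (@_root_.Nat.add) (@_root_.Nat.mod)

-- part: H476/JTwo/Alg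
section
/-!
# Normal form of seven idempotents (helper476, for S5806)

`Rels e1 e2 e3 e4 e5 e6 e8` : the relations between the idempotents `(1 - r) / 2` of seven reflections `r` of a
`6`-dimensional symplectic representation of `± U₃(3)`. `p1, p2, p3` is an orthonormal frame over `ε = e2`.
-/

set_option autoImplicit false

namespace Cfsg.Agent.H476.JTwo

/-- an anti-automorphism of order two -/
structure Adj {R : Type*} [Ring R] (st : R → R) : Prop where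
  add : ∀ a b, st (a + b) = st a + st b
  mul : ∀ a b, st (a * b) = st b * st a
  st_st : ∀ a, st (st a) = a

namespace Adj

variable {R : Type*} [Ring R] {st : R → R} (S : Adj st)
include S

theorem zero : st 0 = 0 := by
  have h := S.add 0 0
  rw [add_zero] at h
  exact left_eq_add.1 h

theorem neg (a : R) : st (-a) = -st a := by
  have h := S.add a (-a)
  rw [add_neg_cancel, S.zero] at h
  exact eq_neg_of_add_eq_zero_right h.symm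

theorem sub (a b : R) : st (a - b) = st a - st b := by
  rw [sub_eq_add_neg, S.add, S.neg, ← sub_eq_add_neg]

theorem one : st 1 = 1 := by
  have h := S.mul 1 (st 1)
  rw [one_mul, S.st_st, one_mul] at h
  exact h.symm

theorem natCast (n : ℕ) : st (n : R) = n := by
  induction n with
  | zero => rw [Nat.cast_zero, S.zero]
  | succ n ih => rw [Nat.cast_add, Nat.cast_one, S.add, ih, S.one]

theorem two : st (2 : R) = 2 := by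
  have := S.natCast 2
  exact_mod_cast this

theorem four : st (4 : R) = 4 := by
  have := S.natCast 4
  exact_mod_cast this

end Adj

/-- the relations -/
structure Rels {R : Type*} [Ring R] (st : R → R) (e1 e2 e3 e4 e5 e6 e8 : R) : Prop where
  tw : ∀ x y : R, 2 * x = 2 * y → x = y
  ad : Adj st
  i1 : e1 * e1 = e1
  i2 : e2 * e2 = e2
  i3 : e3 * e3 = e3
  i4 : e4 * e4 = e4
  i5 : e5 * e5 = e5
  i6 : e6 * e6 = e6
  i8 : e8 * e8 = e8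
  s1 : st e1 = e1
  s2 : st e2 = e2
  s3 : st e3 = e3
  s4 : st e4 = e4
  s5 : st e5 = e5
  s6 : st e6 = e6
  s8 : st e8 = e8
  sum : e1 + e2 + e3 = 1
  z12 : e1 * e2 = 0
  z14 : e1 * e4 = 0
  z35 : e3 * e5 = 0
  z18 : e1 * e8 = 0
  h24 : 2 * (e2 * e4 * e2) = e2
  h42 : 2 * (e4 * e2 * e4) = e4
  h34 : 2 * (e3 * e4 * e3) = e3
  h43 : 2 * (e4 * e3 * e4) = e4
  h25 : 2 * (e2 * e5 * e2) = e2
  h52 : 2 * (e5 * e2 * e5) = e5
  h15 : 2 * (e1 * e5 * e1) = e1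
  h51 : 2 * (e5 * e1 * e5) = e5
  h28 : 2 * (e2 * e8 * e2) = e2
  h38 : 2 * (e3 * e8 * e3) = e3
  h83 : 2 * (e8 * e3 * e8) = e8
  h48 : 2 * (e4 * e8 * e4) = e4
  h16 : 2 * (e1 * e6 * e1) = e1
  h56 : 2 * (e5 * e6 * e5) = e5
  h26 : 4 * (e2 * e6 * e2) = e2
  z64 : e6 * ((1 - 2 * e3) * e4 * (1 - 2 * e3)) = 0
  h96 : 4 * (((1 - 2 * e8) * (1 - 2 * e3) * (1 - 2 * e4) * e5 * (1 - 2 * e4) * (1 - 2 * e3) * (1 - 2 * e8)) * e6 *
      ((1 - 2 * e8) * (1 - 2 * e3) * (1 - 2 * e4) * e5 * (1 - 2 * e4) * (1 - 2 * e3) * (1 - 2 * e8))) =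
      (1 - 2 * e8) * (1 - 2 * e3) * (1 - 2 * e4) * e5 * (1 - 2 * e4) * (1 - 2 * e3) * (1 - 2 * e8)

namespace Rels

variable {R : Type*} [Ring R] {st : R → R} {e1 e2 e3 e4 e5 e6 e8 : R} (H : Rels st e1 e2 e3 e4 e5 e6 e8)
include H

theorem z21 : e2 * e1 = 0 := by
  have h := congrArg st H.z12
  rwa [H.ad.mul, H.s1, H.s2, H.ad.zero] at h

theorem z41 : e4 * e1 = 0 := by
  have h := congrArg st H.z14
  rwa [H.ad.mul, H.s1, H.s4, H.ad.zero] at h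

theorem z53 : e5 * e3 = 0 := by
  have h := congrArg st H.z35
  rwa [H.ad.mul, H.s3, H.s5, H.ad.zero] at h

theorem z81 : e8 * e1 = 0 := by
  have h := congrArg st H.z18
  rwa [H.ad.mul, H.s1, H.s8, H.ad.zero] at h

theorem z13 : e1 * e3 = 0 := by
  linear_combination (norm := noncomm_ring) e1 * H.sum - H.i1 - H.z12

theorem z31 : e3 * e1 = 0 := by
  linear_combination (norm := noncomm_ring) H.sum * e1 - H.i1 - H.z21

theorem z23 : e2 * e3 = 0 := by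
  linear_combination (norm := noncomm_ring) e2 * H.sum - H.i2 - H.z21

theorem z32 : e3 * e2 = 0 := by
  linear_combination (norm := noncomm_ring) H.sum * e2 - H.i2 - H.z12

/-! ### the frame -/

omit H in
/-- `q a` -/
theorem st_p (H : Rels st e1 e2 e3 e4 e5 e6 e8) : st (2 * (e1 * e5 * e2)) = 2 * (e2 * e5 * e1) ∧
    st (2 * (e3 * e4 * e2)) = 2 * (e2 * e4 * e3) := by
  constructor
  · rw [H.ad.mul, H.ad.mul, H.ad.mul, H.ad.two, H.s1, H.s2, H.s5]; noncomm_ring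
  · rw [H.ad.mul, H.ad.mul, H.ad.mul, H.ad.two, H.s3, H.s2, H.s4]; noncomm_ring

theorem q1p1 : (2 * (e2 * e5 * e1)) * (2 * (e1 * e5 * e2)) = e2 := by
  linear_combination (norm := noncomm_ring) 4 * (e2 * e5) * H.i1 * (e5 * e2) + 2 * e2 * H.h51 * e2 + H.h25

theorem q3p3 : (2 * (e2 * e4 * e3)) * (2 * (e3 * e4 * e2)) = e2 := by
  linear_combination (norm := noncomm_ring) 4 * (e2 * e4) * H.i3 * (e4 * e2) + 2 * e2 * H.h43 * e2 + H.h24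

theorem p1q1 : (2 * (e1 * e5 * e2)) * (2 * (e2 * e5 * e1)) = e1 := by
  linear_combination (norm := noncomm_ring) 4 * (e1 * e5) * H.i2 * (e5 * e1) + 2 * e1 * H.h52 * e1 + H.h15

theorem p3q3 : (2 * (e3 * e4 * e2)) * (2 * (e2 * e4 * e3)) = e3 := by
  linear_combination (norm := noncomm_ring) 4 * (e3 * e4) * H.i2 * (e4 * e3) + 2 * e3 * H.h42 * e3 + H.h34

theorem q1p2 : (2 * (e2 * e5 * e1)) * e2 = 0 := by
  linear_combination (norm := noncomm_ring) 2 * (e2 * e5) * H.z12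

theorem q2p1 : e2 * (2 * (e1 * e5 * e2)) = 0 := by
  linear_combination (norm := noncomm_ring) 2 * H.z21 * (e5 * e2)

theorem q1p3 : (2 * (e2 * e5 * e1)) * (2 * (e3 * e4 * e2)) = 0 := by
  linear_combination (norm := noncomm_ring) 4 * (e2 * e5) * H.z13 * (e4 * e2)

theorem q3p1 : (2 * (e2 * e4 * e3)) * (2 * (e1 * e5 * e2)) = 0 := by
  linear_combination (norm := noncomm_ring) 4 * (e2 * e4) * H.z31 * (e5 * e2)

theorem q2p3 : e2 * (2 * (e3 * e4 * e2)) = 0 := by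
  linear_combination (norm := noncomm_ring) 2 * H.z23 * (e4 * e2)

theorem q3p2 : (2 * (e2 * e4 * e3)) * e2 = 0 := by
  linear_combination (norm := noncomm_ring) 2 * (e2 * e4) * H.z32

/-- `2 e4 = (p2 + p3) (q2 + q3)` -/
theorem form4 : 2 * e4 = (e2 + 2 * (e3 * e4 * e2)) * (e2 + 2 * (e2 * e4 * e3)) := by
  linear_combination (norm := noncomm_ring) -H.p3q3 - H.i2 - 2 * H.i2 * (e4 * e3) - 2 * (e3 * e4) * H.i2 -
    2 * H.sum * e4 * (e2 + e3) - 2 * e4 * H.sum + 2 * H.z14 * (e2 + e3) + 2 * H.z41 + H.h24 + H.h34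

/-- `2 e5 = (p1 + p2) (q1 + q2)` -/
theorem form5 : 2 * e5 = (2 * (e1 * e5 * e2) + e2) * (2 * (e2 * e5 * e1) + e2) := by
  linear_combination (norm := noncomm_ring) -H.p1q1 - H.i2 - 2 * H.i2 * (e5 * e1) - 2 * (e1 * e5) * H.i2 -
    2 * H.sum * e5 * (e2 + e1) - 2 * e5 * H.sum + 2 * H.z35 * (e2 + e1) + 2 * H.z53 + H.h25 + H.h15

end Rels

/-- the frame, with the two other idempotents -/
structure Frm {R : Type*} [Ring R] (st : R → R) (ε p1 p3 q1 q3 e8 e6 : R) : Prop where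
  tw : ∀ x y : R, 2 * x = 2 * y → x = y
  ad : Adj st
  ee : ε * ε = ε
  se : st ε = ε
  s1 : st p1 = q1
  s3 : st p3 = q3
  p1e : p1 * ε = p1
  p3e : p3 * ε = p3
  eq1 : ε * q1 = q1
  eq3 : ε * q3 = q3
  q11 : q1 * p1 = ε
  q33 : q3 * p3 = ε
  q13 : q1 * p3 = 0
  q31 : q3 * p1 = 0
  q1e : q1 * ε = 0
  ep1 : ε * p1 = 0
  q3e : q3 * ε = 0
  ep3 : ε * p3 = 0
  sum : p1 * q1 + ε + p3 * q3 = 1
  i8 : e8 * e8 = e8
  i6 : e6 * e6 = e6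
  s8 : st e8 = e8
  s6 : st e6 = e6
  z8 : e8 * p1 = 0
  h28 : 2 * (ε * e8 * ε) = ε
  h38 : 2 * (q3 * e8 * p3) = ε
  h83 : 2 * (e8 * p3 * q3 * e8) = e8
  h48 : (ε + q3) * e8 * (ε + p3) = ε
  h16 : 2 * (q1 * e6 * p1) = ε
  h26 : 4 * (ε * e6 * ε) = ε
  z6 : e6 * p3 = e6 * ε
  h56 : (q1 + ε) * e6 * (p1 + ε) = ε

namespace Frm

variable {R : Type*} [Ring R] {st : R → R} {ε p1 p3 q1 q3 e8 e6 : R} (H : Frm st ε p1 p3 q1 q3 e8 e6)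
include H

theorem sq1 : st q1 = p1 := by rw [← H.s1, H.ad.st_st]
theorem sq3 : st q3 = p3 := by rw [← H.s3, H.ad.st_st]

theorem z8' : q1 * e8 = 0 := by
  have h := congrArg st H.z8
  rwa [H.ad.mul, H.s8, H.s1, H.ad.zero] at h

theorem z6' : q3 * e6 = ε * e6 := by
  have h := congrArg st H.z6
  rwa [H.ad.mul, H.ad.mul, H.s6, H.s3, H.se] at h

end Frm

/-- the quaternion `i` -/
def qI {R : Type*} [Ring R] (ε p3 e8 : R) : R := -(2 * (ε * e8 * p3))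
/-- the quaternion `X` -/
def qX {R : Type*} [Ring R] (ε q1 e6 : R) : R := 4 * (q1 * e6 * ε)

namespace Frm

variable {R : Type*} [Ring R] {st : R → R} {ε p1 p3 q1 q3 e8 e6 : R} (H : Frm st ε p1 p3 q1 q3 e8 e6)
include H

theorem eI : ε * qI ε p3 e8 = qI ε p3 e8 := by
  unfold qI
  linear_combination (norm := noncomm_ring) -2 * H.ee * e8 * p3

theorem Ie : qI ε p3 e8 * ε = qI ε p3 e8 := by
  unfold qI
  linear_combination (norm := noncomm_ring) -2 * ε * e8 * H.p3e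

theorem stI' : st (qI ε p3 e8) = -(2 * (q3 * e8 * ε)) := by
  unfold qI
  rw [H.ad.neg, H.ad.mul, H.ad.mul, H.ad.mul, H.ad.two, H.s3, H.s8, H.se]
  noncomm_ring

/-- the other form of `i` -/
theorem I_eq : qI ε p3 e8 = 2 * (q3 * e8 * ε) := by
  unfold qI
  linear_combination (norm := noncomm_ring) -2 * H.h48 + H.h28 + H.h38

theorem stI : st (qI ε p3 e8) = -qI ε p3 e8 := by rw [H.stI', ← H.I_eq]

theorem II : qI ε p3 e8 * qI ε p3 e8 = -ε := by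
  have h : qI ε p3 e8 * qI ε p3 e8 = -(2 * (ε * e8 * p3)) * (2 * (q3 * e8 * ε)) := by
    conv_lhs => arg 2; rw [H.I_eq]
    rfl
  rw [h]
  linear_combination (norm := noncomm_ring) -2 * ε * H.h83 * ε - H.h28

theorem q1I : q1 * qI ε p3 e8 = 0 := by
  rw [← H.eI]
  linear_combination (norm := noncomm_ring) H.q1e * qI ε p3 e8

theorem q3I : q3 * qI ε p3 e8 = 0 := by
  rw [← H.eI]
  linear_combination (norm := noncomm_ring) H.q3e * qI ε p3 e8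

theorem Ip1 : qI ε p3 e8 * p1 = 0 := by
  rw [← H.Ie]
  linear_combination (norm := noncomm_ring) qI ε p3 e8 * H.ep1

theorem form8 : 2 * e8 = (ε + p3 * qI ε p3 e8) * (ε - qI ε p3 e8 * q3) := by
  have h1 : (ε + p3 * qI ε p3 e8) * (ε - qI ε p3 e8 * q3) =
      ε + p3 * (2 * (q3 * e8 * ε)) + 2 * (ε * e8 * p3) * q3 + p3 * q3 := by
    rw [← H.I_eq]
    have h2 : 2 * (ε * e8 * p3) = -qI ε p3 e8 := by unfold qI; noncomm_ring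
    rw [h2]
    linear_combination (norm := noncomm_ring) H.ee - H.eI * q3 + p3 * H.Ie - p3 * H.II * q3 + p3 * H.eq3
  rw [h1]
  linear_combination (norm := noncomm_ring) -2 * H.sum * e8 * (ε + p3 * q3) - 2 * e8 * H.sum + 2 * H.z8 * q1 +
    2 * p1 * H.z8' * (ε + p3 * q3) + H.h28 + p3 * H.h38 * q3 + p3 * H.eq3

theorem eX : ε * qX ε q1 e6 = qX ε q1 e6 := by
  unfold qX
  linear_combination (norm := noncomm_ring) 4 * H.eq1 * e6 * ε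

theorem Xe : qX ε q1 e6 * ε = qX ε q1 e6 := by
  unfold qX
  linear_combination (norm := noncomm_ring) 4 * q1 * e6 * H.ee

theorem stX' : st (qX ε q1 e6) = 4 * (ε * e6 * p1) := by
  unfold qX
  rw [H.ad.mul, H.ad.mul, H.ad.mul, H.ad.four, H.sq1, H.s6, H.se]
  noncomm_ring

theorem stX : st (qX ε q1 e6) = ε - qX ε q1 e6 := by
  rw [H.stX']
  unfold qX
  linear_combination (norm := noncomm_ring) 4 * H.h56 - 2 * H.h16 - H.h26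

theorem XsX : qX ε q1 e6 * (4 * (ε * e6 * p1)) = 2 * ε := by
  apply H.tw
  unfold qX
  linear_combination (norm := noncomm_ring) 16 * q1 * e6 * H.sum * e6 * p1 + 16 * q1 * H.i6 * p1 -
    16 * q1 * H.z6 * q3 * e6 * p1 - 16 * q1 * e6 * ε * H.z6' * p1 + 16 * q1 * e6 * H.ee * e6 * p1 +
    8 * H.h16 - 4 * H.h16 * (2 * (q1 * e6 * p1)) - 4 * ε * H.h16 - 4 * H.ee

theorem XX : qX ε q1 e6 * qX ε q1 e6 = qX ε q1 e6 - 2 * ε := by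
  have h := H.XsX
  rw [← H.stX', H.stX] at h
  linear_combination (norm := noncomm_ring) -h + H.Xe

theorem XI (h9 : 2 * ((q1 - qI ε p3 e8) * e6 * (p1 + qI ε p3 e8)) = ε) :
    qX ε q1 e6 * qI ε p3 e8 + qI ε p3 e8 * qX ε q1 e6 = qI ε p3 e8 - ε := by
  have hX : qX ε q1 e6 * qI ε p3 e8 = 4 * (q1 * e6 * qI ε p3 e8) := by
    unfold qX
    linear_combination (norm := noncomm_ring) 4 * q1 * e6 * H.eI
  have hX' : qI ε p3 e8 * (ε - qX ε q1 e6) = 4 * (qI ε p3 e8 * e6 * p1) := by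
    rw [← H.stX, H.stX']
    linear_combination (norm := noncomm_ring) 4 * H.Ie * e6 * p1
  have h6 : 4 * (qI ε p3 e8 * e6 * qI ε p3 e8) = -ε := by
    rw [← H.II]
    have h1 : qI ε p3 e8 * e6 * qI ε p3 e8 = qI ε p3 e8 * ε * e6 * (ε * qI ε p3 e8) := by rw [H.Ie, H.eI]
    rw [h1]
    linear_combination (norm := noncomm_ring) qI ε p3 e8 * H.h26 * qI ε p3 e8 + qI ε p3 e8 * H.eI
  linear_combination (norm := noncomm_ring) 2 * h9 - 2 * H.h16 + h6 + hX - hX' + H.Ie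

theorem form6 : 4 * e6 = (p1 * qX ε q1 e6 + ε + p3) * ((ε - qX ε q1 e6) * q1 + ε + q3) := by
  have h1 : (p1 * qX ε q1 e6 + ε + p3) * ((ε - qX ε q1 e6) * q1 + ε + q3) =
      2 * (p1 * q1) + p1 * qX ε q1 e6 + p1 * qX ε q1 e6 * q3 + (ε - qX ε q1 e6) * q1 + p3 * (ε - qX ε q1 e6) * q1 +
        ε + q3 + p3 + p3 * q3 := by
    linear_combination (norm := noncomm_ring) p1 * H.Xe * q1 - p1 * H.XX * q1 + p1 * H.Xe + H.ee * q1 - H.eX * q1 +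
      H.ee + H.eq3 + H.p3e + 2 * p1 * H.eq1
  rw [h1]
  have hX : p1 * qX ε q1 e6 = 4 * (p1 * q1 * e6 * ε) := by unfold qX; noncomm_ring
  have hX' : (ε - qX ε q1 e6) * q1 = 4 * (ε * e6 * p1) * q1 := by rw [← H.stX', H.stX]
  rw [mul_assoc p3, hX, hX']
  linear_combination (norm := noncomm_ring) -4 * H.sum * e6 - 4 * (p1 * q1 + ε + p3 * q3) * e6 * H.sum +
    4 * (p1 * q1 + ε + p3 * q3) * H.z6 * q3 + 4 * p3 * H.z6' * (p1 * q1 + ε + ε * q3) + p1 * (2 * H.h16) * q1 +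
    H.h26 + H.h26 * q3 + H.eq3 + p3 * H.h26 + H.p3e + p3 * H.h26 * q3 + p3 * H.eq3 + 2 * p1 * H.eq1

end Frm

end Cfsg.Agent.H476.JTwo
end

-- part: H476/JTwo/Mat
section
/-!
# Self-adjoint idempotents of rank two (helper476, for S5806)
-/

set_option autoImplicit false
set_option linter.unusedSectionVars false

namespace Cfsg.Agent.H476.JTwo

open Cfsg Cfsg.Geo Matrix Module

universe u

/-- matrices of size six -/
abbrev M6 (F : Type u) := Matrix (Fin 3 ⊕ Fin 3) (Fin 3 ⊕ Fin 3) F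

variable {F : Type u} [Field F]

/-- the adjoint -/
def sa (A : M6 F) : M6 F := -(Matrix.J (Fin 3) F * Aᵀ * Matrix.J (Fin 3) F)

theorem JJ : Matrix.J (Fin 3) F * Matrix.J (Fin 3) F = -1 := Matrix.J_squared _ _

theorem sa_smul (c : F) (A : M6 F) : sa (c • A) = c • sa A := by
  unfold sa
  rw [Matrix.transpose_smul, Matrix.mul_smul, Matrix.smul_mul, smul_neg]

theorem adj_sa : Adj (sa : M6 F → M6 F) where
  add a b := by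
    unfold sa
    rw [Matrix.transpose_add, Matrix.mul_add, Matrix.add_mul, neg_add]
  mul a b := by
    unfold sa
    rw [Matrix.transpose_mul, neg_mul_neg]
    have h : Matrix.J (Fin 3) F * bᵀ * Matrix.J (Fin 3) F * (Matrix.J (Fin 3) F * aᵀ * Matrix.J (Fin 3) F) =
        Matrix.J (Fin 3) F * bᵀ * (Matrix.J (Fin 3) F * Matrix.J (Fin 3) F) * aᵀ * Matrix.J (Fin 3) F := by
      simp only [Matrix.mul_assoc]
    rw [h, JJ]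
    simp only [Matrix.mul_assoc, Matrix.mul_neg, Matrix.neg_mul, Matrix.mul_one]
  st_st a := by
    unfold sa
    have hJ : (Matrix.J (Fin 3) F)ᵀ = -Matrix.J (Fin 3) F := Matrix.J_transpose _ _
    rw [Matrix.transpose_neg, Matrix.transpose_mul, Matrix.transpose_mul, Matrix.transpose_transpose, hJ]
    have h : Matrix.J (Fin 3) F * -(-Matrix.J (Fin 3) F * (a * -Matrix.J (Fin 3) F)) * Matrix.J (Fin 3) F =
        -((Matrix.J (Fin 3) F * Matrix.J (Fin 3) F) * a * (Matrix.J (Fin 3) F * Matrix.J (Fin 3) F)) := by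
      simp only [Matrix.mul_assoc, Matrix.mul_neg, Matrix.neg_mul, neg_neg]
    rw [h, JJ]
    simp

theorem form_sa (A : M6 F) (x y : Fin 3 ⊕ Fin 3 → F) :
    sympForm 3 F (A *ᵥ x) y = sympForm 3 F x (sa A *ᵥ y) := by
  unfold sympForm sa
  have h : Matrix.J (Fin 3) F *ᵥ (-(Matrix.J (Fin 3) F * Aᵀ * Matrix.J (Fin 3) F) *ᵥ y) =
      Aᵀ *ᵥ (Matrix.J (Fin 3) F *ᵥ y) := by
    rw [Matrix.mulVec_mulVec, Matrix.mulVec_mulVec]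
    congr 1
    rw [Matrix.mul_neg, ← Matrix.mul_assoc, ← Matrix.mul_assoc, JJ]
    simp
  rw [h, Matrix.mulVec_transpose, dotProduct_comm (A *ᵥ x), Matrix.dotProduct_mulVec, dotProduct_comm]

theorem sa_mul_self {g : GL (Fin 3 ⊕ Fin 3) F} (hg : g ∈ spGL 3 F) : sa (g : M6 F) * (g : M6 F) = 1 := by
  have h1 := H914.S6.transpose_J hg
  unfold sa
  rw [Matrix.neg_mul, Matrix.mul_assoc, Matrix.mul_assoc, ← Matrix.mul_assoc (g : M6 F)ᵀ, h1, JJ, neg_neg]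

theorem mem_sp_of_sa {g : GL (Fin 3 ⊕ Fin 3) F} (h : sa (g : M6 F) * (g : M6 F) = 1) : g ∈ spGL 3 F := by
  rw [H931.mem_spGL_iff]
  intro u v
  rw [form_sa, Matrix.mulVec_mulVec, h, Matrix.one_mulVec]

/-- self-adjoint idempotent of rank two -/
structure Rf (e : M6 F) : Prop where
  idem : e * e = e
  adj : sa e = e
  rk : e.rank = 2

theorem form_symp : IsSymplecticForm (sympForm 3 F) := H924.isSymplecticForm_sympForm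

theorem form_ne {v : Fin 3 ⊕ Fin 3 → F} (hv : v ≠ 0) : ∃ x, sympForm 3 F v x ≠ 0 := by
  obtain ⟨⟨x, hx⟩, -⟩ := form_symp.nondegenerate v hv
  refine ⟨x, fun h => hx ?_⟩
  rw [form_symp.skew, h, neg_zero]

theorem finrank_six : finrank F (Fin 3 ⊕ Fin 3 → F) = 6 := by
  rw [Module.finrank_fintype_fun_eq_card]
  rfl

theorem rank_even {e : M6 F} (h1 : e * e = e) (h2 : sa e = e) : ∃ m : ℕ, e.rank = m + m := by
  let B : LinearMap.BilinForm F (Fin 3 ⊕ Fin 3 → F) := Matrix.toBilin' (eᵀ * Matrix.J (Fin 3) F)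
  have hB : ∀ x y, B x y = sympForm 3 F (e *ᵥ x) y := by
    intro x y
    change Matrix.toBilin' (eᵀ * Matrix.J (Fin 3) F) x y = _
    rw [Matrix.toBilin'_apply']
    unfold sympForm
    rw [← Matrix.mulVec_mulVec, Matrix.mulVec_transpose, dotProduct_comm (e *ᵥ x), Matrix.dotProduct_mulVec,
      dotProduct_comm]
  have hA : B.IsAlt := by
    intro x
    rw [hB]
    have : e *ᵥ x = e *ᵥ (e *ᵥ x) := by rw [Matrix.mulVec_mulVec, h1]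
    rw [this, form_sa, h2]
    exact form_symp.alternating _
  obtain ⟨m, hm⟩ := ClassicalGeometry.TwoFamilies.exists_finrank_eq_ker_add B hA
  have hk : LinearMap.ker B = LinearMap.ker e.mulVecLin := by
    ext x
    rw [LinearMap.mem_ker, LinearMap.mem_ker, Matrix.mulVecLin_apply]
    constructor
    · intro h
      by_contra hx
      obtain ⟨y, hy⟩ := form_ne hx
      apply hy
      rw [← hB, h]
      rfl
    · intro h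
      ext y
      simp only [LinearMap.comp_apply, LinearMap.zero_apply]
      rw [hB, h]
      unfold sympForm
      rw [zero_dotProduct]
  rw [hk, finrank_six] at hm
  have h3 := LinearMap.finrank_range_add_finrank_ker e.mulVecLin
  rw [finrank_six] at h3
  refine ⟨m, ?_⟩
  unfold Matrix.rank
  omega

theorem rank_add_le' (A B : M6 F) : (A + B).rank ≤ A.rank + B.rank := by
  unfold Matrix.rank
  rw [Matrix.mulVecLin_add]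
  calc finrank F (LinearMap.range (A.mulVecLin + B.mulVecLin)) ≤
      finrank F (LinearMap.range A.mulVecLin ⊔ LinearMap.range B.mulVecLin : Submodule F _) :=
        Submodule.finrank_mono (LinearMap.range_add_le _ _)
    _ ≤ _ := Submodule.finrank_add_le_finrank_add_finrank _ _

theorem eq_zero_of_rank {A : M6 F} (h : A.rank = 0) : A = 0 := by
  have h1 : LinearMap.range A.mulVecLin = ⊥ := Submodule.finrank_eq_zero.1 h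
  ext i j
  have h2 : A.mulVecLin (Pi.single j 1) ∈ LinearMap.range A.mulVecLin := ⟨_, rfl⟩
  rw [h1, Submodule.mem_bot, Matrix.mulVecLin_apply, Matrix.mulVec_single_one] at h2
  exact congrFun h2 i

theorem rank_add {e : M6 F} (h1 : e * e = e) : e.rank + (1 - e).rank = 6 := by
  apply le_antisymm
  · have h3 := LinearMap.finrank_range_add_finrank_ker (1 - e).mulVecLin
    rw [finrank_six] at h3
    have h4 : LinearMap.range e.mulVecLin ≤ LinearMap.ker (1 - e).mulVecLin := by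
      rintro _ ⟨x, rfl⟩
      rw [LinearMap.mem_ker, Matrix.mulVecLin_apply, Matrix.mulVecLin_apply, Matrix.mulVec_mulVec, sub_mul, one_mul, h1,
        sub_self, Matrix.zero_mulVec]
    have h5 := Submodule.finrank_mono h4
    unfold Matrix.rank
    omega
  · have h := rank_add_le' e (1 - e)
    rw [add_sub_cancel, Matrix.rank_one] at h
    exact h

theorem rf_cases {e : M6 F} (h1 : e * e = e) (h2 : sa e = e) (h3 : e ≠ 0) (h4 : e ≠ 1) : Rf e ∨ Rf (1 - e) := by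
  have hS := adj_sa (F := F)
  have h1' : (1 - e) * (1 - e) = 1 - e := by linear_combination (norm := noncomm_ring) h1
  have h2' : sa (1 - e) = 1 - e := by rw [hS.sub, hS.one, h2]
  obtain ⟨m, hm⟩ := rank_even h1 h2
  obtain ⟨m', hm'⟩ := rank_even h1' h2'
  have h5 := rank_add h1
  have h6 : e.rank ≠ 0 := fun h => h3 (eq_zero_of_rank h)
  have h7 : (1 - e).rank ≠ 0 := fun h => h4 (sub_eq_zero.1 (eq_zero_of_rank h)).symm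
  by_cases h : m = 1
  · left
    exact ⟨h1, h2, by omega⟩
  · right
    exact ⟨h1', h2', by omega⟩

namespace Rf

variable {e f : M6 F}

theorem ne_zero (h : Rf e) : e ≠ 0 := by
  intro h0
  have h1 := h.rk
  rw [h0, Matrix.rank_zero] at h1
  omega

/-- no unit in `e R + f R` -/
theorem no_unit (he : Rf e) (hf : Rf f) (a b : M6 F) (c : F) (hc : c ≠ 0) : e * a + f * b ≠ c • (1 : M6 F) := by
  intro h
  have h1 := rank_add_le' (e * a) (f * b)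
  have h2 := Matrix.rank_mul_le_left e a
  have h3 := Matrix.rank_mul_le_left f b
  rw [he.rk] at h2
  rw [hf.rk] at h3
  rw [h] at h1
  have h4 : (c • (1 : M6 F)).rank = 6 := by
    have h5 := Matrix.rank_mul_le_left (c • (1 : M6 F)) (c⁻¹ • (1 : M6 F))
    rw [Matrix.smul_mul, Matrix.one_mul, smul_smul, mul_inv_cancel₀ hc, one_smul, Matrix.rank_one] at h5
    have h6 := Matrix.rank_le_card_width (c • (1 : M6 F))
    have h7 : Fintype.card (Fin 3 ⊕ Fin 3) = 6 := rfl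
    omega
  omega

theorem conj (he : Rf e) {a b : M6 F} (hab : b * a = 1) (hb : sa a = b) : Rf (a * e * b) := by
  have hS := adj_sa (F := F)
  have hab' : a * b = 1 := mul_eq_one_comm.1 hab
  refine ⟨?_, ?_, ?_⟩
  · linear_combination (norm := noncomm_ring) a * e * hab * e * b + a * he.idem * b
  · rw [hS.mul, hS.mul, he.adj, hb, ← hb, hS.st_st, mul_assoc]
  · apply le_antisymm
    · calc (a * e * b).rank ≤ (a * e).rank := Matrix.rank_mul_le_left _ _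
        _ ≤ e.rank := Matrix.rank_mul_le_right _ _
        _ = 2 := he.rk
    · have h1 : e = b * (a * e * b) * a := by
        have : b * (a * e * b) * a = (b * a) * e * (b * a) := by noncomm_ring
        rw [this, hab, one_mul, mul_one]
      calc 2 = e.rank := he.rk.symm
        _ = (b * (a * e * b) * a).rank := by rw [← h1]
        _ ≤ (b * (a * e * b)).rank := Matrix.rank_mul_le_left _ _
        _ ≤ (a * e * b).rank := Matrix.rank_mul_le_right _ _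

/-- self-adjoint elements are scalars on the image of `e` -/
theorem scalar (he : Rf e) (h2 : (2 : F) ≠ 0) {A : M6 F} (hA : sa A = A) : ∃ c : F, e * A * e = c • e := by
  obtain ⟨w, hw⟩ : ∃ x, e *ᵥ x ≠ 0 := by
    by_contra hcon
    push Not at hcon
    apply he.ne_zero
    ext i j
    have := congrFun (hcon (Pi.single j 1)) i
    rw [Matrix.mulVec_single_one] at this
    exact this
  set w1 := e *ᵥ w with hw1
  have ew1 : e *ᵥ w1 = w1 := by rw [hw1, Matrix.mulVec_mulVec, he.idem]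
  obtain ⟨y, hy⟩ := form_ne hw
  set w2 := e *ᵥ y with hw2
  have ew2 : e *ᵥ w2 = w2 := by rw [hw2, Matrix.mulVec_mulVec, he.idem]
  have hb : sympForm 3 F w1 w2 ≠ 0 := by
    rw [← ew1, form_sa, he.adj] at hy
    exact hy
  have hB := form_symp (F := F)
  -- the image of `e`
  have hspan : ∀ z, ∃ α β : F, e *ᵥ z = α • w1 + β • w2 := by
    intro z
    have hli : LinearIndependent F ![w1, w2] := by
      rw [LinearIndependent.pair_iff]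
      intro s t hst
      have h3 : sympForm 3 F (s • w1 + t • w2) w2 = 0 := by
        rw [hst]
        unfold sympForm
        rw [zero_dotProduct]
      have h4 : sympForm 3 F (s • w1 + t • w2) w1 = 0 := by
        rw [hst]
        unfold sympForm
        rw [zero_dotProduct]
      rw [hB.bilinear.add_left, hB.bilinear.smul_left, hB.bilinear.smul_left, hB.alternating, mul_zero, add_zero] at h3
      rw [hB.bilinear.add_left, hB.bilinear.smul_left, hB.bilinear.smul_left, hB.alternating, mul_zero, zero_add,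
        hB.skew w2 w1, mul_neg, neg_eq_zero] at h4
      exact ⟨(mul_eq_zero.1 h3).resolve_right hb, (mul_eq_zero.1 h4).resolve_right hb⟩
    have hle : Submodule.span F (Set.range ![w1, w2]) ≤ LinearMap.range e.mulVecLin := by
      rw [Submodule.span_le]
      rintro _ ⟨i, rfl⟩
      fin_cases i
      · exact ⟨w1, ew1⟩
      · exact ⟨w2, ew2⟩
    have hfr : finrank F (Submodule.span F (Set.range ![w1, w2])) = finrank F (LinearMap.range e.mulVecLin) := by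
      rw [finrank_span_eq_card hli, Fintype.card_fin]
      exact he.rk.symm
    have heq := Submodule.eq_of_le_of_finrank_eq hle hfr
    have hz : e *ᵥ z ∈ Submodule.span F (Set.range ![w1, w2]) := by
      rw [heq]
      exact ⟨z, rfl⟩
    rw [Matrix.range_cons, Matrix.range_cons, Matrix.range_empty, Set.union_empty, Set.singleton_union,
      Submodule.mem_span_pair] at hz
    obtain ⟨α, β, h⟩ := hz
    exact ⟨α, β, h.symm⟩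
  -- diagonal
  have hdiag : ∀ v, sympForm 3 F v (A *ᵥ v) = 0 := by
    intro v
    have h3 : sympForm 3 F v (A *ᵥ v) = -sympForm 3 F v (A *ᵥ v) := by
      conv_lhs => rw [← hA, ← form_sa]
      exact hB.skew _ _
    have h4 : (2 : F) * sympForm 3 F v (A *ᵥ v) = 0 := by linear_combination h3
    exact (mul_eq_zero.1 h4).resolve_left h2
  obtain ⟨α, β, h11⟩ := hspan (A *ᵥ w1)
  obtain ⟨γ, δ, h12⟩ := hspan (A *ᵥ w2)
  have z1 : ∀ v, sympForm 3 F w1 (e *ᵥ v) = sympForm 3 F w1 v := by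
    intro v
    conv_rhs => rw [← ew1, form_sa, he.adj]
  have z2 : ∀ v, sympForm 3 F w2 (e *ᵥ v) = sympForm 3 F w2 v := by
    intro v
    conv_rhs => rw [← ew2, form_sa, he.adj]
  have hβ : β = 0 := by
    have h3 := z1 (A *ᵥ w1)
    rw [h11, hdiag, hB.bilinear.add_right, hB.bilinear.smul_right, hB.bilinear.smul_right, hB.alternating, mul_zero,
      zero_add] at h3
    exact (mul_eq_zero.1 h3).resolve_right hb
  have hγ : γ = 0 := by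
    have h3 := z2 (A *ᵥ w2)
    rw [h12, hdiag, hB.bilinear.add_right, hB.bilinear.smul_right, hB.bilinear.smul_right, hB.alternating, mul_zero,
      add_zero, hB.skew w2 w1, mul_neg, neg_eq_zero] at h3
    exact (mul_eq_zero.1 h3).resolve_right hb
  have hδ : δ = α := by
    have h3 := z1 (A *ᵥ w2)
    have h4 := z2 (A *ᵥ w1)
    rw [h12, hγ, zero_smul, zero_add, hB.bilinear.smul_right] at h3
    rw [h11, hβ, zero_smul, add_zero, hB.bilinear.smul_right] at h4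
    have h5 : sympForm 3 F w1 (A *ᵥ w2) = -sympForm 3 F w2 (A *ᵥ w1) := by
      conv_lhs => rw [← hA, ← form_sa]
      exact hB.skew _ _
    rw [hB.skew w2 w1] at h4
    have h6 : (δ - α) * sympForm 3 F w1 w2 = 0 := by linear_combination h3 + h4 + h5
    exact sub_eq_zero.1 ((mul_eq_zero.1 h6).resolve_right hb)
  refine ⟨α, ?_⟩
  have key : ∀ z, (e * A * e) *ᵥ z = (α • e) *ᵥ z := by
    intro z
    obtain ⟨a, b, hz⟩ := hspan z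
    rw [← Matrix.mulVec_mulVec, ← Matrix.mulVec_mulVec, Matrix.smul_mulVec, hz, Matrix.mulVec_add, Matrix.mulVec_add,
      Matrix.mulVec_smul, Matrix.mulVec_smul, Matrix.mulVec_smul, Matrix.mulVec_smul, h11, h12, hβ, hγ, hδ]
    simp only [zero_smul, add_zero, zero_add, smul_add, smul_smul, mul_comm]
  ext i j
  have := congrFun (key (Pi.single j 1)) i
  rw [Matrix.mulVec_single_one, Matrix.mulVec_single_one] at this
  exact this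

end Rf

end Cfsg.Agent.H476.JTwo
end

-- part: H476/JTwo/Pair
section
/-!
# Two reflections (helper476, for S5806)
-/

set_option autoImplicit false
set_option linter.unusedSectionVars false

namespace Cfsg.Agent.H476.JTwo

open Cfsg Cfsg.Geo Matrix Module

universe u

variable {F : Type u} [Field F] {e f : M6 F}

theorem two_mul_eq (x : M6 F) : 2 * x = (2 : F) • x := by
  rw [ofNat_smul_eq_nsmul, nsmul_eq_mul]; rfl

theorem four_mul_eq (x : M6 F) : 4 * x = (4 : F) • x := by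
  rw [ofNat_smul_eq_nsmul, nsmul_eq_mul]; rfl

theorem three_mul_eq (x : M6 F) : 3 * x = (3 : F) • x := by
  rw [ofNat_smul_eq_nsmul, nsmul_eq_mul]; rfl

/-- the reflection -/
def rr (e : M6 F) : M6 F := 1 - 2 * e

theorem Rf.rr_rr (he : Rf e) : rr e * rr e = 1 := by
  unfold rr
  linear_combination (norm := noncomm_ring) 4 * he.idem

theorem pow_form (e f : M6 F) (m : ℕ) : ∃ a b : M6 F, (rr e * rr f) ^ m = 1 - (e * a + f * b) := by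
  induction m with
  | zero => exact ⟨0, 0, by simp⟩
  | succ m ih =>
    obtain ⟨a, b, h⟩ := ih
    have h1 : rr e * rr f = 1 - (e * (2 - 4 * f) + f * 2) := by
      unfold rr
      noncomm_ring
    refine ⟨a + (2 - 4 * f) - a * (e * (2 - 4 * f) + f * 2), b + 2 - b * (e * (2 - 4 * f) + f * 2), ?_⟩
    rw [pow_succ, h, h1]
    noncomm_ring

theorem Rf.pow_one_of (he : Rf e) (hf : Rf f) (h2 : (2 : F) ≠ 0) {m : ℕ}
    (h : (rr e * rr f) ^ m = 1 ∨ (rr e * rr f) ^ m = -1) : (rr e * rr f) ^ m = 1 := by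
  rcases h with h | h
  · exact h
  · exfalso
    obtain ⟨a, b, hab⟩ := pow_form e f m
    apply he.no_unit hf a b 2 h2
    rw [← two_mul_eq]
    rw [h] at hab
    linear_combination (norm := noncomm_ring) hab

theorem Rf.st_mul_zero (he : Rf e) (hf : Rf f) (h : e * f = 0) : f * e = 0 := by
  have h1 := congrArg sa h
  rwa [adj_sa.mul, he.adj, hf.adj, adj_sa.zero] at h1

/-- `s e = e` -/
theorem Rf.eq_of_fix (he : Rf e) (hf : Rf f) (h2 : (2 : F) ≠ 0) (h : rr e * rr f * e = e) : e = f := by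
  have h1 : rr f * e = -e := by
    have h3 : rr e * (rr e * rr f * e) = rr e * e := by rw [h]
    have h4 : rr e * e = -e := by
      unfold rr
      linear_combination (norm := noncomm_ring) -2 * he.idem
    rw [← mul_assoc, ← mul_assoc, he.rr_rr, one_mul, h4] at h3
    exact h3
  have h5 : f * e = e := by
    have h6 : (2 : F) • (f * e) = (2 : F) • e := by
      rw [← two_mul_eq, ← two_mul_eq]
      unfold rr at h1
      linear_combination (norm := noncomm_ring) -h1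
    exact smul_right_injective _ h2 h6
  have h7 : e * f = e := by
    have := congrArg sa h5
    rwa [adj_sa.mul, he.adj, hf.adj] at this
  obtain ⟨c, hc⟩ := hf.scalar h2 he.adj
  rw [h5, h7] at hc
  have h8 : (c * c) • f = c • f := by
    have := he.idem
    rw [hc, smul_mul_smul_comm, hf.idem] at this
    exact this
  have h9 : c * c = c := smul_left_injective F hf.ne_zero h8
  have hc0 : c ≠ 0 := by
    rintro rfl
    rw [zero_smul] at hc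
    exact he.ne_zero hc
  have hc1 : c = 1 := mul_left_cancel₀ hc0 (by rw [h9, mul_one])
  rw [hc, hc1, one_smul]

/-- `s e = - e` -/
theorem Rf.orth_of_neg (he : Rf e) (h2 : (2 : F) ≠ 0) (h : rr e * rr f * e = -e) : f * e = 0 := by
  have h1 : rr f * e = e := by
    have h3 : rr e * (rr e * rr f * e) = rr e * -e := by rw [h]
    have h4 : rr e * -e = e := by
      unfold rr
      linear_combination (norm := noncomm_ring) 2 * he.idem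
    rw [← mul_assoc, ← mul_assoc, he.rr_rr, one_mul, h4] at h3
    exact h3
  have h6 : (2 : F) • (f * e) = (2 : F) • 0 := by
    rw [← two_mul_eq, smul_zero]
    unfold rr at h1
    linear_combination (norm := noncomm_ring) -h1
  exact smul_right_injective _ h2 h6

/-- the eigenvalue of `s + s⁻¹` -/
theorem Rf.exists_mu (he : Rf e) (hf : Rf f) (h2 : (2 : F) ≠ 0) : ∃ μ : F,
    (rr e * rr f + rr f * rr e) * e = μ • e ∧ (4 : F) • (e * f * e) = (μ + 2) • e := by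
  obtain ⟨c, hc⟩ := he.scalar h2 hf.adj
  refine ⟨4 * c - 2, ?_, ?_⟩
  · have h1 : (rr e * rr f + rr f * rr e) * e = 4 * (e * f * e) - 2 * e := by
      unfold rr
      linear_combination (norm := noncomm_ring) -4 * he.idem + 4 * f * he.idem
    rw [h1, hc, two_mul_eq, four_mul_eq]
    module
  · rw [hc]
    module

theorem pair2 (he : Rf e) (hf : Rf f) (h2 : (2 : F) ≠ 0) (h : (rr e * rr f) ^ 2 = 1 ∨ (rr e * rr f) ^ 2 = -1)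
    (hne : e ≠ f) : e * f = 0 := by
  have h1 := he.pow_one_of hf h2 h
  obtain ⟨μ, hμ, -⟩ := he.exists_mu hf h2
  have hs : rr f * rr e = rr e * rr f := by
    have h3 : rr f * rr e * (rr e * rr f) ^ 2 = rr e * rr f := by
      rw [pow_two]
      calc rr f * rr e * (rr e * rr f * (rr e * rr f)) = rr f * (rr e * rr e) * rr f * (rr e * rr f) := by noncomm_ring
        _ = rr e * rr f := by rw [he.rr_rr, mul_one, hf.rr_rr, one_mul]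
    rw [h1, mul_one] at h3
    exact h3
  rw [hs] at hμ
  have h4 : (μ * μ) • e = (4 : F) • e := by
    rw [← smul_smul, ← hμ, ← mul_smul_comm, ← hμ, ← four_mul_eq]
    rw [pow_two] at h1
    linear_combination (norm := noncomm_ring) 4 * h1 * e
  have h5 : μ * μ = 4 := smul_left_injective F he.ne_zero h4
  have h6 : (μ - 2) * (μ + 2) = 0 := by linear_combination h5
  rcases mul_eq_zero.1 h6 with h7 | h7
  · exfalso
    apply hne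
    apply he.eq_of_fix hf h2
    apply smul_right_injective _ h2
    simp only
    rw [← two_mul_eq]
    rw [sub_eq_zero.1 h7] at hμ
    linear_combination (norm := noncomm_ring) hμ
  · apply hf.st_mul_zero he
    apply he.orth_of_neg h2
    apply smul_right_injective _ h2
    simp only
    rw [← two_mul_eq, smul_neg]
    rw [eq_neg_of_add_eq_zero_left h7, neg_smul] at hμ
    linear_combination (norm := noncomm_ring) hμ

/-- `s⁻¹` -/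
theorem Rf.s_t (he : Rf e) (hf : Rf f) : rr e * rr f * (rr f * rr e) = 1 := by
  calc rr e * rr f * (rr f * rr e) = rr e * (rr f * rr f) * rr e := by noncomm_ring
    _ = 1 := by rw [hf.rr_rr, mul_one, he.rr_rr]

theorem Rf.unip (he : Rf e) (hf : Rf f) (hμ : (rr e * rr f + rr f * rr e) * e = (2 : F) • e) :
    (rr e * rr f - 1) * ((rr e * rr f - 1) * e) = 0 := by
  have h1 := he.s_t hf
  have h3 : (rr e * rr f - 1) * ((rr e * rr f - 1) * e) = rr e * rr f * ((rr e * rr f + rr f * rr e) * e) -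
      2 * (rr e * rr f * e) := by
    linear_combination (norm := noncomm_ring) -h1 * e
  rw [h3, hμ, mul_smul_comm, two_mul_eq, sub_self]

theorem Rf.unip' (he : Rf e) (hf : Rf f) (hμ : (rr e * rr f + rr f * rr e) * e = (-2 : F) • e) :
    (rr e * rr f + 1) * ((rr e * rr f + 1) * e) = 0 := by
  have h1 := he.s_t hf
  have h3 : (rr e * rr f + 1) * ((rr e * rr f + 1) * e) = rr e * rr f * ((rr e * rr f + rr f * rr e) * e) +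
      2 * (rr e * rr f * e) := by
    linear_combination (norm := noncomm_ring) -h1 * e
  rw [h3, hμ, mul_smul_comm, two_mul_eq, neg_smul, neg_add_cancel]

theorem pair3 (he : Rf e) (hf : Rf f) (h2 : (2 : F) ≠ 0) (h3 : (3 : F) ≠ 0)
    (h : (rr e * rr f) ^ 3 = 1 ∨ (rr e * rr f) ^ 3 = -1) (hne : e ≠ f) : 4 * (e * f * e) = e := by
  have h1 := he.pow_one_of hf h2 h
  obtain ⟨μ, hμ, hl⟩ := he.exists_mu hf h2
  have hst := he.s_t hf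
  have hts := hf.s_t he
  have hs : rr f * rr e = (rr e * rr f) ^ 2 := by
    have h4 : rr f * rr e * (rr e * rr f) ^ 3 = (rr e * rr f) ^ 2 := by
      rw [pow_succ' _ 2, ← mul_assoc, hts, one_mul]
    rw [h1, mul_one] at h4
    exact h4
  have h4 : (μ * μ) • e = (μ + 2) • e := by
    have h5 : (rr e * rr f + rr f * rr e) * ((rr e * rr f + rr f * rr e) * e) =
        (rr e * rr f + rr f * rr e) * e + 2 * e := by
      generalize rr e * rr f = s at *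
      generalize rr f * rr e = t at *
      have h6 : t * t = s := by
        rw [hs]
        calc s ^ 2 * s ^ 2 = s ^ 3 * s := by rw [← pow_add, ← pow_succ]
          _ = s := by rw [h1, one_mul]
      rw [pow_two] at hs
      linear_combination (norm := noncomm_ring) h6 * e + hst * e + hts * e - hs * e
    rw [hμ, mul_smul_comm, hμ, smul_smul, two_mul_eq] at h5
    rw [h5, add_smul]
  have h5 : μ * μ = μ + 2 := smul_left_injective F he.ne_zero h4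
  have h6 : (μ - 2) * (μ + 1) = 0 := by linear_combination h5
  rcases mul_eq_zero.1 h6 with h7 | h7
  · exfalso
    apply hne
    rw [sub_eq_zero.1 h7] at hμ
    have hN := he.unip hf hμ
    apply he.eq_of_fix hf h2
    generalize rr e * rr f = s at *
    have h8 : (3 : F) • ((s - 1) * e) = (3 : F) • 0 := by
      rw [← three_mul_eq, smul_zero]
      have h9 : s ^ 3 = s * s * s := by rw [pow_succ, pow_two]
      rw [h9] at h1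
      linear_combination (norm := noncomm_ring) h1 * e - 3 * hN - (s - 1) * hN
    have h9 := smul_right_injective _ h3 h8
    linear_combination (norm := noncomm_ring) h9
  · rw [four_mul_eq, hl]
    have h8 : μ + 2 = 1 := by linear_combination h7
    rw [h8, one_smul]

theorem pair4 (he : Rf e) (hf : Rf f) (h2 : (2 : F) ≠ 0)
    (h : (rr e * rr f) ^ 4 = 1 ∨ (rr e * rr f) ^ 4 = -1) (hne : (rr e * rr f) ^ 2 ≠ 1) : 2 * (e * f * e) = e := by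
  have h4 : (4 : F) ≠ 0 := by
    have : (4 : F) = 2 * 2 := by norm_num
    rw [this]
    exact mul_ne_zero h2 h2
  have h1 := he.pow_one_of hf h2 h
  obtain ⟨μ, hμ, hl⟩ := he.exists_mu hf h2
  have hst := he.s_t hf
  have hts := hf.s_t he
  have hs : rr f * rr e = (rr e * rr f) ^ 3 := by
    have h4 : rr f * rr e * (rr e * rr f) ^ 4 = (rr e * rr f) ^ 3 := by
      rw [pow_succ' _ 3, ← mul_assoc, hts, one_mul]
    rw [h1, mul_one] at h4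
    exact h4
  have h4' : (μ * (μ * μ)) • e = (4 * μ) • e := by
    have h5 : (rr e * rr f + rr f * rr e) * ((rr e * rr f + rr f * rr e) * ((rr e * rr f + rr f * rr e) * e)) =
        4 * ((rr e * rr f + rr f * rr e) * e) := by
      have h1' := h1
      generalize rr e * rr f = s at *
      generalize rr f * rr e = t at *
      have h6 : t * t = s * s := by
        rw [hs, ← pow_add, ← pow_two]
        calc s ^ (3 + 3) = s ^ 4 * s ^ 2 := by rw [← pow_add]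
          _ = s ^ 2 := by rw [h1, one_mul]
      have h7 : s * s * s = t := by rw [hs, pow_succ, pow_two]
      linear_combination (norm := noncomm_ring) (s + t) * h6 * e + (s + t) * hst * e + (s + t) * hts * e + 2 * h7 * e +
        2 * hts * s * e
    simp only [hμ, mul_smul_comm, smul_smul, four_mul_eq] at h5
    rw [mul_comm 4 μ, ← h5, mul_assoc]
  have h5 : μ * (μ * μ) = 4 * μ := smul_left_injective F he.ne_zero h4'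
  have h6 : μ * ((μ - 2) * (μ + 2)) = 0 := by linear_combination h5
  rcases mul_eq_zero.1 h6 with h7 | h7
  · rw [h7, zero_add] at hl
    apply smul_right_injective _ h2
    simp only
    rw [← hl, two_mul_eq, smul_smul]
    norm_num
  · exfalso
    rcases mul_eq_zero.1 h7 with h7 | h7
    · rw [sub_eq_zero.1 h7] at hμ
      have hN := he.unip hf hμ
      have hef : e = f := by
        apply he.eq_of_fix hf h2
        generalize rr e * rr f = s at *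
        have h8 : (4 : F) • ((s - 1) * e) = (4 : F) • 0 := by
          rw [← four_mul_eq, smul_zero]
          have h9 : s ^ 4 = s * s * s * s := by rw [pow_succ, pow_succ, pow_two]
          rw [h9] at h1
          linear_combination (norm := noncomm_ring) h1 * e - 6 * hN - 4 * (s - 1) * hN - (s - 1) * (s - 1) * hN
        have h9 := smul_right_injective _ h4 h8
        linear_combination (norm := noncomm_ring) h9
      apply hne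
      rw [hef, hf.rr_rr, one_pow]
    · rw [eq_neg_of_add_eq_zero_left h7] at hμ
      have hN := he.unip' hf hμ
      have h0 : f * e = 0 := by
        apply he.orth_of_neg h2
        generalize rr e * rr f = s at *
        have h8 : (4 : F) • ((s + 1) * e) = (4 : F) • 0 := by
          rw [← four_mul_eq, smul_zero]
          have h9 : s ^ 4 = s * s * s * s := by rw [pow_succ, pow_succ, pow_two]
          rw [h9] at h1
          linear_combination (norm := noncomm_ring) -h1 * e + 6 * hN - 4 * (s + 1) * hN + (s + 1) * (s + 1) * hN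
        have h9 := smul_right_injective _ h4 h8
        linear_combination (norm := noncomm_ring) h9
      have h0' := hf.st_mul_zero he h0
      apply hne
      have hc : rr e * rr f = rr f * rr e := by
        unfold rr
        linear_combination (norm := noncomm_ring) 4 * h0' - 4 * h0
      rw [pow_two]
      conv_lhs => arg 2; rw [hc]
      exact hst

end Cfsg.Agent.H476.JTwo
end

-- part: H476/JTwo/Rep
section
/-!
# Lifts of the reflections (helper476, for S5806)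
-/

set_option autoImplicit false
set_option linter.unusedSectionVars false

namespace Cfsg.Agent.H476.JTwo

open Cfsg Cfsg.Geo Matrix Module

universe u v

variable {F : Type u} [Field F] {G : Type v} [Group G] {P : Subgroup (GL (Fin 3 ⊕ Fin 3) F)}

/-- the hypotheses on the representation -/
structure RH (P : Subgroup (GL (Fin 3 ⊕ Fin 3) F)) (θ : P →* G) : Prop where
  sp : P ≤ spGL 3 F
  surj : Function.Surjective θ
  ker : ∀ b : P, θ b = 1 → (b : GL (Fin 3 ⊕ Fin 3) F) = 1 ∨ (b : GL (Fin 3 ⊕ Fin 3) F) = -1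
  ker' : ∀ b : P, (b : GL (Fin 3 ⊕ Fin 3) F) = -1 → θ b = 1
  h2 : (2 : F) ≠ 0
  h3 : (3 : F) ≠ 0

/-- `a` is a lift of `x` up to sign -/
def Lf (θ : P →* G) (a : GL (Fin 3 ⊕ Fin 3) F) (x : G) : Prop :=
  ∃ b : P, θ b = x ∧ (a = b ∨ a = -(b : GL (Fin 3 ⊕ Fin 3) F))

namespace Lf

variable {θ : P →* G} {a b : GL (Fin 3 ⊕ Fin 3) F} {x y : G}

theorem one : Lf θ 1 1 := ⟨1, map_one θ, Or.inl rfl⟩

theorem neg (h : Lf θ a x) : Lf θ (-a) x := by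
  obtain ⟨b, hb, h | h⟩ := h
  · exact ⟨b, hb, Or.inr (by rw [h])⟩
  · exact ⟨b, hb, Or.inl (by rw [h, neg_neg])⟩

theorem mul (h : Lf θ a x) (h' : Lf θ b y) : Lf θ (a * b) (x * y) := by
  obtain ⟨c, hc, h⟩ := h
  obtain ⟨d, hd, h'⟩ := h'
  refine ⟨c * d, by rw [map_mul, hc, hd], ?_⟩
  rw [Subgroup.coe_mul]
  rcases h with h | h <;> rcases h' with h' | h' <;> rw [h, h']
  · exact Or.inl rfl
  · exact Or.inr (by rw [mul_neg])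
  · exact Or.inr (by rw [neg_mul])
  · exact Or.inl (by rw [neg_mul_neg])

theorem inv (h : Lf θ a x) : Lf θ a⁻¹ x⁻¹ := by
  obtain ⟨c, hc, h⟩ := h
  refine ⟨c⁻¹, by rw [map_inv, hc], ?_⟩
  rw [Subgroup.coe_inv]
  rcases h with h | h
  · exact Or.inl (by rw [h])
  · exact Or.inr (by rw [h, inv_neg])

theorem pow (h : Lf θ a x) (n : ℕ) : Lf θ (a ^ n) (x ^ n) := by
  induction n with
  | zero => rw [pow_zero, pow_zero]; exact one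
  | succ n ih => rw [pow_succ, pow_succ]; exact ih.mul h

theorem conj (h : Lf θ a x) (h' : Lf θ b y) : Lf θ (b * a * b⁻¹) (y * x * y⁻¹) := (h'.mul h).mul h'.inv

end Lf

namespace RH

variable {θ : P →* G} (S : RH P θ) {a b : GL (Fin 3 ⊕ Fin 3) F} {x y : G}
include S

theorem exists_lf (x : G) : ∃ a, Lf θ a x := by
  obtain ⟨b, hb⟩ := S.surj x
  exact ⟨b, b, hb, Or.inl rfl⟩

theorem lf_sp (h : Lf θ a x) : a ∈ spGL 3 F := by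
  obtain ⟨b, -, h | h⟩ := h
  · rw [h]; exact S.sp b.2
  · rw [h]; exact H914.S6.neg_mem (S.sp b.2)

theorem lf_one (h : Lf θ a 1) : a = 1 ∨ a = -1 := by
  obtain ⟨b, hb, h⟩ := h
  rcases S.ker b hb with hb | hb <;> rcases h with h | h <;> rw [h, hb]
  · exact Or.inl rfl
  · exact Or.inr rfl
  · exact Or.inr rfl
  · exact Or.inl (neg_neg _)

theorem lf_uniq (h : Lf θ a x) (h' : Lf θ b x) : b = a ∨ b = -a := by
  have h1 := h'.mul h.inv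
  rw [mul_inv_cancel] at h1
  rcases S.lf_one h1 with h2 | h2
  · exact Or.inl (mul_inv_eq_one.1 h2)
  · exact Or.inr (by rw [mul_inv_eq_iff_eq_mul] at h2; rw [h2, neg_one_mul])

theorem lf_eq_one (h : Lf θ 1 x) : x = 1 := by
  obtain ⟨b, hb, h | h⟩ := h
  · rw [← hb, show b = 1 from Subtype.ext h.symm, map_one]
  · rw [← hb]
    exact S.ker' b (by
      calc (b : GL (Fin 3 ⊕ Fin 3) F) = -(-(b : GL (Fin 3 ⊕ Fin 3) F)) := (neg_neg _).symm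
        _ = -1 := by rw [← h])

theorem lf_inj (h : Lf θ a x) (h' : Lf θ a y) : x = y := by
  have h1 := h.mul h'.inv
  rw [mul_inv_cancel] at h1
  exact mul_inv_eq_one.1 (S.lf_eq_one h1)

theorem one_ne : (1 : GL (Fin 3 ⊕ Fin 3) F) ≠ -1 := by
  intro h
  have h1 := congrArg (fun g : GL (Fin 3 ⊕ Fin 3) F => (g : M6 F) (Sum.inl 0) (Sum.inl 0)) h
  simp only [Units.val_one, Units.val_neg, Matrix.one_apply_eq, Matrix.neg_apply] at h1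
  exact S.h2 (by linear_combination h1)

end RH

/-- `e` is the idempotent of the reflection lifting `x` -/
def IsR (θ : P →* G) (e : M6 F) (x : G) : Prop :=
  Rf e ∧ ∃ a, Lf θ a x ∧ (a : M6 F) = rr e

namespace RH

variable {θ : P →* G} (S : RH P θ) {a b : GL (Fin 3 ⊕ Fin 3) F} {x y : G} {e f : M6 F}
include S

theorem exR (h : Lf θ a x) (ha : a * a = 1) (hx : x ≠ 1) : ∃ e, IsR θ e x := by
  have hS := adj_sa (F := F)
  have h1 : (a : M6 F) * a = 1 := by rw [← Units.val_mul, ha, Units.val_one]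
  have h2 := sa_mul_self (S.lf_sp h)
  have h3 : sa (a : M6 F) = a := by
    calc sa (a : M6 F) = sa (a : M6 F) * a * a := by rw [mul_assoc, h1, mul_one]
      _ = a := by rw [h2, one_mul]
  have h4 : (2 : F) * 2⁻¹ = 1 := mul_inv_cancel₀ S.h2
  set e : M6 F := (2 : F)⁻¹ • (1 - (a : M6 F)) with he
  have h5 : 2 * e = 1 - a := by rw [he, two_mul_eq, smul_smul, h4, one_smul]
  have hi : e * e = e := by
    rw [he, smul_mul_smul_comm]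
    have : (1 - (a : M6 F)) * (1 - a) = (2 : F) • (1 - (a : M6 F)) := by
      rw [← two_mul_eq]
      linear_combination (norm := noncomm_ring) h1
    rw [this, smul_smul]
    congr 1
    linear_combination (2 : F)⁻¹ * h4
  have hs : sa e = e := by
    rw [he, sa_smul, hS.sub, hS.one, h3]
  have h0 : e ≠ 0 := by
    intro h0
    rw [h0, mul_zero] at h5
    apply hx
    have h6 : a = 1 := Units.ext (sub_eq_zero.1 h5.symm).symm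
    rw [h6] at h
    exact S.lf_eq_one h
  have h1' : e ≠ 1 := by
    intro h0
    rw [h0] at h5
    apply hx
    have h6 : -a = 1 := Units.ext (by
      rw [Units.val_neg, Units.val_one]
      linear_combination (norm := noncomm_ring) -h5)
    have h7 := h.neg
    rw [h6] at h7
    exact S.lf_eq_one h7
  rcases rf_cases hi hs h0 h1' with h6 | h6
  · exact ⟨e, h6, a, h, by unfold rr; rw [h5]; abel⟩
  · refine ⟨1 - e, h6, -a, h.neg, ?_⟩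
    unfold rr
    rw [Units.val_neg]
    linear_combination (norm := noncomm_ring) -h5

theorem isR_uniq (h : IsR θ e x) (h' : IsR θ f x) : e = f := by
  obtain ⟨he, a, ha, hae⟩ := h
  obtain ⟨hf, b, hb, hbf⟩ := h'
  rcases S.lf_uniq ha hb with h1 | h1
  · rw [h1, hae] at hbf
    unfold rr at hbf
    have h2 : (2 : F) • e = (2 : F) • f := by
      rw [← two_mul_eq, ← two_mul_eq]
      linear_combination (norm := noncomm_ring) -hbf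
    exact smul_right_injective _ S.h2 h2
  · exfalso
    rw [h1, Units.val_neg, hae] at hbf
    unfold rr at hbf
    apply he.no_unit hf 1 1 1 one_ne_zero
    apply smul_right_injective _ S.h2
    simp only
    rw [← two_mul_eq, ← two_mul_eq, one_smul]
    linear_combination (norm := noncomm_ring) hbf

theorem isR_ne (h : IsR θ e x) (h' : IsR θ f y) (hxy : x ≠ y) : e ≠ f := by
  rintro rfl
  obtain ⟨he, a, ha, hae⟩ := h
  obtain ⟨-, b, hb, hbf⟩ := h'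
  apply hxy
  have h1 : a = b := Units.ext (by rw [hae, hbf])
  rw [← h1] at hb
  exact S.lf_inj ha hb

theorem isR_conj (h : IsR θ e x) (h' : Lf θ b y) : IsR θ ((b : M6 F) * e * ((b⁻¹ : GL (Fin 3 ⊕ Fin 3) F) : M6 F)) (y * x * y⁻¹) := by
  obtain ⟨he, a, ha, hae⟩ := h
  have h1 : ((b⁻¹ : GL (Fin 3 ⊕ Fin 3) F) : M6 F) * (b : M6 F) = 1 := by
    rw [← Units.val_mul, inv_mul_cancel, Units.val_one]
  have h2 : (b : M6 F) * ((b⁻¹ : GL (Fin 3 ⊕ Fin 3) F) : M6 F) = 1 := by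
    rw [← Units.val_mul, mul_inv_cancel, Units.val_one]
  have h3 : sa (b : M6 F) = ((b⁻¹ : GL (Fin 3 ⊕ Fin 3) F) : M6 F) := by
    calc sa (b : M6 F) = sa (b : M6 F) * (b : M6 F) * ((b⁻¹ : GL (Fin 3 ⊕ Fin 3) F) : M6 F) := by
          rw [mul_assoc, h2, mul_one]
      _ = _ := by rw [sa_mul_self (S.lf_sp h'), one_mul]
  refine ⟨he.conj h1 h3, b * a * b⁻¹, ha.conj h', ?_⟩
  rw [Units.val_mul, Units.val_mul, hae]
  unfold rr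
  linear_combination (norm := noncomm_ring) h2

theorem pow_cases (h : IsR θ e x) (h' : IsR θ f y) {m : ℕ} (hm : (x * y) ^ m = 1) :
    (rr e * rr f) ^ m = 1 ∨ (rr e * rr f) ^ m = -1 := by
  obtain ⟨he, a, ha, hae⟩ := h
  obtain ⟨hf, b, hb, hbf⟩ := h'
  have h1 := (ha.mul hb).pow m
  rw [hm] at h1
  rw [← hae, ← hbf, ← Units.val_mul, ← Units.val_pow_eq_pow_val]
  rcases S.lf_one h1 with h2 | h2
  · left; rw [h2, Units.val_one]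
  · right; rw [h2, Units.val_neg, Units.val_one]

theorem sq_ne (h : IsR θ e x) (h' : IsR θ f y) (hm : (x * y) ^ 2 ≠ 1) : (rr e * rr f) ^ 2 ≠ 1 := by
  obtain ⟨he, a, ha, hae⟩ := h
  obtain ⟨hf, b, hb, hbf⟩ := h'
  have h1 := (ha.mul hb).pow 2
  rw [← hae, ← hbf, ← Units.val_mul, ← Units.val_pow_eq_pow_val]
  intro h2
  have h3 : (a * b) ^ 2 = 1 := Units.ext h2
  rw [h3] at h1
  exact hm (S.lf_eq_one h1)

theorem p2 (h : IsR θ e x) (h' : IsR θ f y) (hm : x * y = y * x) (hx : x * x = 1) (hy : y * y = 1) (hxy : x ≠ y) :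
    e * f = 0 := by
  refine pair2 h.1 h'.1 S.h2 (S.pow_cases h h' ?_) (S.isR_ne h h' hxy)
  rw [pow_two]
  calc x * y * (x * y) = x * (y * x) * y := by group
    _ = x * x * (y * y) := by rw [← hm]; group
    _ = 1 := by rw [hx, hy, one_mul]

theorem p3 (h : IsR θ e x) (h' : IsR θ f y) (hm : (x * y) ^ 3 = 1) (hxy : x ≠ y) : 4 * (e * f * e) = e :=
  pair3 h.1 h'.1 S.h2 S.h3 (S.pow_cases h h' hm) (S.isR_ne h h' hxy)

theorem p4 (h : IsR θ e x) (h' : IsR θ f y) (hm : (x * y) ^ 4 = 1) (hxy : (x * y) ^ 2 ≠ 1) : 2 * (e * f * e) = e :=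
  pair4 h.1 h'.1 S.h2 (S.pow_cases h h' hm) (S.sq_ne h h' hxy)

omit S in
theorem swap_pow {x y : G} {m : ℕ} (hm : (x * y) ^ m = 1) : (y * x) ^ m = 1 := by
  have h : (y * x) ^ m = y * (x * y) ^ m * y⁻¹ := by
    rw [← conj_pow]
    congr 1
    group
  rw [h, hm, mul_one, mul_inv_cancel]

theorem p4' (h : IsR θ e x) (h' : IsR θ f y) (hm : (x * y) ^ 4 = 1) (hxy : (x * y) ^ 2 ≠ 1) :
    2 * (e * f * e) = e ∧ 2 * (f * e * f) = f :=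
  ⟨S.p4 h h' hm hxy, S.p4 h' h (swap_pow hm) (fun h0 => hxy (swap_pow h0))⟩

end RH

end Cfsg.Agent.H476.JTwo
end

-- part: H476/JTwo/Frame
section
/-!
# From the relations to the frame (helper476, for S5806)
-/

set_option autoImplicit false

namespace Cfsg.Agent.H476.JTwo

theorem sandwich {R : Type*} [Ring R] (tw : ∀ x y : R, 2 * x = 2 * y → x = y) {c ct f g ε : R} (hc : ct * c = 2 * ε)
    (h1 : ε * ct = ct) (h2 : c * ε = c) (hee : ε * ε = ε) (hf : 2 * f = c * ct) (h : 2 * (f * g * f) = f) :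
    ct * g * c = ε := by
  have h' : 2 * ((c * ct) * g * (c * ct)) = 2 * (c * ct) := by
    rw [← hf]
    linear_combination (norm := noncomm_ring) 4 * h
  have h'' : 2 * ((ct * c) * ct * g * c * (ct * c)) = 2 * ((ct * c) * (ct * c)) := by
    linear_combination (norm := noncomm_ring) ct * h' * c
  rw [hc] at h''
  apply tw
  apply tw
  apply tw
  linear_combination (norm := noncomm_ring) h'' - 8 * h1 * g * c - 8 * ε * ct * g * h2 + 8 * hee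

theorem sandwich4 {R : Type*} [Ring R] (tw : ∀ x y : R, 2 * x = 2 * y → x = y) {c ct f g ε : R} (hc : ct * c = 2 * ε)
    (h1 : ε * ct = ct) (h2 : c * ε = c) (hee : ε * ε = ε) (hf : 2 * f = c * ct) (h : 4 * (f * g * f) = f) :
    2 * (ct * g * c) = ε := by
  have := sandwich tw hc h1 h2 hee hf (g := 2 * g) (by linear_combination (norm := noncomm_ring) h)
  linear_combination (norm := noncomm_ring) this

/-- the first vector of the frame -/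
def fp1 {R : Type*} [Ring R] (e1 e2 e5 : R) : R := 2 * (e1 * e5 * e2)
/-- the third vector of the frame -/
def fp3 {R : Type*} [Ring R] (e2 e3 e4 : R) : R := 2 * (e3 * e4 * e2)
/-- the first covector of the frame -/
def fq1 {R : Type*} [Ring R] (e1 e2 e5 : R) : R := 2 * (e2 * e5 * e1)
/-- the third covector of the frame -/
def fq3 {R : Type*} [Ring R] (e2 e3 e4 : R) : R := 2 * (e2 * e4 * e3)

namespace Rels

variable {R : Type*} [Ring R] {st : R → R} {e1 e2 e3 e4 e5 e6 e8 : R} (H : Rels st e1 e2 e3 e4 e5 e6 e8)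
include H

theorem frm : Frm st e2 (fp1 e1 e2 e5) (fp3 e2 e3 e4) (fq1 e1 e2 e5) (fq3 e2 e3 e4) e8 e6 where
  tw := H.tw
  ad := H.ad
  ee := H.i2
  se := H.s2
  s1 := H.st_p.1
  s3 := H.st_p.2
  p1e := by unfold fp1; linear_combination (norm := noncomm_ring) 2 * e1 * e5 * H.i2
  p3e := by unfold fp3; linear_combination (norm := noncomm_ring) 2 * e3 * e4 * H.i2
  eq1 := by unfold fq1; linear_combination (norm := noncomm_ring) 2 * H.i2 * e5 * e1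
  eq3 := by unfold fq3; linear_combination (norm := noncomm_ring) 2 * H.i2 * e4 * e3
  q11 := H.q1p1
  q33 := H.q3p3
  q13 := H.q1p3
  q31 := H.q3p1
  q1e := H.q1p2
  ep1 := H.q2p1
  q3e := H.q3p2
  ep3 := H.q2p3
  sum := by
    have h1 := H.p1q1
    have h3 := H.p3q3
    unfold fp1 fp3 fq1 fq3
    linear_combination (norm := noncomm_ring) h1 + h3 + H.sum
  i8 := H.i8
  i6 := H.i6
  s8 := H.s8
  s6 := H.s6
  z8 := by unfold fp1; linear_combination (norm := noncomm_ring) 2 * H.z81 * e5 * e2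
  h28 := H.h28
  h38 := by
    unfold fq3 fp3
    linear_combination (norm := noncomm_ring) 4 * (e2 * e4) * H.h38 * (e4 * e2) + 2 * e2 * H.h43 * e2 + H.h24
  h83 := by
    have h3 := H.p3q3
    unfold fq3 fp3
    linear_combination (norm := noncomm_ring) 2 * e8 * h3 * e8 + H.h83
  h48 := by
    have hq := H.q3p3
    have ha := H.q3p2
    have hb := H.q2p3
    refine sandwich H.tw (f := e4) ?_ ?_ ?_ H.i2 H.form4 H.h48
    · unfold fp3 fq3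
      linear_combination (norm := noncomm_ring) hq + ha + hb + H.i2
    · unfold fq3
      linear_combination (norm := noncomm_ring) H.i2 + 2 * H.i2 * (e4 * e3)
    · unfold fp3
      linear_combination (norm := noncomm_ring) H.i2 + 2 * (e3 * e4) * H.i2
  h16 := by
    unfold fq1 fp1
    linear_combination (norm := noncomm_ring) 4 * (e2 * e5) * H.h16 * (e5 * e2) + 2 * e2 * H.h51 * e2 + H.h25
  h26 := H.h26
  z6 := by
    have hq := H.q3p3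
    have ha := H.q3p2
    have hb := H.q2p3
    have h4 : 2 * e4 * (e2 + 2 * (e3 * e4 * e2)) = 2 * (e2 + 2 * (e3 * e4 * e2)) := by
      rw [H.form4]
      linear_combination (norm := noncomm_ring) (e2 + 2 * (e3 * e4 * e2)) * (hq + ha + hb + H.i2) + 2 * H.i2 +
        4 * (e3 * e4) * H.i2
    have hr : (1 - 2 * e3) * (1 - 2 * e3) = 1 := by linear_combination (norm := noncomm_ring) 4 * H.i3
    have h5 : e6 * (1 - 2 * e3) * (e2 + 2 * (e3 * e4 * e2)) = 0 := by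
      apply H.tw
      linear_combination (norm := noncomm_ring) -e6 * (1 - 2 * e3) * h4 - 2 * e6 * (1 - 2 * e3) * e4 * hr * (e2 + 2 * (e3 * e4 * e2)) +
        2 * H.z64 * (1 - 2 * e3) * (e2 + 2 * (e3 * e4 * e2))
    unfold fp3
    linear_combination (norm := noncomm_ring) -h5 - 2 * e6 * H.z32 - 4 * e6 * H.i3 * e4 * e2
  h56 := by
    have hq := H.q1p1
    have ha := H.q1p2
    have hb := H.q2p1
    refine sandwich H.tw (f := e5) ?_ ?_ ?_ H.i2 H.form5 H.h56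
    · unfold fp1 fq1
      linear_combination (norm := noncomm_ring) hq + ha + hb + H.i2
    · unfold fq1
      linear_combination (norm := noncomm_ring) H.i2 + 2 * H.i2 * (e5 * e1)
    · unfold fp1
      linear_combination (norm := noncomm_ring) H.i2 + 2 * (e1 * e5) * H.i2

theorem e1_eq : e1 = fp1 e1 e2 e5 * fq1 e1 e2 e5 := H.p1q1.symm

theorem e3_eq : e3 = fp3 e2 e3 e4 * fq3 e2 e3 e4 := H.p3q3.symm

theorem e4_eq : 2 * e4 = (e2 + fp3 e2 e3 e4) * (e2 + fq3 e2 e3 e4) := H.form4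

theorem e5_eq : 2 * e5 = (fp1 e1 e2 e5 + e2) * (fq1 e1 e2 e5 + e2) := H.form5

end Rels

namespace Frm

variable {R : Type*} [Ring R] {st : R → R} {ε p1 p3 q1 q3 e8 e6 : R} (H : Frm st ε p1 p3 q1 q3 e8 e6)
include H

/-- the vector of the ninth reflection -/
theorem col9 {e3 e4 : R} (h3 : e3 = p3 * q3) (h4 : 2 * e4 = (ε + p3) * (ε + q3)) :
    (1 - 2 * e8) * (1 - 2 * e3) * (1 - 2 * e4) * (p1 + ε) = p1 + qI ε p3 e8 := by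
  have h8 := H.form8
  have a1 : (1 - 2 * e4) * (p1 + ε) = p1 - p3 := by
    rw [h4]
    linear_combination (norm := noncomm_ring) -(ε + p3) * (H.ep1 + H.ee + H.q31 + H.q3e) - H.ee - H.p3e
  have a2 : (1 - 2 * e3) * (p1 - p3) = p1 + p3 := by
    rw [h3]
    linear_combination (norm := noncomm_ring) -2 * p3 * H.q31 + 2 * p3 * H.q33 + 2 * H.p3e
  have a3 : (1 - 2 * e8) * (p1 + p3) = p1 + qI ε p3 e8 := by
    rw [h8]
    linear_combination (norm := noncomm_ring) -(ε + p3 * qI ε p3 e8) * (H.ep1 + H.ep3 - qI ε p3 e8 * H.q31 - qI ε p3 e8 * H.q33 - H.Ie) +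
      H.eI + p3 * H.II - H.p3e
  rw [mul_assoc, mul_assoc, a1, a2, a3]

/-- the covector of the ninth reflection -/
theorem row9 {e3 e4 : R} (h3 : e3 = p3 * q3) (h4 : 2 * e4 = (ε + p3) * (ε + q3)) :
    (q1 + ε) * (1 - 2 * e4) * (1 - 2 * e3) * (1 - 2 * e8) = q1 - qI ε p3 e8 := by
  have h8 := H.form8
  have a1 : (q1 + ε) * (1 - 2 * e4) = q1 - q3 := by
    rw [h4]
    linear_combination (norm := noncomm_ring) -(H.q1e + H.ee + H.q13 + H.ep3) * (ε + q3) - H.ee - H.eq3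
  have a2 : (q1 - q3) * (1 - 2 * e3) = q1 + q3 := by
    rw [h3]
    linear_combination (norm := noncomm_ring) -2 * H.q13 * q3 + 2 * H.q33 * q3 + 2 * H.eq3
  have a3 : (q1 + q3) * (1 - 2 * e8) = q1 - qI ε p3 e8 := by
    rw [h8]
    linear_combination (norm := noncomm_ring) -(H.q1e + H.q3e + H.q13 * qI ε p3 e8 + H.q33 * qI ε p3 e8 + H.eI) *
      (ε - qI ε p3 e8 * q3) - H.Ie + H.II * q3 - H.eq3
  rw [a1, a2, a3]

end Frm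

theorem Rels.h9 {R : Type*} [Ring R] {st : R → R} {e1 e2 e3 e4 e5 e6 e8 : R} (H : Rels st e1 e2 e3 e4 e5 e6 e8) :
    2 * ((fq1 e1 e2 e5 - qI e2 (fp3 e2 e3 e4) e8) * e6 * (fp1 e1 e2 e5 + qI e2 (fp3 e2 e3 e4) e8)) = e2 := by
  have K := H.frm
  have c := K.col9 H.e3_eq H.e4_eq
  have r := K.row9 H.e3_eq H.e4_eq
  have h5 := H.e5_eq
  refine sandwich4 H.tw (f := (1 - 2 * e8) * (1 - 2 * e3) * (1 - 2 * e4) * e5 * (1 - 2 * e4) * (1 - 2 * e3) * (1 - 2 * e8))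
    ?_ ?_ ?_ H.i2 ?_ H.h96
  · linear_combination (norm := noncomm_ring) K.q11 + K.q1I - K.Ip1 - K.II
  · linear_combination (norm := noncomm_ring) K.eq1 - K.eI
  · linear_combination (norm := noncomm_ring) K.p1e + K.Ie
  · rw [← c, ← r]
    generalize 1 - 2 * e8 = a
    generalize 1 - 2 * e3 = b
    generalize 1 - 2 * e4 = c
    linear_combination (norm := noncomm_ring) a * b * c * h5 * (c * b * a)

end Cfsg.Agent.H476.JTwo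
end

-- part: H476/JTwo/Quat
section
/-!
# The quaternions `i`, `j` (helper476, for S5806)
-/

set_option autoImplicit false

namespace Cfsg.Agent.H476.JTwo

/-- a frame with quaternions `i² = -1`, `j² = -3` -/
structure Fr {R : Type*} [Ring R] (st : R → R) (ε p1 p3 q1 q3 I J : R) : Prop where
  tw : ∀ x y : R, 2 * x = 2 * y → x = y
  ad : Adj st
  ee : ε * ε = ε
  se : st ε = ε
  s1 : st p1 = q1
  s3 : st p3 = q3
  p1e : p1 * ε = p1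
  p3e : p3 * ε = p3
  eq1 : ε * q1 = q1
  eq3 : ε * q3 = q3
  q11 : q1 * p1 = ε
  q33 : q3 * p3 = ε
  q13 : q1 * p3 = 0
  q31 : q3 * p1 = 0
  q1e : q1 * ε = 0
  ep1 : ε * p1 = 0
  q3e : q3 * ε = 0
  ep3 : ε * p3 = 0
  sum : p1 * q1 + ε + p3 * q3 = 1
  eI : ε * I = I
  Ie : I * ε = I
  eJ : ε * J = J
  Je : J * ε = J
  II : I * I = -ε
  JJ : J * J = -(3 * ε)
  JI : J * I = -(I * J)
  sI : st I = -I
  sJ : st J = -J

/-- the quaternion `j` -/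
def qJ {R : Type*} [Ring R] (ε I X : R) : R := (ε - I) * X - ε

theorem quat_facts {R : Type*} [Ring R] {st : R → R} {ε I X : R} (ad : Adj st) (ee : ε * ε = ε) (se : st ε = ε)
    (eI : ε * I = I) (Ie : I * ε = I) (eX : ε * X = X) (Xe : X * ε = X) (II : I * I = -ε) (sI : st I = -I)
    (XX : X * X = X - 2 * ε) (sX : st X = ε - X) (XI : X * I + I * X = I - ε) :
    ε * qJ ε I X = qJ ε I X ∧ qJ ε I X * ε = qJ ε I X ∧ qJ ε I X * qJ ε I X = -(3 * ε) ∧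
      qJ ε I X * I = -(I * qJ ε I X) ∧ st (qJ ε I X) = -qJ ε I X ∧ 2 * X = (ε + I) * (ε + qJ ε I X) := by
  unfold qJ
  refine ⟨?_, ?_, ?_, ?_, ?_, ?_⟩
  · linear_combination (norm := noncomm_ring) ee * X - eI * X - ee
  · linear_combination (norm := noncomm_ring) (ε - I) * Xe - ee
  · linear_combination (norm := noncomm_ring) (ε - I) * Xe * X - (ε - I) * XI * X + (ε - I) * I * XX + (ε - I) * XX -
      (ε - I) * Xe - ee * X + eI * X + ee + 2 * Ie - II * X + ee * X - Ie * X - eI * X + II * X - ee * X + eX +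
      ε * eX + eX + eI * X - 2 * ee - 2 * eI * ε - 2 * Ie + 2 * I * Ie + 2 * II - 2 * eX
  · linear_combination (norm := noncomm_ring) (ε - I) * XI + Ie - II - ee - Ie + I * eX - eI * X
  · rw [ad.sub, ad.mul, ad.sub, se, sI, sX]
    linear_combination (norm := noncomm_ring) ee - Xe - XI + eI + eX
  · linear_combination (norm := noncomm_ring) -(ee - eI + Ie - II) * X - 2 * eX

theorem Frm.fr {R : Type*} [Ring R] {st : R → R} {ε p1 p3 q1 q3 e8 e6 : R} (H : Frm st ε p1 p3 q1 q3 e8 e6)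
    (h9 : 2 * ((q1 - qI ε p3 e8) * e6 * (p1 + qI ε p3 e8)) = ε) :
    Fr st ε p1 p3 q1 q3 (qI ε p3 e8) (qJ ε (qI ε p3 e8) (qX ε q1 e6)) := by
  obtain ⟨h1, h2, h3, h4, h5, -⟩ := quat_facts H.ad H.ee H.se H.eI H.Ie H.eX H.Xe H.II H.stI H.XX H.stX (H.XI h9)
  exact ⟨H.tw, H.ad, H.ee, H.se, H.s1, H.s3, H.p1e, H.p3e, H.eq1, H.eq3, H.q11, H.q33, H.q13, H.q31, H.q1e, H.ep1,
    H.q3e, H.ep3, H.sum, H.eI, H.Ie, h1, h2, H.II, h3, h4, H.stI, h5⟩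

theorem Frm.twoX {R : Type*} [Ring R] {st : R → R} {ε p1 p3 q1 q3 e8 e6 : R} (H : Frm st ε p1 p3 q1 q3 e8 e6)
    (h9 : 2 * ((q1 - qI ε p3 e8) * e6 * (p1 + qI ε p3 e8)) = ε) :
    2 * qX ε q1 e6 = (ε + qI ε p3 e8) * (ε + qJ ε (qI ε p3 e8) (qX ε q1 e6)) :=
  (quat_facts H.ad H.ee H.se H.eI H.Ie H.eX H.Xe H.II H.stI H.XX H.stX (H.XI h9)).2.2.2.2.2

end Cfsg.Agent.H476.JTwo
end

-- part: H476/JTwo/Model
section
/-!
# The 315 root lines of the double cover of `J₂` over the quaternions (helper476, for S5806)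

`Q` : quaternions `(a + b τ) + (c + d τ) i + (e + f τ) j + (g + h τ) i j` with `i² = -1`, `j² = -3`, `τ² = τ + 1`, integral
coordinates; `tab` : 315 vectors (one on each root line); `idx` : the permutations of the lines given by the generating
reflections `gen`. The kernel check is done with residues modulo `MM = 2 ^ 40`.
-/

set_option autoImplicit false
set_option maxRecDepth 100000
set_option Elab.async false

namespace Cfsg.Agent.H476.JTwo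

/-- integral quaternions over `ℤ[τ]` -/
structure Q where
  a : Int
  b : Int
  c : Int
  d : Int
  e : Int
  f : Int
  g : Int
  h : Int

namespace Q

def zero : Q := ⟨0, 0, 0, 0, 0, 0, 0, 0⟩
def add (x y : Q) : Q := ⟨x.a + y.a, x.b + y.b, x.c + y.c, x.d + y.d, x.e + y.e, x.f + y.f, x.g + y.g, x.h + y.h⟩
def sub (x y : Q) : Q := ⟨x.a - y.a, x.b - y.b, x.c - y.c, x.d - y.d, x.e - y.e, x.f - y.f, x.g - y.g, x.h - y.h⟩
def smul (n : Int) (x : Q) : Q := ⟨n * x.a, n * x.b, n * x.c, n * x.d, n * x.e, n * x.f, n * x.g, n * x.h⟩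
def conj (x : Q) : Q := ⟨x.a, x.b, -x.c, -x.d, -x.e, -x.f, -x.g, -x.h⟩

/-- first coordinate of a product in `ℤ[τ]` -/
def p0 (a b c d : Int) : Int := a * c + b * d
/-- second coordinate of a product in `ℤ[τ]` -/
def p1 (a b c d : Int) : Int := a * d + b * c + b * d

def mul (x y : Q) : Q :=
  ⟨p0 x.a x.b y.a y.b - p0 x.c x.d y.c y.d - 3 * p0 x.e x.f y.e y.f - 3 * p0 x.g x.h y.g y.h,
   p1 x.a x.b y.a y.b - p1 x.c x.d y.c y.d - 3 * p1 x.e x.f y.e y.f - 3 * p1 x.g x.h y.g y.h,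
   p0 x.a x.b y.c y.d + p0 x.c x.d y.a y.b + 3 * p0 x.e x.f y.g y.h - 3 * p0 x.g x.h y.e y.f,
   p1 x.a x.b y.c y.d + p1 x.c x.d y.a y.b + 3 * p1 x.e x.f y.g y.h - 3 * p1 x.g x.h y.e y.f,
   p0 x.a x.b y.e y.f + p0 x.e x.f y.a y.b - p0 x.c x.d y.g y.h + p0 x.g x.h y.c y.d,
   p1 x.a x.b y.e y.f + p1 x.e x.f y.a y.b - p1 x.c x.d y.g y.h + p1 x.g x.h y.c y.d,
   p0 x.a x.b y.g y.h + p0 x.g x.h y.a y.b + p0 x.c x.d y.e y.f - p0 x.e x.f y.c y.d,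
   p1 x.a x.b y.g y.h + p1 x.g x.h y.a y.b + p1 x.c x.d y.e y.f - p1 x.e x.f y.c y.d⟩

end Q

/-- vectors of length three -/
structure V where
  x : Q
  y : Q
  z : Q

/-- `w^* v` -/
def herm (w v : V) : Q := ((w.x.conj.mul v.x).add (w.y.conj.mul v.y)).add (w.z.conj.mul v.z)

/-- `n` times the reflection of `v` in `w`, `n = w^* w` -/
def refl (n : Int) (w v : V) : V :=
  ⟨(v.x.smul n).sub (w.x.mul ((herm w v).smul 2)), (v.y.smul n).sub (w.y.mul ((herm w v).smul 2)),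
    (v.z.smul n).sub (w.z.mul ((herm w v).smul 2))⟩

/-! ### residues -/

/-- the modulus `2 ^ 40` -/
def MM : ℕ := 1099511627776

/-- residues of quaternions -/
structure R where
  a : ℕ
  b : ℕ
  c : ℕ
  d : ℕ
  e : ℕ
  f : ℕ
  g : ℕ
  h : ℕ

/-- evaluate `e` before passing it to `k` (in the kernel) -/
noncomputable def force {α : Type} (e : ℕ) (k : ℕ → α) : α :=
  Nat.rec (motive := fun _ => α) (k 0) (fun m _ => k m) (Nat.add e 1)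

theorem force_eq {α : Type} (e : ℕ) (k : ℕ → α) : force e k = k e := rfl

/-- evaluate all coordinates -/
noncomputable def forceR {α : Type} (x : R) (k : R → α) : α :=
  force x.a fun a => force x.b fun b => force x.c fun c => force x.d fun d =>
  force x.e fun e => force x.f fun f => force x.g fun g => force x.h fun h => k ⟨a, b, c, d, e, f, g, h⟩

theorem forceR_eq {α : Type} (x : R) (k : R → α) : forceR x k = k x := rfl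

namespace R

def n0 (a b c d : ℕ) : ℕ := Nat.add (Nat.mul a c) (Nat.mul b d)
def n1 (a b c d : ℕ) : ℕ := Nat.add (Nat.add (Nat.mul a d) (Nat.mul b c)) (Nat.mul b d)

/-- `p + q + 3 r - 3 s` -/
def cb (p q r s : ℕ) : ℕ :=
  Nat.mod (Nat.add (Nat.add p q) (Nat.add (Nat.mul 3 r) (Nat.mul 3298534883325 s))) 1099511627776
/-- `p + q + r - s` -/
def cb' (p q r s : ℕ) : ℕ :=
  Nat.mod (Nat.add (Nat.add p q) (Nat.add r (Nat.mul 1099511627775 s))) 1099511627776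
/-- `p - q - 3 r - 3 s` -/
def cb0 (p q r s : ℕ) : ℕ :=
  Nat.mod (Nat.add p (Nat.mul 1099511627775 (Nat.add q (Nat.mul 3 (Nat.add r s))))) 1099511627776

def mul (x y : R) : R :=
  ⟨cb0 (n0 x.a x.b y.a y.b) (n0 x.c x.d y.c y.d) (n0 x.e x.f y.e y.f) (n0 x.g x.h y.g y.h),
   cb0 (n1 x.a x.b y.a y.b) (n1 x.c x.d y.c y.d) (n1 x.e x.f y.e y.f) (n1 x.g x.h y.g y.h),
   cb (n0 x.a x.b y.c y.d) (n0 x.c x.d y.a y.b) (n0 x.e x.f y.g y.h) (n0 x.g x.h y.e y.f),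
   cb (n1 x.a x.b y.c y.d) (n1 x.c x.d y.a y.b) (n1 x.e x.f y.g y.h) (n1 x.g x.h y.e y.f),
   cb' (n0 x.a x.b y.e y.f) (n0 x.e x.f y.a y.b) (n0 x.g x.h y.c y.d) (n0 x.c x.d y.g y.h),
   cb' (n1 x.a x.b y.e y.f) (n1 x.e x.f y.a y.b) (n1 x.g x.h y.c y.d) (n1 x.c x.d y.g y.h),
   cb' (n0 x.a x.b y.g y.h) (n0 x.g x.h y.a y.b) (n0 x.c x.d y.e y.f) (n0 x.e x.f y.c y.d),
   cb' (n1 x.a x.b y.g y.h) (n1 x.g x.h y.a y.b) (n1 x.c x.d y.e y.f) (n1 x.e x.f y.c y.d)⟩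

def neg1 (n : ℕ) : ℕ := Nat.mul 1099511627775 n
def conj (x : R) : R := ⟨x.a, x.b, neg1 x.c, neg1 x.d, neg1 x.e, neg1 x.f, neg1 x.g, neg1 x.h⟩

/-- `2 (x + y + z)` -/
def sum2 (x y z : R) : R :=
  (beta% delta% lq2633264968 fun _ _ m o _ =>
 ⟨m 2 (o (o x.a y.a) z.a), m 2 (o (o x.b y.b) z.b),
 m 2 (o (o x.c y.c) z.c), m 2 (o (o x.d y.d) z.d),
 m 2 (o (o x.e y.e) z.e), m 2 (o (o x.f y.f) z.f),
 m 2 (o (o x.g y.g) z.g), m 2 (o (o x.h y.h) z.h)⟩)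

def ms (n p q : ℕ) : ℕ := Nat.mod (Nat.add (Nat.mul n p) (Nat.mul 1099511627775 q)) 1099511627776
/-- `n x - y` -/
def msub (n : ℕ) (x y : R) : R :=
  ⟨ms n x.a y.a, ms n x.b y.b, ms n x.c y.c, ms n x.d y.d, ms n x.e y.e, ms n x.f y.f, ms n x.g y.g, ms n x.h y.h⟩

def eqm (d p q : ℕ) : Bool := Nat.beq p (Nat.mod (Nat.mul d q) 1099511627776)
/-- `x = d y` (`x` reduced) -/
def eqs (d : ℕ) (x y : R) : Bool :=
  eqm d x.a y.a && (eqm d x.b y.b && (eqm d x.c y.c && (eqm d x.d y.d && (eqm d x.e y.e && (eqm d x.f y.f &&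
    (eqm d x.g y.g && eqm d x.h y.h))))))

end R

/-- residue of an integer -/
def res : Int → ℕ
  | .ofNat n => n
  | .negSucc n => Nat.mul 1099511627775 (Nat.succ n)

def resQ (x : Q) : R := ⟨res x.a, res x.b, res x.c, res x.d, res x.e, res x.f, res x.g, res x.h⟩

structure RV where
  x : R
  y : R
  z : R

noncomputable def forceV {α : Type} (v : V) (k : RV → α) : α :=
  forceR (resQ v.x) fun x => forceR (resQ v.y) fun y => forceR (resQ v.z) fun z => k ⟨x, y, z⟩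

theorem forceV_eq {α : Type} (v : V) (k : RV → α) : forceV v k = k ⟨resQ v.x, resQ v.y, resQ v.z⟩ := rfl

/-- product, all coordinates evaluated -/
noncomputable def mulK {α : Type} (x y : R) (k : R → α) : α :=
  bif Nat.beq (Nat.add (Nat.add (Nat.add x.b x.c) (Nat.add x.d x.e)) (Nat.add (Nat.add x.f x.g) x.h)) 0 then
    (bif Nat.beq x.a 0 then k ⟨0, 0, 0, 0, 0, 0, 0, 0⟩ else
      (beta% delta% lq2633264968 fun _ _ m _ p =>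
 force (p (m x.a y.a) 1099511627776) fun a => force (p (m x.a y.b) 1099511627776) fun b =>
 force (p (m x.a y.c) 1099511627776) fun c => force (p (m x.a y.d) 1099511627776) fun d =>
 force (p (m x.a y.e) 1099511627776) fun e => force (p (m x.a y.f) 1099511627776) fun f =>
 force (p (m x.a y.g) 1099511627776) fun g => force (p (m x.a y.h) 1099511627776) fun h =>
 k ⟨a, b, c, d, e, f, g, h⟩ :
 α)) else
  force (R.cb0 (R.n0 x.a x.b y.a y.b) (R.n0 x.c x.d y.c y.d) (R.n0 x.e x.f y.e y.f) (R.n0 x.g x.h y.g y.h)) fun a =>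
  force (R.cb0 (R.n1 x.a x.b y.a y.b) (R.n1 x.c x.d y.c y.d) (R.n1 x.e x.f y.e y.f) (R.n1 x.g x.h y.g y.h)) fun b =>
  force (R.cb (R.n0 x.a x.b y.c y.d) (R.n0 x.c x.d y.a y.b) (R.n0 x.e x.f y.g y.h) (R.n0 x.g x.h y.e y.f)) fun c =>
  force (R.cb (R.n1 x.a x.b y.c y.d) (R.n1 x.c x.d y.a y.b) (R.n1 x.e x.f y.g y.h) (R.n1 x.g x.h y.e y.f)) fun d =>
  force (R.cb' (R.n0 x.a x.b y.e y.f) (R.n0 x.e x.f y.a y.b) (R.n0 x.g x.h y.c y.d) (R.n0 x.c x.d y.g y.h)) fun e =>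
  force (R.cb' (R.n1 x.a x.b y.e y.f) (R.n1 x.e x.f y.a y.b) (R.n1 x.g x.h y.c y.d) (R.n1 x.c x.d y.g y.h)) fun f =>
  force (R.cb' (R.n0 x.a x.b y.g y.h) (R.n0 x.g x.h y.a y.b) (R.n0 x.c x.d y.e y.f) (R.n0 x.e x.f y.c y.d)) fun g =>
  force (R.cb' (R.n1 x.a x.b y.g y.h) (R.n1 x.g x.h y.a y.b) (R.n1 x.c x.d y.e y.f) (R.n1 x.e x.f y.c y.d)) fun h =>
  k ⟨a, b, c, d, e, f, g, h⟩

theorem mulK_eq {α : Type} (x y : R) (k : R → α) : mulK x y k = k (x.mul y) := by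
  obtain ⟨a, b, c, d, e, f, g, h⟩ := x
  unfold mulK R.mul
  simp only [force_eq]
  cases h1 : Nat.beq (Nat.add (Nat.add (Nat.add b c) (Nat.add d e)) (Nat.add (Nat.add f g) h)) 0 with
  | false => rfl
  | true =>
    have h2 : b + c + (d + e) + (f + g + h) = 0 := Nat.eq_of_beq_eq_true h1
    obtain ⟨rfl, rfl, rfl, rfl, rfl, rfl, rfl⟩ : b = 0 ∧ c = 0 ∧ d = 0 ∧ e = 0 ∧ f = 0 ∧ g = 0 ∧ h = 0 := by omega
    delta R.cb0 R.cb R.cb' R.n0 R.n1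
    simp only [Nat.add_eq, Nat.mul_eq, Nat.zero_mul, Nat.add_zero, Nat.mul_zero, cond_true]
    cases h3 : Nat.beq a 0 with
    | false => rfl
    | true =>
      obtain rfl : a = 0 := Nat.eq_of_beq_eq_true h3
      simp only [Nat.zero_mul]
      rfl

def reflR (n : ℕ) (wc w v : RV) : RV :=
  let s := R.sum2 (wc.x.mul v.x) (wc.y.mul v.y) (wc.z.mul v.z)
  ⟨R.msub n v.x (w.x.mul s), R.msub n v.y (w.y.mul s), R.msub n v.z (w.z.mul s)⟩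

/-- the reflection -/
noncomputable def reflK {α : Type} (n : ℕ) (wc w v : RV) (k : RV → α) : α :=
  mulK wc.x v.x fun p => mulK wc.y v.y fun q => mulK wc.z v.z fun r =>
  forceR (R.sum2 p q r) fun s =>
  mulK w.x s fun x => mulK w.y s fun y => mulK w.z s fun z =>
  forceR (R.msub n v.x x) fun x => forceR (R.msub n v.y y) fun y =>
  forceR (R.msub n v.z z) fun z => k ⟨x, y, z⟩

theorem reflK_eq {α : Type} (n : ℕ) (wc w v : RV) (k : RV → α) : reflK n wc w v k = k (reflR n wc w v) := by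
  unfold reflK reflR
  simp only [forceR_eq, mulK_eq]

/-- `v' u = d y` -/
noncomputable def eqvK (d : ℕ) (v' : RV) (u : R) (y : RV) : Bool :=
  (mulK v'.x u fun p => p.eqs d y.x) && ((mulK v'.y u fun p => p.eqs d y.y) &&
   (mulK v'.z u fun p => p.eqs d y.z))

/-- `d` is a divisor of 12 -/
def okd (d : ℕ) : Bool := Nat.ble 1 d && Nat.beq (Nat.mod 12 d) 0

noncomputable def chkK (n : ℕ) (wc w v v' : RV) : Bool :=
  reflK n wc w v fun y =>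
  bif Nat.beq v'.x.a 0 then
    (bif Nat.beq v'.y.a 0 then okd v'.z.a && eqvK v'.z.a v' y.z y
     else okd v'.y.a && eqvK v'.y.a v' y.y y)
  else okd v'.x.a && eqvK v'.x.a v' y.x y

/-- binary trees of root vectors, with the images under the generators -/
inductive T where
  | l (v : V) (ks : List ℕ)
  | n (a b : T)

namespace T

/-- look up -/
def get : T → ℕ → V
  | l v _, _ => v
  | n a b, k => bif Nat.beq (Nat.mod k 2) 0 then a.get (Nat.div k 2) else b.get (Nat.div k 2)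

/-- the list of the vectors -/
def toL : T → List V
  | l v _ => [v]
  | n a b => a.toL ++ b.toL

end T

/-- the root vectors -/
def tree : T :=
(beta% delta% lq2633264968 fun i j _ _ _ =>
 .n (.n (.n (.n (.n (.n (.n (.n (.n (.l ⟨⟨1, 0, 0, 0, 0, 0, 0, 0⟩, ⟨0, 0, 0, 0, 0, 0, 0, 0⟩, ⟨0, 0, 0, 0, 0, 0, 0, 0⟩⟩ (i 0<|i 0<|i 0<|i 1<|i 0<|i 3<|i 8<|j))
 (.l ⟨⟨12, 0, 0, 0, 0, 0, 0, 0⟩, ⟨3, 0, 3, 0, 3, -2, 1, 2⟩, ⟨3, 0, -3, 6, 1, 0, 1, -2⟩⟩ (i 300<|i 305<|i 116<|i 306<|i 297<|i 289<|i 292<|j)))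
 (.l ⟨⟨6, 0, 0, 0, 0, 0, 0, 0⟩, ⟨-6, 3, -6, 3, -2, 1, -4, 3⟩, ⟨-3, 3, -3, 3, -3, 1, 1, -1⟩⟩ (i 146<|i 233<|i 240<|i 241<|i 157<|i 41<|i 196<|j)))
 (.n (.l ⟨⟨6, 0, 0, 0, 0, 0, 0, 0⟩, ⟨-3, 3, 3, -3, -1, 1, -3, 1⟩, ⟨6, -3, 6, -3, -2, 1, -4, 3⟩⟩ (i 32<|i 94<|i 39<|i 27<|i 164<|i 149<|i 16<|j))
 (.l ⟨⟨6, 0, 0, 0, 0, 0, 0, 0⟩, ⟨0, 0, -6, 0, 0, 0, 0, 0⟩, ⟨-3, 0, 3, -6, 1, -2, -1, 0⟩⟩ (i 194<|i 163<|i 151<|i 304<|i 72<|i 234<|i 254<|j))))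
 (.n (.n (.n (.l ⟨⟨6, 0, 0, 0, 0, 0, 0, 0⟩, ⟨3, -3, -3, 3, 1, -1, 3, -1⟩, ⟨-6, 3, -6, 3, 2, -1, 4, -3⟩⟩ (i 64<|i 29<|i 40<|i 8<|i 107<|i 52<|i 60<|j))
 (.l ⟨⟨6, 0, 0, 0, 0, 0, 0, 0⟩, ⟨-3, 3, 3, -3, 1, -1, 3, -1⟩, ⟨-6, 3, 6, -3, -4, 3, 2, -1⟩⟩ (i 247<|i 157<|i 150<|i 280<|i 267<|i 183<|i 244<|j)))
 (.l ⟨⟨0, 0, 0, 0, 0, 0, 0, 0⟩, ⟨3, 0, 0, 0, 0, 0, 0, 0⟩, ⟨0, 0, 0, 0, 1, -1, 0, -1⟩⟩ (i 160<|i 62<|i 62<|i 285<|i 62<|i 57<|i 209<|j)))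
 (.n (.l ⟨⟨6, 0, 0, 0, 0, 0, 0, 0⟩, ⟨0, 0, 0, 0, -2, 2, 0, 2⟩, ⟨-3, 6, 3, 0, 1, -2, -1, 0⟩⟩ (i 118<|i 37<|i 99<|i 216<|i 227<|i 26<|i 228<|j))
 (.l ⟨⟨12, 0, 0, 0, 0, 0, 0, 0⟩, ⟨-3, 0, -3, 0, 3, -2, 1, 2⟩, ⟨3, -6, 3, 0, 1, -2, -1, 0⟩⟩ (i 112<|i 246<|i 93<|i 237<|i 106<|i 199<|i 280<|j)))))
 (.n (.n (.n (.n (.l ⟨⟨1, 0, 0, 0, 0, 0, 0, 0⟩, ⟨-1, 0, 0, 0, 0, 0, 0, 0⟩, ⟨0, 0, 0, 0, 0, 0, 0, 0⟩⟩ (i 4<|i 4<|i 54<|i 16<|i 63<|i 44<|i 64<|j))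
 (.l ⟨⟨2, 0, 0, 0, 0, 0, 0, 0⟩, ⟨0, 0, -2, 0, 0, 0, 0, 0⟩, ⟨1, 0, 1, 0, -1, 0, -1, 0⟩⟩ (i 198<|i 156<|i 171<|i 136<|i 138<|i 172<|i 153<|j)))
 (.l ⟨⟨6, 0, 0, 0, 0, 0, 0, 0⟩, ⟨-3, 3, -3, 3, -3, 1, 1, -1⟩, ⟨-6, 3, -6, 3, -2, 1, -4, 3⟩⟩ (i 240<|i 284<|i 146<|i 225<|i 251<|i 48<|i 263<|j)))
 (.n (.l ⟨⟨4, 0, 0, 0, 0, 0, 0, 0⟩, ⟨-1, 0, -1, 0, 1, 0, -1, 0⟩, ⟨-1, 0, 1, 0, -1, 0, -1, 0⟩⟩ (i 22<|i 82<|i 202<|i 184<|i 80<|i 78<|i 80<|j))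
 (.l ⟨⟨6, 0, 0, 0, 0, 0, 0, 0⟩, ⟨0, 3, 0, -3, -2, -1, 0, -1⟩, ⟨-3, 3, 3, -3, 1, -1, 3, -1⟩⟩ (i 207<|i 130<|i 309<|i 121<|i 265<|i 166<|i 189<|j))))
 (.n (.n (.n (.l ⟨⟨6, 0, 0, 0, 0, 0, 0, 0⟩, ⟨0, -3, 0, -3, 0, 1, -2, -1⟩, ⟨3, 3, -3, -3, 1, 1, -1, -3⟩⟩ (i 49<|i 12<|i 122<|i 97<|i 143<|i 144<|i 40<|j))
 (.l ⟨⟨6, 0, 0, 0, 0, 0, 0, 0⟩, ⟨0, 0, 6, 0, 0, 0, 0, 0⟩, ⟨3, -6, 3, 0, 1, 0, 1, -2⟩⟩ (i 293<|i 302<|i 301<|i 192<|i 262<|i 219<|i 301<|j)))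
 (.l ⟨⟨6, 0, 0, 0, 0, 0, 0, 0⟩, ⟨0, 0, 0, 0, -2, 2, 0, 2⟩, ⟨-3, 0, -3, 6, -1, 0, -1, 2⟩⟩ (i 67<|i 105<|i 245<|i 295<|i 200<|i 206<|i 243<|j)))
 (.n (.l ⟨⟨12, 0, 0, 0, 0, 0, 0, 0⟩, ⟨3, 0, 3, 0, -3, 2, -1, -2⟩, ⟨-3, 6, -3, 0, -1, 2, 1, 0⟩⟩ (i 224<|i 248<|i 142<|i 135<|i 34<|i 134<|i 187<|j))
 (.l ⟨⟨6, 0, 0, 0, 0, 0, 0, 0⟩, ⟨3, -3, 3, -3, 3, -1, -1, 1⟩, ⟨6, -3, 6, -3, 2, -1, 4, -3⟩⟩ (i 144<|i 234<|i 128<|i 103<|i 252<|i 122<|i 305<|j))))))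
 (.n (.n (.n (.n (.n (.l ⟨⟨6, 0, 0, 0, 0, 0, 0, 0⟩, ⟨0, -3, 0, -3, 0, 1, -2, -1⟩, ⟨-3, 3, 3, -3, -1, 1, -3, 1⟩⟩ (i 7<|i 27<|i 31<|i 32<|i 33<|i 34<|i 0<|j))
 (.l ⟨⟨3, 0, 0, 0, 0, 0, 0, 0⟩, ⟨0, 0, 0, 0, 0, 1, 1, -1⟩, ⟨0, 0, 0, 0, 0, 0, 0, 0⟩⟩ (i 311<|i 311<|i 310<|i 311<|i 166<|i 282<|i 123<|j)))
 (.l ⟨⟨2, 0, 0, 0, 0, 0, 0, 0⟩, ⟨0, 0, 2, 0, 0, 0, 0, 0⟩, ⟨1, 0, -1, 0, 1, 0, -1, 0⟩⟩ (i 185<|i 87<|i 158<|i 272<|i 44<|i 115<|i 273<|j)))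
 (.n (.l ⟨⟨6, 0, 0, 0, 0, 0, 0, 0⟩, ⟨-3, 6, -3, 0, 1, 0, 1, -2⟩, ⟨-6, 0, 0, 0, 0, 0, 0, 0⟩⟩ (i 73<|i 19<|i 191<|i 59<|i 192<|i 193<|i 154<|j))
 (.l ⟨⟨6, 0, 0, 0, 0, 0, 0, 0⟩, ⟨3, -6, -3, 0, 1, -2, -1, 0⟩, ⟨0, 0, 0, 0, 0, 2, 2, -2⟩⟩ (i 180<|i 199<|i 242<|i 297<|i 176<|i 195<|i 107<|j))))
 (.n (.n (.n (.l ⟨⟨6, 0, 0, 0, 0, 0, 0, 0⟩, ⟨6, -3, 6, -3, -2, 1, -4, 3⟩, ⟨-3, 3, 3, -3, -1, 1, -3, 1⟩⟩ (i 39<|i 38<|i 32<|i 125<|i 76<|i 126<|i 48<|j))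
 (.l ⟨⟨6, 0, 0, 0, 0, 0, 0, 0⟩, ⟨0, 0, 0, 0, 2, -2, 0, -2⟩, ⟨3, 0, 3, 0, 1, 2, -3, 2⟩⟩ (i 179<|i 222<|i 220<|i 177<|i 282<|i 265<|i 248<|j)))
 (.l ⟨⟨6, 0, 0, 0, 0, 0, 0, 0⟩, ⟨-3, -3, -3, -3, 1, 3, 1, 1⟩, ⟨0, 3, 0, 3, 0, 1, -2, -1⟩⟩ (i 243<|i 236<|i 193<|i 129<|i 183<|i 73<|i 63<|j)))
 (.n (.l ⟨⟨6, 0, 0, 0, 0, 0, 0, 0⟩, ⟨0, -3, 0, 3, 2, 1, 0, 1⟩, ⟨3, 3, -3, -3, -1, -1, 1, 3⟩⟩ (i 229<|i 108<|i 241<|i 30<|i 236<|i 239<|i 242<|j))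
 (.l ⟨⟨6, 0, 0, 0, 0, 0, 0, 0⟩, ⟨0, 0, 0, 0, 0, 2, 2, -2⟩, ⟨-3, 0, -3, 6, 1, 0, 1, -2⟩⟩ (i 274<|i 137<|i 170<|i 283<|i 99<|i 255<|i 302<|j)))))
 (.n (.n (.n (.n (.l ⟨⟨2, 0, 0, 0, 0, 0, 0, 0⟩, ⟨1, 0, 1, 0, 1, 0, 1, 0⟩, ⟨-2, 0, 0, 0, 0, 0, 0, 0⟩⟩ (i 35<|i 85<|i 68<|i 6<|i 87<|i 24<|i 88<|j))
 (.l ⟨⟨6, 0, 0, 0, 0, 0, 0, 0⟩, ⟨0, 3, 0, 3, 0, 1, -2, -1⟩, ⟨-3, 3, -3, 3, -3, 1, 1, -1⟩⟩ (i 279<|i 278<|i 210<|i 288<|i 211<|i 187<|i 224<|j)))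
 (.l ⟨⟨6, 0, 0, 0, 0, 0, 0, 0⟩, ⟨-3, 0, 3, -6, 1, -2, -1, 0⟩, ⟨0, 0, -6, 0, 0, 0, 0, 0⟩⟩ (i 151<|i 147<|i 194<|i 189<|i 191<|i 233<|i 146<|j)))
 (.n (.l ⟨⟨6, 0, 0, 0, 0, 0, 0, 0⟩, ⟨3, 0, 3, 0, -1, -2, 3, -2⟩, ⟨0, 0, 0, 0, 0, -2, -2, 2⟩⟩ (i 213<|i 214<|i 43<|i 206<|i 216<|i 38<|i 24<|j))
 (.l ⟨⟨6, 0, 0, 0, 0, 0, 0, 0⟩, ⟨0, 0, 0, 0, 2, -2, 0, -2⟩, ⟨3, 0, -3, 0, 3, -2, 1, 2⟩⟩ (i 119<|i 260<|i 239<|i 96<|i 88<|i 229<|i 174<|j))))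
 (.n (.n (.n (.l ⟨⟨2, 0, 0, 0, 0, 0, 0, 0⟩, ⟨2, 0, 0, 0, 0, 0, 0, 0⟩, ⟨1, 0, 1, 0, 1, 0, 1, 0⟩⟩ (i 18<|i 69<|i 85<|i 68<|i 158<|i 14<|i 158<|j))
 (.l ⟨⟨6, 0, 0, 0, 0, 0, 0, 0⟩, ⟨-3, 0, 3, 0, 3, -2, 1, 2⟩, ⟨0, 0, 0, 0, 0, 2, 2, -2⟩⟩ (i 306<|i 298<|i 231<|i 305<|i 222<|i 312<|i 314<|j)))
 (.l ⟨⟨2, 0, 0, 0, 0, 0, 0, 0⟩, ⟨-1, 0, 1, 0, -1, 0, 1, 0⟩, ⟨0, 0, 2, 0, 0, 0, 0, 0⟩⟩ (i 182<|i 70<|i 87<|i 80<|i 69<|i 173<|i 180<|j)))
 (.n (.l ⟨⟨6, 0, 0, 0, 0, 0, 0, 0⟩, ⟨-3, 0, -3, 6, 1, 0, 1, -2⟩, ⟨0, 0, 0, 0, 0, -2, -2, 2⟩⟩ (i 259<|i 170<|i 261<|i 255<|i 37<|i 262<|i 185<|j))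
 (.l ⟨⟨12, 0, 0, 0, 0, 0, 0, 0⟩, ⟨-3, 0, -3, 0, 3, -2, 1, 2⟩, ⟨-3, 6, -3, 0, -1, 2, 1, 0⟩⟩ (i 246<|i 112<|i 221<|i 239<|i 111<|i 291<|i 296<|j)))))))
 (.n (.n (.n (.n (.n (.n (.l ⟨⟨1, 0, 0, 0, 0, 0, 0, 0⟩, ⟨1, 0, 0, 0, 0, 0, 0, 0⟩, ⟨0, 0, 0, 0, 0, 0, 0, 0⟩⟩ (i 16<|i 16<|i 14<|i 4<|i 17<|i 18<|i 19<|j))
 (.l ⟨⟨6, 0, 0, 0, 0, 0, 0, 0⟩, ⟨0, 0, 0, 0, -2, 2, 0, 2⟩, ⟨3, 0, -3, 0, 3, -2, 1, 2⟩⟩ (i 258<|i 216<|i 237<|i 118<|i 215<|i 157<|i 215<|j)))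
 (.l ⟨⟨6, 0, 0, 0, 0, 0, 0, 0⟩, ⟨0, 0, 0, 0, 0, -2, -2, 2⟩, ⟨-3, 0, -3, 0, 1, 2, -3, 2⟩⟩ (i 133<|i 43<|i 215<|i 197<|i 270<|i 228<|i 124<|j)))
 (.n (.l ⟨⟨2, 0, 0, 0, 0, 0, 0, 0⟩, ⟨2, 0, 0, 0, 0, 0, 0, 0⟩, ⟨-1, 0, -1, 0, -1, 0, -1, 0⟩⟩ (i 69<|i 18<|i 24<|i 56<|i 182<|i 35<|i 183<|j))
 (.l ⟨⟨2, 0, 0, 0, 0, 0, 0, 0⟩, ⟨-1, 0, 1, 0, 1, 0, -1, 0⟩, ⟨2, 0, 0, 0, 0, 0, 0, 0⟩⟩ (i 115<|i 78<|i 174<|i 77<|i 156<|i 158<|i 128<|j))))
 (.n (.n (.n (.l ⟨⟨4, 0, 0, 0, 0, 0, 0, 0⟩, ⟨1, 0, 1, 0, 1, 0, -1, 0⟩, ⟨1, 0, 1, 0, 1, 0, -1, 0⟩⟩ (i 45<|i 77<|i 45<|i 115<|i 9<|i 45<|i 116<|j))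
 (.l ⟨⟨0, 0, 0, 0, 0, 0, 0, 0⟩, ⟨3, 0, 0, 0, 0, 0, 0, 0⟩, ⟨0, 0, 0, 0, 0, -1, -1, 1⟩⟩ (i 292<|i 290<|i 290<|i 212<|i 290<|i 162<|i 256<|j)))
 (.l ⟨⟨6, 0, 0, 0, 0, 0, 0, 0⟩, ⟨-6, 3, 6, -3, 4, -3, -2, 1⟩, ⟨3, -3, 3, -3, -3, 1, 1, -1⟩⟩ (i 107<|i 101<|i 76<|i 263<|i 64<|i 60<|i 182<|j)))
 (.n (.l ⟨⟨6, 0, 0, 0, 0, 0, 0, 0⟩, ⟨0, 3, 0, -3, 2, 1, 0, 1⟩, ⟨3, -3, 3, -3, -3, 1, 1, -1⟩⟩ (i 103<|i 148<|i 33<|i 234<|i 28<|i 235<|i 159<|j))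
 (.l ⟨⟨6, 0, 0, 0, 0, 0, 0, 0⟩, ⟨0, -3, 0, 3, -2, -1, 0, -1⟩, ⟨3, 3, 3, 3, 1, 3, 1, 1⟩⟩ (i 127<|i 124<|i 145<|i 308<|i 122<|i 132<|i 96<|j)))))
 (.n (.n (.n (.n (.l ⟨⟨0, 0, 0, 0, 0, 0, 0, 0⟩, ⟨1, 0, 0, 0, 0, 0, 0, 0⟩, ⟨0, 0, -1, 0, 0, 0, 0, 0⟩⟩ (i 20<|i 5<|i 5<|i 63<|i 20<|i 77<|i 33<|j))
 (.l ⟨⟨6, 0, 0, 0, 0, 0, 0, 0⟩, ⟨6, 0, 0, 0, 0, 0, 0, 0⟩, ⟨-3, 0, 3, -6, -1, 2, 1, 0⟩⟩ (i 271<|i 303<|i 165<|i 314<|i 301<|i 137<|i 149<|j)))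
 (.l ⟨⟨6, 0, 0, 0, 0, 0, 0, 0⟩, ⟨0, -3, 0, 3, -2, -1, 0, -1⟩, ⟨3, -3, 3, -3, -3, 1, 1, -1⟩⟩ (i 225<|i 100<|i 98<|i 284<|i 51<|i 287<|i 219<|j)))
 (.n (.l ⟨⟨2, 0, 0, 0, 0, 0, 0, 0⟩, ⟨-2, 0, 0, 0, 0, 0, 0, 0⟩, ⟨-1, 0, 1, 0, 1, 0, -1, 0⟩⟩ (i 204<|i 205<|i 78<|i 84<|i 171<|i 22<|i 93<|j))
 (.l ⟨⟨3, 0, 0, 0, 0, 0, 0, 0⟩, ⟨0, 0, 0, 0, 0, 0, 0, 0⟩, ⟨0, 0, 0, 0, 0, 1, 1, -1⟩⟩ (i 310<|i 212<|i 311<|i 292<|i 175<|i 283<|i 87<|j))))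
 (.n (.n (.n (.l ⟨⟨6, 0, 0, 0, 0, 0, 0, 0⟩, ⟨3, 3, 3, 3, 1, 3, 1, 1⟩, ⟨0, 3, 0, -3, 2, 1, 0, 1⟩⟩ (i 126<|i 145<|i 149<|i 150<|i 12<|i 32<|i 82<|j))
 (.l ⟨⟨6, 0, 0, 0, 0, 0, 0, 0⟩, ⟨3, -3, 3, -3, 3, -1, -1, 1⟩, ⟨0, 3, 0, 3, 0, 1, -2, -1⟩⟩ (i 265<|i 266<|i 278<|i 228<|i 207<|i 220<|i 308<|j)))
 (.l ⟨⟨6, 0, 0, 0, 0, 0, 0, 0⟩, ⟨-3, 6, 3, 0, -1, 2, 1, 0⟩, ⟨0, 0, 0, 0, 0, -2, -2, 2⟩⟩ (i 200<|i 79<|i 238<|i 226<|i 67<|i 299<|i 184<|j)))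
 (.n (.l ⟨⟨12, 0, 0, 0, 0, 0, 0, 0⟩, ⟨-3, 0, 3, -6, -1, 0, -1, 2⟩, ⟨-3, 0, -3, 0, -3, 2, -1, -2⟩⟩ (i 253<|i 254<|i 256<|i 227<|i 206<|i 257<|i 36<|j))
 (.l ⟨⟨6, 0, 0, 0, 0, 0, 0, 0⟩, ⟨-3, -3, 3, 3, 1, 1, -1, -3⟩, ⟨0, -3, 0, 3, 2, 1, 0, 1⟩⟩ (i 249<|i 250<|i 108<|i 267<|i 193<|i 114<|i 288<|j))))))
 (.n (.n (.n (.n (.n (.l ⟨⟨6, 0, 0, 0, 0, 0, 0, 0⟩, ⟨0, 3, 0, 3, 0, -1, 2, 1⟩, ⟨3, 3, -3, -3, 1, 1, -1, -3⟩⟩ (i 47<|i 48<|i 50<|i 51<|i 52<|i 53<|i 2<|j))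
 (.l ⟨⟨6, 0, 0, 0, 0, 0, 0, 0⟩, ⟨0, -3, 0, -3, 0, -1, 2, 1⟩, ⟨-3, -3, -3, -3, 1, 3, 1, 1⟩⟩ (i 131<|i 269<|i 236<|i 309<|i 250<|i 129<|i 205<|j)))
 (.l ⟨⟨6, 0, 0, 0, 0, 0, 0, 0⟩, ⟨-3, 6, 3, 0, 1, -2, -1, 0⟩, ⟨0, 0, 0, 0, 2, -2, 0, -2⟩⟩ (i 46<|i 99<|i 117<|i 219<|i 261<|i 110<|i 117<|j)))
 (.n (.l ⟨⟨6, 0, 0, 0, 0, 0, 0, 0⟩, ⟨-3, 3, -3, 3, 3, -1, -1, 1⟩, ⟨6, -3, -6, 3, -4, 3, 2, -1⟩⟩ (i 123<|i 42<|i 164<|i 86<|i 40<|i 19<|i 92<|j))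
 (.l ⟨⟨2, 0, 0, 0, 0, 0, 0, 0⟩, ⟨2, 0, 0, 0, 0, 0, 0, 0⟩, ⟨1, 0, -1, 0, -1, 0, 1, 0⟩⟩ (i 84<|i 174<|i 138<|i 205<|i 172<|i 83<|i 235<|j))))
 (.n (.n (.n (.l ⟨⟨2, 0, 0, 0, 0, 0, 0, 0⟩, ⟨1, 0, 1, 0, 1, 0, 1, 0⟩, ⟨2, 0, 0, 0, 0, 0, 0, 0⟩⟩ (i 85<|i 35<|i 18<|i 11<|i 136<|i 16<|i 137<|j))
 (.l ⟨⟨12, 0, 0, 0, 0, 0, 0, 0⟩, ⟨-3, 0, -3, 0, -3, 2, -1, -2⟩, ⟨-3, 0, 3, -6, -1, 0, -1, 2⟩⟩ (i 256<|i 313<|i 253<|i 282<|i 181<|i 314<|i 300<|j)))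
 (.l ⟨⟨2, 0, 0, 0, 0, 0, 0, 0⟩, ⟨1, 0, 1, 0, -1, 0, -1, 0⟩, ⟨0, 0, -2, 0, 0, 0, 0, 0⟩⟩ (i 171<|i 169<|i 198<|i 202<|i 204<|i 272<|i 210<|j)))
 (.n (.l ⟨⟨6, 0, 0, 0, 0, 0, 0, 0⟩, ⟨0, 3, 0, -3, -2, -1, 0, -1⟩, ⟨3, 3, -3, -3, -1, -1, 1, 3⟩⟩ (i 183<|i 104<|i 244<|i 33<|i 243<|i 150<|i 163<|j))
 (.l ⟨⟨6, 0, 0, 0, 0, 0, 0, 0⟩, ⟨3, 3, 3, 3, -1, -3, -1, -1⟩, ⟨0, 3, 0, 3, 0, 1, -2, -1⟩⟩ (i 263<|i 168<|i 268<|i 101<|i 104<|i 101<|i 313<|j)))))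
 (.n (.n (.n (.n (.l ⟨⟨6, 0, 0, 0, 0, 0, 0, 0⟩, ⟨-3, 3, 3, -3, -1, 1, -3, 1⟩, ⟨0, -3, 0, -3, 0, 1, -2, -1⟩⟩ (i 31<|i 97<|i 7<|i 49<|i 100<|i 89<|i 28<|j))
 (.l ⟨⟨6, 0, 0, 0, 0, 0, 0, 0⟩, ⟨3, -3, 3, -3, 3, -1, -1, 1⟩, ⟨-6, 3, -6, 3, -2, 1, -4, 3⟩⟩ (i 234<|i 144<|i 233<|i 148<|i 150<|i 151<|i 294<|j)))
 (.l ⟨⟨2, 0, 0, 0, 0, 0, 0, 0⟩, ⟨0, 0, 2, 0, 0, 0, 0, 0⟩, ⟨1, 0, 1, 0, -1, 0, -1, 0⟩⟩ (i 167<|i 272<|i 169<|i 185<|i 196<|i 55<|i 127<|j)))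
 (.n (.l ⟨⟨6, 0, 0, 0, 0, 0, 0, 0⟩, ⟨-3, 0, -3, 0, -1, -2, 3, -2⟩, ⟨0, 0, 0, 0, 2, -2, 0, -2⟩⟩ (i 218<|i 217<|i 222<|i 25<|i 223<|i 71<|i 76<|j))
 (.l ⟨⟨6, 0, 0, 0, 0, 0, 0, 0⟩, ⟨-3, 0, -3, 0, -1, -2, 3, -2⟩, ⟨0, 0, 0, 0, -2, 2, 0, 2⟩⟩ (i 217<|i 218<|i 296<|i 91<|i 283<|i 308<|i 223<|j))))
 (.n (.n (.l ⟨⟨6, 0, 0, 0, 0, 0, 0, 0⟩, ⟨-3, 6, -3, 0, 1, 0, 1, -2⟩, ⟨6, 0, 0, 0, 0, 0, 0, 0⟩⟩ (i 19<|i 73<|i 154<|i 15<|i 163<|i 164<|i 32<|j))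
 (.l ⟨⟨12, 0, 0, 0, 0, 0, 0, 0⟩, ⟨-3, 6, 3, 0, 1, 0, 1, -2⟩, ⟨-3, 0, -3, 6, -1, 2, 1, 0⟩⟩ (i 187<|i 186<|i 277<|i 301<|i 187<|i 210<|i 279<|j)))
 (.n (.l ⟨⟨6, 0, 0, 0, 0, 0, 0, 0⟩, ⟨0, 3, 0, -3, 2, 1, 0, 1⟩, ⟨3, 3, 3, 3, 1, 3, 1, 1⟩⟩ (i 149<|i 228<|i 126<|i 265<|i 50<|i 39<|i 132<|j))
 (.l ⟨⟨6, 0, 0, 0, 0, 0, 0, 0⟩, ⟨-6, 3, 6, -3, -4, 3, 2, -1⟩, ⟨3, -3, -3, 3, -1, 1, -3, 1⟩⟩ (i 251<|i 150<|i 281<|i 126<|i 240<|i 270<|i 245<|j))))))))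
 (.n (.n (.n (.n (.n (.n (.n (.l ⟨⟨0, 0, 0, 0, 0, 0, 0, 0⟩, ⟨0, 0, 0, 0, 0, 0, 0, 0⟩, ⟨1, 0, 0, 0, 0, 0, 0, 0⟩⟩ (i 2<|i 2<|i 1<|i 2<|i 1<|i 11<|i 12<|j))
 (.l ⟨⟨6, 0, 0, 0, 0, 0, 0, 0⟩, ⟨0, 0, 0, 0, 2, -2, 0, -2⟩, ⟨-3, 0, 3, 0, -3, 2, -1, -2⟩⟩ (i 260<|i 119<|i 270<|i 117<|i 214<|i 251<|i 173<|j)))
 (.l ⟨⟨6, 0, 0, 0, 0, 0, 0, 0⟩, ⟨0, -3, 0, 3, 2, 1, 0, 1⟩, ⟨-3, 3, 3, -3, 1, -1, 3, -1⟩⟩ (i 86<|i 208<|i 211<|i 42<|i 266<|i 130<|i 89<|j)))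
 (.n (.l ⟨⟨2, 0, 0, 0, 0, 0, 0, 0⟩, ⟨1, 0, 1, 0, -1, 0, -1, 0⟩, ⟨0, 0, 2, 0, 0, 0, 0, 0⟩⟩ (i 169<|i 171<|i 167<|i 173<|i 174<|i 17<|i 175<|j))
 (.l ⟨⟨6, 0, 0, 0, 0, 0, 0, 0⟩, ⟨0, 0, 6, 0, 0, 0, 0, 0⟩, ⟨3, 0, -3, 6, -1, 2, 1, 0⟩⟩ (i 192<|i 75<|i 152<|i 302<|i 73<|i 267<|i 135<|j))))
 (.n (.n (.n (.l ⟨⟨12, 0, 0, 0, 0, 0, 0, 0⟩, ⟨3, 0, -3, 6, -1, 0, -1, 2⟩, ⟨3, 0, -3, 0, -1, -2, 3, -2⟩⟩ (i 106<|i 110<|i 25<|i 109<|i 112<|i 8<|i 62<|j))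
 (.l ⟨⟨0, 0, 0, 0, 0, 0, 0, 0⟩, ⟨3, 0, 0, 0, 0, 0, 0, 0⟩, ⟨0, 0, 0, 0, 0, 1, 1, -1⟩⟩ (i 290<|i 292<|i 292<|i 310<|i 292<|i 161<|i 265<|j)))
 (.l ⟨⟨12, 0, 0, 0, 0, 0, 0, 0⟩, ⟨-3, 0, -3, 6, 1, -2, -1, 0⟩, ⟨3, 0, 3, -6, -1, 2, 1, 0⟩⟩ (i 161<|i 61<|i 162<|i 262<|i 59<|i 292<|i 293<|j)))
 (.n (.l ⟨⟨6, 0, 0, 0, 0, 0, 0, 0⟩, ⟨-3, 3, -3, 3, 3, -1, -1, 1⟩, ⟨0, 3, 0, -3, 2, 1, 0, 1⟩⟩ (i 95<|i 30<|i 148<|i 229<|i 27<|i 230<|i 231<|j))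
 (.l ⟨⟨12, 0, 0, 0, 0, 0, 0, 0⟩, ⟨-3, 6, -3, 0, 1, -2, -1, 0⟩, ⟨3, 0, -3, 0, 1, 2, -3, 2⟩⟩ (i 201<|i 297<|i 230<|i 180<|i 313<|i 95<|i 303<|j)))))
 (.n (.n (.n (.n (.l ⟨⟨2, 0, 0, 0, 0, 0, 0, 0⟩, ⟨-2, 0, 0, 0, 0, 0, 0, 0⟩, ⟨-1, 0, -1, 0, -1, 0, -1, 0⟩⟩ (i 56<|i 68<|i 44<|i 18<|i 70<|i 4<|i 71<|j))
 (.l ⟨⟨6, 0, 0, 0, 0, 0, 0, 0⟩, ⟨0, 0, 0, 0, 0, -2, -2, 2⟩, ⟨3, 0, 3, -6, -1, 0, -1, 2⟩⟩ (i 232<|i 261<|i 227<|i 223<|i 141<|i 305<|i 269<|j)))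
 (.l ⟨⟨6, 0, 0, 0, 0, 0, 0, 0⟩, ⟨6, -3, 6, -3, 2, -1, 4, -3⟩, ⟨3, -3, 3, -3, 3, -1, -1, 1⟩⟩ (i 128<|i 267<|i 144<|i 249<|i 281<|i 49<|i 152<|j)))
 (.n (.l ⟨⟨4, 0, 0, 0, 0, 0, 0, 0⟩, ⟨1, 0, 1, 0, -1, 0, 1, 0⟩, ⟨-1, 0, 1, 0, -1, 0, -1, 0⟩⟩ (i 81<|i 80<|i 173<|i 182<|i 81<|i 182<|i 52<|j))
 (.l ⟨⟨6, 0, 0, 0, 0, 0, 0, 0⟩, ⟨3, -3, 3, -3, 3, -1, -1, 1⟩, ⟨0, -3, 0, -3, 0, -1, 2, 1⟩⟩ (i 266<|i 265<|i 280<|i 149<|i 86<|i 188<|i 172<|j))))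
 (.n (.n (.n (.l ⟨⟨6, 0, 0, 0, 0, 0, 0, 0⟩, ⟨-3, -3, 3, 3, -1, -1, 1, 3⟩, ⟨0, -3, 0, -3, 0, 1, -2, -1⟩⟩ (i 125<|i 41<|i 12<|i 38<|i 124<|i 147<|i 59<|j))
 (.l ⟨⟨6, 0, 0, 0, 0, 0, 0, 0⟩, ⟨3, 0, -3, 0, -3, 2, -1, -2⟩, ⟨0, 0, 0, 0, 0, -2, -2, 2⟩⟩ (i 312<|i 282<|i 223<|i 256<|i 295<|i 231<|i 201<|j)))
 (.l ⟨⟨6, 0, 0, 0, 0, 0, 0, 0⟩, ⟨-3, 0, -3, 6, -1, 0, -1, 2⟩, ⟨0, 0, 0, 0, -2, 2, 0, 2⟩⟩ (i 245<|i 109<|i 67<|i 106<|i 242<|i 297<|i 190<|j)))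
 (.n (.l ⟨⟨6, 0, 0, 0, 0, 0, 0, 0⟩, ⟨-6, 3, 6, -3, -4, 3, 2, -1⟩, ⟨-3, 3, 3, -3, 1, -1, 3, -1⟩⟩ (i 150<|i 251<|i 247<|i 145<|i 234<|i 244<|i 35<|j))
 (.l ⟨⟨6, 0, 0, 0, 0, 0, 0, 0⟩, ⟨0, 0, 0, 0, 0, -2, -2, 2⟩, ⟨-3, 6, 3, 0, -1, 2, 1, 0⟩⟩ (i 238<|i 197<|i 200<|i 133<|i 178<|i 302<|i 104<|j))))))
 (.n (.n (.n (.n (.n (.l ⟨⟨6, 0, 0, 0, 0, 0, 0, 0⟩, ⟨6, -3, 6, -3, -2, 1, -4, 3⟩, ⟨3, -3, -3, 3, 1, -1, 3, -1⟩⟩ (i 38<|i 39<|i 29<|i 41<|i 42<|i 43<|i 1<|j))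
 (.l ⟨⟨6, 0, 0, 0, 0, 0, 0, 0⟩, ⟨-3, 3, -3, 3, -3, 1, 1, -1⟩, ⟨0, 3, 0, 3, 0, 1, -2, -1⟩⟩ (i 210<|i 308<|i 279<|i 127<|i 130<|i 277<|i 177<|j)))
 (.l ⟨⟨2, 0, 0, 0, 0, 0, 0, 0⟩, ⟨-1, 0, 1, 0, 1, 0, -1, 0⟩, ⟨-2, 0, 0, 0, 0, 0, 0, 0⟩⟩ (i 78<|i 115<|i 204<|i 45<|i 272<|i 202<|i 277<|j)))
 (.n (.l ⟨⟨6, 0, 0, 0, 0, 0, 0, 0⟩, ⟨6, 0, 0, 0, 0, 0, 0, 0⟩, ⟨-3, 6, -3, 0, 1, 0, 1, -2⟩⟩ (i 154<|i 155<|i 19<|i 191<|i 147<|i 123<|i 97<|j))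
 (.l ⟨⟨4, 0, 0, 0, 0, 0, 0, 0⟩, ⟨1, 0, -1, 0, 1, 0, 1, 0⟩, ⟨1, 0, 1, 0, -1, 0, 1, 0⟩⟩ (i 83<|i 203<|i 80<|i 172<|i 83<|i 138<|i 103<|j))))
 (.n (.n (.n (.l ⟨⟨6, 0, 0, 0, 0, 0, 0, 0⟩, ⟨3, -3, 3, -3, -3, 1, 1, -1⟩, ⟨6, -3, -6, 3, -4, 3, 2, -1⟩⟩ (i 121<|i 76<|i 129<|i 130<|i 10<|i 131<|i 81<|j))
 (.l ⟨⟨6, 0, 0, 0, 0, 0, 0, 0⟩, ⟨3, 0, -3, 0, -3, 2, -1, -2⟩, ⟨0, 0, 0, 0, 0, 2, 2, -2⟩⟩ (i 282<|i 312<|i 283<|i 313<|i 179<|i 310<|i 267<|j)))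
 (.l ⟨⟨6, 0, 0, 0, 0, 0, 0, 0⟩, ⟨3, 0, 3, -6, -1, 0, -1, 2⟩, ⟨0, 0, 0, 0, 0, -2, -2, 2⟩⟩ (i 227<|i 120<|i 232<|i 254<|i 118<|i 254<|i 65<|j)))
 (.n (.l ⟨⟨12, 0, 0, 0, 0, 0, 0, 0⟩, ⟨-3, 0, 3, -6, 1, 0, 1, -2⟩, ⟨-3, 0, 3, 0, 1, 2, -3, 2⟩⟩ (i 34<|i 111<|i 89<|i 178<|i 224<|i 31<|i 106<|j))
 (.l ⟨⟨6, 0, 0, 0, 0, 0, 0, 0⟩, ⟨-3, 3, -3, 3, -3, 1, 1, -1⟩, ⟨6, -3, 6, -3, 2, -1, 4, -3⟩⟩ (i 284<|i 240<|i 267<|i 100<|i 114<|i 192<|i 169<|j)))))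
 (.n (.n (.n (.n (.l ⟨⟨6, 0, 0, 0, 0, 0, 0, 0⟩, ⟨0, -3, 0, -3, 0, 1, -2, -1⟩, ⟨3, -3, -3, 3, 1, -1, 3, -1⟩⟩ (i 27<|i 7<|i 51<|i 94<|i 95<|i 96<|i 39<|j))
 (.l ⟨⟨6, 0, 0, 0, 0, 0, 0, 0⟩, ⟨-3, 0, 3, 0, 3, -2, 1, 2⟩, ⟨0, 0, 0, 0, 0, -2, -2, 2⟩⟩ (i 298<|i 306<|i 275<|i 300<|i 296<|i 264<|i 141<|j)))
 (.l ⟨⟨6, 0, 0, 0, 0, 0, 0, 0⟩, ⟨-6, 0, 0, 0, 0, 0, 0, 0⟩, ⟨3, -6, 3, 0, -1, 0, -1, 2⟩⟩ (i 74<|i 191<|i 60<|i 154<|i 53<|i 107<|i 72<|j)))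
 (.n (.l ⟨⟨12, 0, 0, 0, 0, 0, 0, 0⟩, ⟨3, 0, -3, 0, -1, -2, 3, -2⟩, ⟨-3, 0, 3, -6, 1, 0, 1, -2⟩⟩ (i 91<|i 25<|i 111<|i 218<|i 219<|i 37<|i 43<|j))
 (.l ⟨⟨6, 0, 0, 0, 0, 0, 0, 0⟩, ⟨3, 0, 3, 0, 1, 2, -3, 2⟩, ⟨0, 0, 0, 0, -2, 2, 0, 2⟩⟩ (i 92<|i 220<|i 295<|i 90<|i 231<|i 189<|i 311<|j))))
 (.n (.n (.n (.l ⟨⟨12, 0, 0, 0, 0, 0, 0, 0⟩, ⟨3, -6, -3, 0, 1, 0, 1, -2⟩, ⟨3, -6, -3, 0, 1, 0, 1, -2⟩⟩ (i 59<|i 15<|i 59<|i 19<|i 161<|i 59<|i 29<|j))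
 (.l ⟨⟨6, 0, 0, 0, 0, 0, 0, 0⟩, ⟨6, 0, 0, 0, 0, 0, 0, 0⟩, ⟨3, 0, -3, 6, 1, -2, -1, 0⟩⟩ (i 303<|i 271<|i 289<|i 276<|i 299<|i 300<|i 312<|j)))
 (.l ⟨⟨12, 0, 0, 0, 0, 0, 0, 0⟩, ⟨3, -6, -3, 0, -1, 0, -1, 2⟩, ⟨-3, 0, -3, 6, -1, 2, 1, 0⟩⟩ (i 71<|i 188<|i 286<|i 291<|i 186<|i 222<|i 70<|j)))
 (.n (.l ⟨⟨6, 0, 0, 0, 0, 0, 0, 0⟩, ⟨-3, -3, 3, 3, -1, -1, 1, 3⟩, ⟨0, 3, 0, 3, 0, -1, 2, 1⟩⟩ (i 41<|i 125<|i 48<|i 39<|i 228<|i 240<|i 191<|j))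
 (.l ⟨⟨6, 0, 0, 0, 0, 0, 0, 0⟩, ⟨3, 3, -3, -3, -1, -1, 1, 3⟩, ⟨0, -3, 0, 3, 2, 1, 0, 1⟩⟩ (i 241<|i 244<|i 229<|i 233<|i 268<|i 119<|i 113<|j)))))))
 (.n (.n (.n (.n (.n (.n (.l ⟨⟨4, 0, 0, 0, 0, 0, 0, 0⟩, ⟨1, 0, -1, 0, -1, 0, -1, 0⟩, ⟨1, 0, -1, 0, -1, 0, -1, 0⟩⟩ (i 23<|i 9<|i 23<|i 24<|i 21<|i 6<|i 25<|j))
 (.l ⟨⟨6, 0, 0, 0, 0, 0, 0, 0⟩, ⟨-3, 0, 3, -6, -1, 2, 1, 0⟩, ⟨6, 0, 0, 0, 0, 0, 0, 0⟩⟩ (i 165<|i 257<|i 271<|i 162<|i 304<|i 120<|i 129<|j)))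
 (.l ⟨⟨6, 0, 0, 0, 0, 0, 0, 0⟩, ⟨0, 0, 0, 0, 0, -2, -2, 2⟩, ⟨3, -6, -3, 0, 1, -2, -1, 0⟩⟩ (i 197<|i 238<|i 199<|i 43<|i 109<|i 112<|i 199<|j)))
 (.n (.l ⟨⟨2, 0, 0, 0, 0, 0, 0, 0⟩, ⟨1, 0, -1, 0, 1, 0, -1, 0⟩, ⟨0, 0, 2, 0, 0, 0, 0, 0⟩⟩ (i 158<|i 184<|i 185<|i 22<|i 18<|i 174<|i 186<|j))
 (.l ⟨⟨2, 0, 0, 0, 0, 0, 0, 0⟩, ⟨0, 0, 2, 0, 0, 0, 0, 0⟩, ⟨-1, 0, -1, 0, 1, 0, 1, 0⟩⟩ (i 272<|i 167<|i 172<|i 87<|i 78<|i 198<|i 78<|j))))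
 (.n (.n (.n (.l ⟨⟨6, 0, 0, 0, 0, 0, 0, 0⟩, ⟨-6, 3, -6, 3, 2, -1, 4, -3⟩, ⟨-3, 3, 3, -3, -1, 1, -3, 1⟩⟩ (i 10<|i 40<|i 94<|i 50<|i 121<|i 88<|i 38<|j))
 (.l ⟨⟨3, 0, 0, 0, 0, 0, 0, 0⟩, ⟨0, 0, 0, 0, 1, -1, 0, -1⟩, ⟨0, 0, 0, 0, 0, 0, 0, 0⟩⟩ (i 175<|i 175<|i 285<|i 175<|i 310<|i 273<|i 284<|j)))
 (.l ⟨⟨3, 0, 0, 0, 0, 0, 0, 0⟩, ⟨0, 0, 0, 0, 0, 0, 0, 0⟩, ⟨0, 0, 0, 0, 1, -1, 0, -1⟩⟩ (i 285<|i 166<|i 175<|i 62<|i 264<|i 208<|i 275<|j)))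
 (.n (.l ⟨⟨6, 0, 0, 0, 0, 0, 0, 0⟩, ⟨0, 0, 0, 0, 0, -2, -2, 2⟩, ⟨3, 0, 3, 0, -1, -2, 3, -2⟩⟩ (i 43<|i 133<|i 213<|i 238<|i 239<|i 29<|i 147<|j))
 (.l ⟨⟨12, 0, 0, 0, 0, 0, 0, 0⟩, ⟨-3, 0, 3, 0, -1, -2, 3, -2⟩, ⟨3, -6, 3, 0, -1, 2, 1, 0⟩⟩ (i 287<|i 206<|i 226<|i 213<|i 255<|i 98<|i 225<|j)))))
 (.n (.n (.n (.n (.l ⟨⟨4, 0, 0, 0, 0, 0, 0, 0⟩, ⟨1, 0, 1, 0, -1, 0, 1, 0⟩, ⟨1, 0, -1, 0, 1, 0, 1, 0⟩⟩ (i 80<|i 81<|i 83<|i 70<|i 22<|i 84<|i 5<|j))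
 (.l ⟨⟨6, 0, 0, 0, 0, 0, 0, 0⟩, ⟨0, -3, 0, -3, 0, -1, 2, 1⟩, ⟨-3, 3, -3, 3, -3, 1, 1, -1⟩⟩ (i 139<|i 280<|i 308<|i 247<|i 309<|i 217<|i 253<|j)))
 (.l ⟨⟨6, 0, 0, 0, 0, 0, 0, 0⟩, ⟨6, -3, -6, 3, 4, -3, -2, 1⟩, ⟨3, -3, -3, 3, -1, 1, -3, 1⟩⟩ (i 114<|i 252<|i 288<|i 52<|i 284<|i 108<|i 213<|j)))
 (.n (.l ⟨⟨6, 0, 0, 0, 0, 0, 0, 0⟩, ⟨0, 3, 0, -3, -2, -1, 0, -1⟩, ⟨3, -3, -3, 3, -1, 1, -3, 1⟩⟩ (i 130<|i 207<|i 209<|i 76<|i 210<|i 211<|i 23<|j))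
 (.l ⟨⟨6, 0, 0, 0, 0, 0, 0, 0⟩, ⟨-3, 0, -3, 0, 1, 2, -3, 2⟩, ⟨0, 0, 0, 0, 0, -2, -2, 2⟩⟩ (i 215<|i 88<|i 133<|i 307<|i 258<|i 143<|i 203<|j))))
 (.n (.n (.n (.l ⟨⟨1, 0, 0, 0, 0, 0, 0, 0⟩, ⟨0, 0, 0, 0, 0, 0, 0, 0⟩, ⟨1, 0, 0, 0, 0, 0, 0, 0⟩⟩ (i 14<|i 54<|i 16<|i 13<|i 65<|i 85<|i 155<|j))
 (.l ⟨⟨3, 0, 0, 0, 0, 0, 0, 0⟩, ⟨0, 0, 0, 0, 0, 0, 0, 0⟩, ⟨0, 0, 0, 0, 0, -1, -1, 1⟩⟩ (i 212<|i 310<|i 264<|i 290<|i 294<|i 298<|i 241<|j)))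
 (.l ⟨⟨2, 0, 0, 0, 0, 0, 0, 0⟩, ⟨1, 0, -1, 0, 1, 0, -1, 0⟩, ⟨0, 0, -2, 0, 0, 0, 0, 0⟩⟩ (i 184<|i 158<|i 113<|i 82<|i 68<|i 82<|i 164<|j)))
 (.n (.l ⟨⟨6, 0, 0, 0, 0, 0, 0, 0⟩, ⟨0, 0, 0, 0, 2, -2, 0, -2⟩, ⟨3, -6, -3, 0, -1, 2, 1, 0⟩⟩ (i 96<|i 117<|i 141<|i 260<|i 170<|i 51<|i 167<|j))
 (.l ⟨⟨12, 0, 0, 0, 0, 0, 0, 0⟩, ⟨3, 0, 3, 0, -3, 2, -1, -2⟩, ⟨3, -6, 3, 0, 1, -2, -1, 0⟩⟩ (i 248<|i 224<|i 219<|i 270<|i 110<|i 293<|i 289<|j))))))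
 (.n (.n (.n (.n (.n (.l ⟨⟨1, 0, 0, 0, 0, 0, 0, 0⟩, ⟨0, 0, 0, 0, 0, 0, 0, 0⟩, ⟨-1, 0, 0, 0, 0, 0, 0, 0⟩⟩ (i 54<|i 14<|i 4<|i 3<|i 55<|i 56<|i 41<|j))
 (.l ⟨⟨6, 0, 0, 0, 0, 0, 0, 0⟩, ⟨3, 0, -3, 0, 3, -2, 1, 2⟩, ⟨0, 0, 0, 0, -2, 2, 0, 2⟩⟩ (i 237<|i 239<|i 258<|i 246<|i 132<|i 252<|i 165<|j)))
 (.l ⟨⟨12, 0, 0, 0, 0, 0, 0, 0⟩, ⟨3, -6, 3, 0, 1, -2, -1, 0⟩, ⟨-3, 0, -3, 0, 3, -2, 1, 2⟩⟩ (i 93<|i 219<|i 112<|i 46<|i 89<|i 197<|i 109<|j)))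
 (.n (.l ⟨⟨2, 0, 0, 0, 0, 0, 0, 0⟩, ⟨1, 0, -1, 0, -1, 0, 1, 0⟩, ⟨2, 0, 0, 0, 0, 0, 0, 0⟩⟩ (i 138<|i 196<|i 84<|i 21<|i 198<|i 80<|i 198<|j))
 (.l ⟨⟨12, 0, 0, 0, 0, 0, 0, 0⟩, ⟨3, 0, -3, 0, 1, 2, -3, 2⟩, ⟨3, -6, 3, 0, -1, 2, 1, 0⟩⟩ (i 307<|i 230<|i 181<|i 88<|i 116<|i 176<|i 85<|j))))
 (.n (.n (.n (.l ⟨⟨6, 0, 0, 0, 0, 0, 0, 0⟩, ⟨3, -6, -3, 0, -1, 2, 1, 0⟩, ⟨0, 0, 0, 0, -2, 2, 0, 2⟩⟩ (i 140<|i 141<|i 37<|i 142<|i 137<|i 91<|i 11<|j))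
 (.l ⟨⟨6, 0, 0, 0, 0, 0, 0, 0⟩, ⟨0, 0, -6, 0, 0, 0, 0, 0⟩, ⟨3, -6, 3, 0, 1, 0, 1, -2⟩⟩ (i 195<|i 304<|i 190<|i 194<|i 289<|i 242<|i 232<|j)))
 (.l ⟨⟨2, 0, 0, 0, 0, 0, 0, 0⟩, ⟨-2, 0, 0, 0, 0, 0, 0, 0⟩, ⟨1, 0, -1, 0, -1, 0, 1, 0⟩⟩ (i 205<|i 204<|i 196<|i 174<|i 66<|i 70<|i 216<|j)))
 (.n (.l ⟨⟨12, 0, 0, 0, 0, 0, 0, 0⟩, ⟨-3, 0, 3, -6, 1, 0, 1, -2⟩, ⟨3, 0, -3, 0, -1, -2, 3, -2⟩⟩ (i 111<|i 34<|i 91<|i 235<|i 246<|i 140<|i 247<|j))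
 (.l ⟨⟨6, 0, 0, 0, 0, 0, 0, 0⟩, ⟨0, 0, 0, 0, 0, 2, 2, -2⟩, ⟨3, -6, -3, 0, 1, -2, -1, 0⟩⟩ (i 242<|i 134<|i 180<|i 102<|i 245<|i 190<|i 295<|j)))))
 (.n (.n (.n (.n (.l ⟨⟨6, 0, 0, 0, 0, 0, 0, 0⟩, ⟨3, -3, 3, -3, -3, 1, 1, -1⟩, ⟨0, 3, 0, -3, 2, 1, 0, 1⟩⟩ (i 33<|i 98<|i 103<|i 104<|i 7<|i 105<|i 30<|j))
 (.l ⟨⟨12, 0, 0, 0, 0, 0, 0, 0⟩, ⟨3, 0, 3, -6, 1, -2, -1, 0⟩, ⟨-3, 6, 3, 0, 1, 0, 1, -2⟩⟩ (i 189<|i 153<|i 186<|i 147<|i 189<|i 295<|i 297<|j)))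
 (.l ⟨⟨2, 0, 0, 0, 0, 0, 0, 0⟩, ⟨-1, 0, 1, 0, -1, 0, 1, 0⟩, ⟨0, 0, -2, 0, 0, 0, 0, 0⟩⟩ (i 70<|i 182<|i 136<|i 81<|i 56<|i 196<|i 56<|j)))
 (.n (.l ⟨⟨6, 0, 0, 0, 0, 0, 0, 0⟩, ⟨3, -3, -3, 3, 1, -1, 3, -1⟩, ⟨6, -3, 6, -3, -2, 1, -4, 3⟩⟩ (i 29<|i 64<|i 38<|i 26<|i 129<|i 213<|i 125<|j))
 (.l ⟨⟨6, 0, 0, 0, 0, 0, 0, 0⟩, ⟨0, 0, 0, 0, -2, 2, 0, 2⟩, ⟨3, 0, 3, 0, 1, 2, -3, 2⟩⟩ (i 295<|i 296<|i 92<|i 105<|i 312<|i 186<|i 229<|j))))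
 (.n (.n (.l ⟨⟨0, 0, 0, 0, 0, 0, 0, 0⟩, ⟨3, 0, 0, 0, 0, 0, 0, 0⟩, ⟨0, 0, 0, 0, -1, 1, 0, 1⟩⟩ (i 62<|i 160<|i 160<|i 166<|i 160<|i 15<|i 34<|j))
 (.l ⟨⟨6, 0, 0, 0, 0, 0, 0, 0⟩, ⟨-3, 6, -3, 0, -1, 0, -1, 2⟩, ⟨0, 0, 6, 0, 0, 0, 0, 0⟩⟩ (i 299<|i 291<|i 302<|i 71<|i 303<|i 238<|i 178<|j)))
 (.n (.l ⟨⟨6, 0, 0, 0, 0, 0, 0, 0⟩, ⟨-3, -3, -3, -3, -1, -3, -1, -1⟩, ⟨0, -3, 0, 3, -2, -1, 0, -1⟩⟩ (i 52<|i 143<|i 124<|i 252<|i 47<|i 40<|i 121<|j))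
 (.l ⟨⟨12, 0, 0, 0, 0, 0, 0, 0⟩, ⟨3, 0, -3, 6, 1, 0, 1, -2⟩, ⟨-3, 0, -3, 0, -3, 2, -1, -2⟩⟩ (i 255<|i 116<|i 313<|i 170<|i 287<|i 170<|i 192<|j)))))))))
 (.n (.n (.n (.n (.n (.n (.n (.n (.l ⟨⟨0, 0, 0, 0, 0, 0, 0, 0⟩, ⟨1, 0, 0, 0, 0, 0, 0, 0⟩, ⟨0, 0, 0, 0, 0, 0, 0, 0⟩⟩ (i 1<|i 1<|i 2<|i 0<|i 2<|i 9<|i 10<|j))
 (.l ⟨⟨6, 0, 0, 0, 0, 0, 0, 0⟩, ⟨3, 0, -3, 6, 1, -2, -1, 0⟩, ⟨6, 0, 0, 0, 0, 0, 0, 0⟩⟩ (i 289<|i 262<|i 303<|i 161<|i 195<|i 116<|i 179<|j)))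
 (.l ⟨⟨6, 0, 0, 0, 0, 0, 0, 0⟩, ⟨-6, 3, 6, -3, 4, -3, -2, 1⟩, ⟨-3, 3, -3, 3, 3, -1, -1, 1⟩⟩ (i 101<|i 107<|i 42<|i 168<|i 94<|i 268<|i 262<|j)))
 (.n (.l ⟨⟨1, 0, 0, 0, 0, 0, 0, 0⟩, ⟨0, 0, 1, 0, 0, 0, 0, 0⟩, ⟨0, 0, 0, 0, 0, 0, 0, 0⟩⟩ (i 55<|i 55<|i 17<|i 55<|i 54<|i 169<|i 170<|j))
 (.l ⟨⟨6, 0, 0, 0, 0, 0, 0, 0⟩, ⟨0, -3, 0, -3, 0, -1, 2, 1⟩, ⟨3, 3, 3, 3, -1, -3, -1, -1⟩⟩ (i 269<|i 131<|i 168<|i 211<|i 244<|i 72<|i 195<|j))))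
 (.n (.n (.n (.l ⟨⟨6, 0, 0, 0, 0, 0, 0, 0⟩, ⟨-3, 3, -3, 3, 3, -1, -1, 1⟩, ⟨0, -3, 0, 3, -2, -1, 0, -1⟩⟩ (i 30<|i 95<|i 100<|i 108<|i 8<|i 109<|i 20<|j))
 (.l ⟨⟨6, 0, 0, 0, 0, 0, 0, 0⟩, ⟨-3, 0, 3, -6, -1, 2, 1, 0⟩, ⟨-6, 0, 0, 0, 0, 0, 0, 0⟩⟩ (i 257<|i 165<|i 314<|i 159<|i 302<|i 256<|i 246<|j)))
 (.l ⟨⟨12, 0, 0, 0, 0, 0, 0, 0⟩, ⟨3, 0, 3, -6, -1, 2, 1, 0⟩, ⟨-3, 0, -3, 6, 1, -2, -1, 0⟩⟩ (i 162<|i 159<|i 161<|i 257<|i 58<|i 290<|i 291<|j)))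
 (.n (.l ⟨⟨6, 0, 0, 0, 0, 0, 0, 0⟩, ⟨3, -3, -3, 3, 1, -1, 3, -1⟩, ⟨0, -3, 0, -3, 0, 1, -2, -1⟩⟩ (i 51<|i 28<|i 27<|i 48<|i 225<|i 141<|i 74<|j))
 (.l ⟨⟨6, 0, 0, 0, 0, 0, 0, 0⟩, ⟨0, 3, 0, -3, 2, 1, 0, 1⟩, ⟨-3, 3, -3, 3, 3, -1, -1, 1⟩⟩ (i 148<|i 103<|i 95<|i 144<|i 97<|i 201<|i 230<|j)))))
 (.n (.n (.n (.n (.l ⟨⟨1, 0, 0, 0, 0, 0, 0, 0⟩, ⟨0, 0, 0, 0, 0, 0, 0, 0⟩, ⟨0, 0, -1, 0, 0, 0, 0, 0⟩⟩ (i 63<|i 17<|i 65<|i 5<|i 4<|i 66<|i 67<|j))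
 (.l ⟨⟨6, 0, 0, 0, 0, 0, 0, 0⟩, ⟨-3, 3, 3, -3, 1, -1, 3, -1⟩, ⟨0, 3, 0, -3, -2, -1, 0, -1⟩⟩ (i 309<|i 211<|i 207<|i 269<|i 139<|i 294<|i 136<|j)))
 (.l ⟨⟨6, 0, 0, 0, 0, 0, 0, 0⟩, ⟨-3, -3, -3, -3, -1, -3, -1, -1⟩, ⟨0, 3, 0, -3, 2, 1, 0, 1⟩⟩ (i 143<|i 52<|i 228<|i 114<|i 49<|i 133<|i 285<|j)))
 (.n (.l ⟨⟨4, 0, 0, 0, 0, 0, 0, 0⟩, ⟨-1, 0, -1, 0, 1, 0, -1, 0⟩, ⟨1, 0, -1, 0, 1, 0, 1, 0⟩⟩ (i 82<|i 22<|i 203<|i 158<|i 82<|i 113<|i 42<|j))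
 (.l ⟨⟨6, 0, 0, 0, 0, 0, 0, 0⟩, ⟨-3, 3, 3, -3, 1, -1, 3, -1⟩, ⟨0, -3, 0, 3, 2, 1, 0, 1⟩⟩ (i 211<|i 309<|i 86<|i 131<|i 279<|i 209<|i 160<|j))))
 (.n (.n (.n (.l ⟨⟨6, 0, 0, 0, 0, 0, 0, 0⟩, ⟨0, 3, 0, 3, 0, -1, 2, 1⟩, ⟨-3, -3, 3, 3, -1, -1, 1, 3⟩⟩ (i 48<|i 47<|i 41<|i 28<|i 145<|i 146<|i 27<|j))
 (.l ⟨⟨12, 0, 0, 0, 0, 0, 0, 0⟩, ⟨-3, 0, -3, 0, -3, 2, -1, -2⟩, ⟨3, 0, -3, 6, 1, 0, 1, -2⟩⟩ (i 313<|i 256<|i 255<|i 312<|i 201<|i 274<|i 240<|j)))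
 (.l ⟨⟨6, 0, 0, 0, 0, 0, 0, 0⟩, ⟨0, 0, 0, 0, -2, 2, 0, 2⟩, ⟨3, 0, 3, -6, 1, 0, 1, -2⟩⟩ (i 105<|i 67<|i 235<|i 296<|i 199<|i 103<|i 266<|j)))
 (.n (.l ⟨⟨2, 0, 0, 0, 0, 0, 0, 0⟩, ⟨0, 0, 2, 0, 0, 0, 0, 0⟩, ⟨-1, 0, 1, 0, -1, 0, 1, 0⟩⟩ (i 87<|i 185<|i 182<|i 167<|i 35<|i 81<|i 250<|j))
 (.l ⟨⟨6, 0, 0, 0, 0, 0, 0, 0⟩, ⟨-3, -3, 3, 3, 1, 1, -1, -3⟩, ⟨0, 3, 0, -3, -2, -1, 0, -1⟩⟩ (i 250<|i 249<|i 104<|i 128<|i 131<|i 135<|i 310<|j))))))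
 (.n (.n (.n (.n (.n (.l ⟨⟨4, 0, 0, 0, 0, 0, 0, 0⟩, ⟨-1, 0, 1, 0, 1, 0, 1, 0⟩, ⟨1, 0, -1, 0, -1, 0, -1, 0⟩⟩ (i 11<|i 6<|i 9<|i 35<|i 36<|i 1<|i 37<|j))
 (.l ⟨⟨6, 0, 0, 0, 0, 0, 0, 0⟩, ⟨-3, 3, -3, 3, -3, 1, 1, -1⟩, ⟨0, -3, 0, -3, 0, -1, 2, 1⟩⟩ (i 308<|i 210<|i 139<|i 124<|i 208<|i 296<|i 290<|j)))
 (.l ⟨⟨6, 0, 0, 0, 0, 0, 0, 0⟩, ⟨0, 0, 0, 0, 0, -2, -2, 2⟩, ⟨-3, 0, -3, 6, 1, 0, 1, -2⟩⟩ (i 261<|i 232<|i 259<|i 275<|i 46<|i 276<|i 44<|j)))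
 (.n (.l ⟨⟨6, 0, 0, 0, 0, 0, 0, 0⟩, ⟨3, -6, 3, 0, -1, 0, -1, 2⟩, ⟨6, 0, 0, 0, 0, 0, 0, 0⟩⟩ (i 72<|i 60<|i 155<|i 57<|i 194<|i 168<|i 51<|j))
 (.l ⟨⟨12, 0, 0, 0, 0, 0, 0, 0⟩, ⟨3, -6, 3, 0, -1, 2, 1, 0⟩, ⟨-3, 0, 3, 0, -1, -2, 3, -2⟩⟩ (i 226<|i 181<|i 287<|i 79<|i 305<|i 225<|i 306<|j))))
 (.n (.n (.n (.l ⟨⟨6, 0, 0, 0, 0, 0, 0, 0⟩, ⟨3, 3, -3, -3, 1, 1, -1, -3⟩, ⟨0, -3, 0, -3, 0, 1, -2, -1⟩⟩ (i 122<|i 50<|i 49<|i 10<|i 127<|i 128<|i 14<|j))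
 (.l ⟨⟨12, 0, 0, 0, 0, 0, 0, 0⟩, ⟨3, -6, 3, 0, -1, 2, 1, 0⟩, ⟨3, 0, -3, 0, 1, 2, -3, 2⟩⟩ (i 181<|i 226<|i 307<|i 200<|i 256<|i 178<|i 286<|j)))
 (.l ⟨⟨2, 0, 0, 0, 0, 0, 0, 0⟩, ⟨-1, 0, -1, 0, 1, 0, 1, 0⟩, ⟨0, 0, -2, 0, 0, 0, 0, 0⟩⟩ (i 66<|i 172<|i 156<|i 83<|i 205<|i 65<|i 234<|j)))
 (.n (.l ⟨⟨6, 0, 0, 0, 0, 0, 0, 0⟩, ⟨0, 0, 0, 0, 2, -2, 0, -2⟩, ⟨-3, 0, -3, 6, -1, 0, -1, 2⟩⟩ (i 177<|i 176<|i 109<|i 222<|i 79<|i 30<|i 171<|j))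
 (.l ⟨⟨6, 0, 0, 0, 0, 0, 0, 0⟩, ⟨6, -3, 6, -3, 2, -1, 4, -3⟩, ⟨-3, 3, -3, 3, -3, 1, 1, -1⟩⟩ (i 267<|i 128<|i 284<|i 250<|i 247<|i 152<|i 99<|j)))))
 (.n (.n (.n (.n (.l ⟨⟨12, 0, 0, 0, 0, 0, 0, 0⟩, ⟨-3, 0, 3, 0, 1, 2, -3, 2⟩, ⟨-3, 0, 3, -6, 1, 0, 1, -2⟩⟩ (i 89<|i 90<|i 34<|i 92<|i 93<|i 7<|i 6<|j))
 (.l ⟨⟨6, 0, 0, 0, 0, 0, 0, 0⟩, ⟨-3, 3, 3, -3, 1, -1, 3, -1⟩, ⟨6, -3, -6, 3, 4, -3, -2, 1⟩⟩ (i 157<|i 247<|i 252<|i 139<|i 146<|i 237<|i 227<|j)))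
 (.l ⟨⟨12, 0, 0, 0, 0, 0, 0, 0⟩, ⟨-3, 0, -3, 6, -1, 2, 1, 0⟩, ⟨-3, 6, 3, 0, 1, 0, 1, -2⟩⟩ (i 277<|i 286<|i 187<|i 53<|i 153<|i 279<|i 272<|j)))
 (.n (.l ⟨⟨12, 0, 0, 0, 0, 0, 0, 0⟩, ⟨3, 0, -3, 0, -1, -2, 3, -2⟩, ⟨3, 0, -3, 6, -1, 0, -1, 2⟩⟩ (i 25<|i 91<|i 106<|i 217<|i 142<|i 28<|i 130<|j))
 (.l ⟨⟨6, 0, 0, 0, 0, 0, 0, 0⟩, ⟨3, 0, 3, 0, 1, 2, -3, 2⟩, ⟨0, 0, 0, 0, 2, -2, 0, -2⟩⟩ (i 220<|i 92<|i 179<|i 89<|i 275<|i 278<|i 95<|j))))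
 (.n (.n (.n (.l ⟨⟨12, 0, 0, 0, 0, 0, 0, 0⟩, ⟨3, -6, -3, 0, 1, 0, 1, -2⟩, ⟨-3, 6, 3, 0, -1, 0, -1, 2⟩⟩ (i 15<|i 59<|i 57<|i 73<|i 159<|i 160<|i 57<|j))
 (.l ⟨⟨12, 0, 0, 0, 0, 0, 0, 0⟩, ⟨3, 0, 3, 0, 3, -2, 1, 2⟩, ⟨-3, 0, 3, -6, -1, 0, -1, 2⟩⟩ (i 305<|i 300<|i 254<|i 298<|i 226<|i 227<|i 236<|j)))
 (.l ⟨⟨2, 0, 0, 0, 0, 0, 0, 0⟩, ⟨0, 0, -2, 0, 0, 0, 0, 0⟩, ⟨-1, 0, 1, 0, -1, 0, 1, 0⟩⟩ (i 136<|i 113<|i 70<|i 156<|i 85<|i 205<|i 120<|j)))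
 (.n (.l ⟨⟨6, 0, 0, 0, 0, 0, 0, 0⟩, ⟨-3, 3, -3, 3, 3, -1, -1, 1⟩, ⟨-6, 3, 6, -3, 4, -3, -2, 1⟩⟩ (i 42<|i 123<|i 101<|i 208<|i 38<|i 263<|i 126<|j))
 (.l ⟨⟨6, 0, 0, 0, 0, 0, 0, 0⟩, ⟨3, 3, -3, -3, -1, -1, 1, 3⟩, ⟨0, 3, 0, -3, -2, -1, 0, -1⟩⟩ (i 244<|i 241<|i 183<|i 146<|i 269<|i 247<|i 111<|j)))))))
 (.n (.n (.n (.n (.n (.n (.l ⟨⟨0, 0, 0, 0, 0, 0, 0, 0⟩, ⟨1, 0, 0, 0, 0, 0, 0, 0⟩, ⟨0, 0, 1, 0, 0, 0, 0, 0⟩⟩ (i 5<|i 20<|i 20<|i 17<|i 5<|i 21<|i 22<|j))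
 (.l ⟨⟨6, 0, 0, 0, 0, 0, 0, 0⟩, ⟨0, 0, 0, 0, 0, 2, 2, -2⟩, ⟨3, 0, 3, -6, -1, 0, -1, 2⟩⟩ (i 137<|i 274<|i 120<|i 231<|i 140<|i 165<|i 307<|j)))
 (.l ⟨⟨6, 0, 0, 0, 0, 0, 0, 0⟩, ⟨0, 0, 0, 0, 0, 2, 2, -2⟩, ⟨3, 0, 3, 0, -1, -2, 3, -2⟩⟩ (i 132<|i 102<|i 214<|i 242<|i 237<|i 145<|i 271<|j)))
 (.n (.l ⟨⟨2, 0, 0, 0, 0, 0, 0, 0⟩, ⟨-2, 0, 0, 0, 0, 0, 0, 0⟩, ⟨1, 0, 1, 0, 1, 0, 1, 0⟩⟩ (i 68<|i 56<|i 35<|i 69<|i 184<|i 69<|i 75<|j))
 (.l ⟨⟨6, 0, 0, 0, 0, 0, 0, 0⟩, ⟨0, 0, 0, 0, 0, 2, 2, -2⟩, ⟨-3, 6, 3, 0, -1, 2, 1, 0⟩⟩ (i 134<|i 242<|i 79<|i 132<|i 235<|i 142<|i 77<|j))))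
 (.n (.n (.n (.l ⟨⟨6, 0, 0, 0, 0, 0, 0, 0⟩, ⟨0, 0, 0, 0, 2, -2, 0, -2⟩, ⟨-3, 6, 3, 0, 1, -2, -1, 0⟩⟩ (i 117<|i 96<|i 46<|i 119<|i 120<|i 90<|i 9<|j))
 (.l ⟨⟨6, 0, 0, 0, 0, 0, 0, 0⟩, ⟨0, 0, -6, 0, 0, 0, 0, 0⟩, ⟨-3, 6, -3, 0, -1, 0, -1, 2⟩⟩ (i 304<|i 195<|i 291<|i 163<|i 165<|i 246<|i 162<|j)))
 (.l ⟨⟨6, 0, 0, 0, 0, 0, 0, 0⟩, ⟨3, 0, -3, 6, 1, -2, -1, 0⟩, ⟨-6, 0, 0, 0, 0, 0, 0, 0⟩⟩ (i 262<|i 289<|i 276<|i 61<|i 293<|i 261<|i 270<|j)))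
 (.n (.l ⟨⟨6, 0, 0, 0, 0, 0, 0, 0⟩, ⟨6, -3, -6, 3, -4, 3, 2, -1⟩, ⟨3, -3, 3, -3, -3, 1, 1, -1⟩⟩ (i 129<|i 164<|i 121<|i 236<|i 29<|i 236<|i 237<|j))
 (.l ⟨⟨6, 0, 0, 0, 0, 0, 0, 0⟩, ⟨0, 3, 0, -3, -2, -1, 0, -1⟩, ⟨-3, -3, 3, 3, 1, 1, -1, -3⟩⟩ (i 104<|i 183<|i 250<|i 98<|i 263<|i 216<|i 222<|j)))))
 (.n (.n (.n (.n (.l ⟨⟨4, 0, 0, 0, 0, 0, 0, 0⟩, ⟨1, 0, 1, 0, 1, 0, -1, 0⟩, ⟨-1, 0, -1, 0, -1, 0, 1, 0⟩⟩ (i 77<|i 45<|i 21<|i 78<|i 6<|i 5<|i 79<|j))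
 (.l ⟨⟨12, 0, 0, 0, 0, 0, 0, 0⟩, ⟨3, 0, 3, -6, 1, -2, -1, 0⟩, ⟨3, -6, -3, 0, -1, 0, -1, 2⟩⟩ (i 153<|i 189<|i 188<|i 151<|i 277<|i 266<|i 138<|j)))
 (.l ⟨⟨6, 0, 0, 0, 0, 0, 0, 0⟩, ⟨0, -3, 0, 3, -2, -1, 0, -1⟩, ⟨-3, -3, -3, -3, -1, -3, -1, -1⟩⟩ (i 124<|i 127<|i 52<|i 210<|i 125<|i 64<|i 276<|j)))
 (.n (.l ⟨⟨2, 0, 0, 0, 0, 0, 0, 0⟩, ⟨-1, 0, -1, 0, -1, 0, -1, 0⟩, ⟨-2, 0, 0, 0, 0, 0, 0, 0⟩⟩ (i 44<|i 24<|i 56<|i 23<|i 185<|i 54<|i 206<|j))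
 (.l ⟨⟨6, 0, 0, 0, 0, 0, 0, 0⟩, ⟨-3, 0, -3, 0, 1, 2, -3, 2⟩, ⟨0, 0, 0, 0, 0, 2, 2, -2⟩⟩ (i 88<|i 215<|i 102<|i 230<|i 119<|i 94<|i 150<|j))))
 (.n (.n (.n (.l ⟨⟨6, 0, 0, 0, 0, 0, 0, 0⟩, ⟨-3, 0, 3, -6, 1, -2, -1, 0⟩, ⟨0, 0, 6, 0, 0, 0, 0, 0⟩⟩ (i 147<|i 151<|i 75<|i 153<|i 154<|i 12<|i 91<|j))
 (.l ⟨⟨6, 0, 0, 0, 0, 0, 0, 0⟩, ⟨3, -3, -3, 3, -1, 1, -3, 1⟩, ⟨0, -3, 0, 3, 2, 1, 0, 1⟩⟩ (i 273<|i 209<|i 208<|i 268<|i 278<|i 285<|i 259<|j)))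
 (.l ⟨⟨12, 0, 0, 0, 0, 0, 0, 0⟩, ⟨-3, 6, -3, 0, 1, -2, -1, 0⟩, ⟨-3, 0, 3, 0, -1, -2, 3, -2⟩⟩ (i 297<|i 201<|i 206<|i 199<|i 300<|i 67<|i 207<|j)))
 (.n (.l ⟨⟨6, 0, 0, 0, 0, 0, 0, 0⟩, ⟨0, 0, 0, 0, -2, 2, 0, 2⟩, ⟨3, -6, -3, 0, -1, 2, 1, 0⟩⟩ (i 37<|i 118<|i 140<|i 258<|i 259<|i 111<|i 140<|j))
 (.l ⟨⟨6, 0, 0, 0, 0, 0, 0, 0⟩, ⟨3, 0, 3, -6, 1, 0, 1, -2⟩, ⟨0, 0, 0, 0, 2, -2, 0, -2⟩⟩ (i 178<|i 235<|i 176<|i 111<|i 238<|i 307<|i 252<|j))))))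
 (.n (.n (.n (.n (.n (.l ⟨⟨0, 0, 0, 0, 0, 0, 0, 0⟩, ⟨1, 0, 0, 0, 0, 0, 0, 0⟩, ⟨-1, 0, 0, 0, 0, 0, 0, 0⟩⟩ (i 13<|i 3<|i 13<|i 54<|i 3<|i 13<|i 31<|j))
 (.l ⟨⟨6, 0, 0, 0, 0, 0, 0, 0⟩, ⟨0, 3, 0, 3, 0, 1, -2, -1⟩, ⟨-3, -3, -3, -3, 1, 3, 1, 1⟩⟩ (i 193<|i 268<|i 243<|i 273<|i 249<|i 191<|i 274<|j)))
 (.l ⟨⟨6, 0, 0, 0, 0, 0, 0, 0⟩, ⟨-3, 6, 3, 0, 1, -2, -1, 0⟩, ⟨0, 0, 0, 0, -2, 2, 0, 2⟩⟩ (i 99<|i 46<|i 118<|i 93<|i 274<|i 97<|i 282<|j)))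
 (.n (.l ⟨⟨4, 0, 0, 0, 0, 0, 0, 0⟩, ⟨-1, 0, -1, 0, -1, 0, 1, 0⟩, ⟨1, 0, 1, 0, 1, 0, -1, 0⟩⟩ (i 21<|i 36<|i 77<|i 196<|i 23<|i 20<|i 197<|j))
 (.l ⟨⟨2, 0, 0, 0, 0, 0, 0, 0⟩, ⟨2, 0, 0, 0, 0, 0, 0, 0⟩, ⟨-1, 0, 1, 0, 1, 0, -1, 0⟩⟩ (i 174<|i 84<|i 115<|i 204<|i 169<|i 185<|i 268<|j))))
 (.n (.n (.n (.l ⟨⟨4, 0, 0, 0, 0, 0, 0, 0⟩, ⟨-1, 0, -1, 0, -1, 0, 1, 0⟩, ⟨-1, 0, -1, 0, -1, 0, 1, 0⟩⟩ (i 36<|i 21<|i 36<|i 138<|i 11<|i 36<|i 139<|j))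
 (.l ⟨⟨6, 0, 0, 0, 0, 0, 0, 0⟩, ⟨-3, 6, -3, 0, -1, 0, -1, 2⟩, ⟨0, 0, -6, 0, 0, 0, 0, 0⟩⟩ (i 291<|i 299<|i 304<|i 188<|i 276<|i 221<|i 304<|j)))
 (.l ⟨⟨4, 0, 0, 0, 0, 0, 0, 0⟩, ⟨1, 0, -1, 0, 1, 0, 1, 0⟩, ⟨-1, 0, -1, 0, 1, 0, -1, 0⟩⟩ (i 203<|i 83<|i 82<|i 66<|i 173<|i 184<|i 258<|j)))
 (.n (.l ⟨⟨6, 0, 0, 0, 0, 0, 0, 0⟩, ⟨3, 0, 3, -6, 1, 0, 1, -2⟩, ⟨0, 0, 0, 0, -2, 2, 0, 2⟩⟩ (i 235<|i 178<|i 105<|i 34<|i 134<|i 33<|i 142<|j))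
 (.l ⟨⟨6, 0, 0, 0, 0, 0, 0, 0⟩, ⟨-3, 0, 3, 0, -3, 2, -1, -2⟩, ⟨0, 0, 0, 0, 2, -2, 0, -2⟩⟩ (i 270<|i 135<|i 260<|i 224<|i 133<|i 281<|i 101<|j)))))
 (.n (.n (.n (.n (.l ⟨⟨6, 0, 0, 0, 0, 0, 0, 0⟩, ⟨-3, 3, 3, -3, -1, 1, -3, 1⟩, ⟨-6, 3, -6, 3, 2, -1, 4, -3⟩⟩ (i 94<|i 32<|i 10<|i 7<|i 101<|i 102<|i 58<|j))
 (.l ⟨⟨3, 0, 0, 0, 0, 0, 0, 0⟩, ⟨0, 0, 0, 0, 0, 0, 0, 0⟩, ⟨0, 0, 0, 0, -1, 1, 0, 1⟩⟩ (i 166<|i 285<|i 294<|i 160<|i 311<|i 309<|i 145<|j)))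
 (.l ⟨⟨6, 0, 0, 0, 0, 0, 0, 0⟩, ⟨3, -3, -3, 3, -1, 1, -3, 1⟩, ⟨-6, 3, 6, -3, -4, 3, 2, -1⟩⟩ (i 281<|i 288<|i 251<|i 279<|i 128<|i 260<|i 55<|j)))
 (.n (.l ⟨⟨12, 0, 0, 0, 0, 0, 0, 0⟩, ⟨-3, 6, -3, 0, -1, 2, 1, 0⟩, ⟨3, 0, 3, 0, -3, 2, -1, -2⟩⟩ (i 142<|i 221<|i 224<|i 141<|i 25<|i 79<|i 84<|j))
 (.l ⟨⟨12, 0, 0, 0, 0, 0, 0, 0⟩, ⟨3, -6, 3, 0, 1, -2, -1, 0⟩, ⟨3, 0, 3, 0, -3, 2, -1, -2⟩⟩ (i 219<|i 93<|i 248<|i 99<|i 91<|i 301<|i 287<|j))))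
 (.n (.n (.l ⟨⟨12, 0, 0, 0, 0, 0, 0, 0⟩, ⟨3, 0, 3, -6, -1, 2, 1, 0⟩, ⟨3, 0, 3, -6, -1, 2, 1, 0⟩⟩ (i 159<|i 162<|i 159<|i 165<|i 15<|i 159<|i 83<|j))
 (.l ⟨⟨12, 0, 0, 0, 0, 0, 0, 0⟩, ⟨-3, 0, -3, 6, -1, 2, 1, 0⟩, ⟨3, -6, -3, 0, -1, 0, -1, 2⟩⟩ (i 286<|i 277<|i 71<|i 152<|i 286<|i 218<|i 208<|j)))
 (.n (.l ⟨⟨6, 0, 0, 0, 0, 0, 0, 0⟩, ⟨3, 3, -3, -3, 1, 1, -1, -3⟩, ⟨0, 3, 0, 3, 0, -1, 2, 1⟩⟩ (i 50<|i 122<|i 47<|i 40<|i 149<|i 163<|i 94<|j))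
 (.l ⟨⟨12, 0, 0, 0, 0, 0, 0, 0⟩, ⟨3, 0, -3, 6, 1, 0, 1, -2⟩, ⟨3, 0, 3, 0, 3, -2, 1, 2⟩⟩ (i 116<|i 255<|i 300<|i 259<|i 307<|i 303<|i 278<|j))))))))
 (.n (.n (.n (.n (.n (.n (.n (.l ⟨⟨0, 0, 0, 0, 0, 0, 0, 0⟩, ⟨1, 0, 0, 0, 0, 0, 0, 0⟩, ⟨1, 0, 0, 0, 0, 0, 0, 0⟩⟩ (i 3<|i 13<|i 3<|i 14<|i 13<|i 0<|i 15<|j))
 (.l ⟨⟨6, 0, 0, 0, 0, 0, 0, 0⟩, ⟨3, 0, 3, -6, -1, 0, -1, 2⟩, ⟨0, 0, 0, 0, 0, 2, 2, -2⟩⟩ (i 120<|i 227<|i 137<|i 253<|i 117<|i 271<|i 309<|j)))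
 (.l ⟨⟨6, 0, 0, 0, 0, 0, 0, 0⟩, ⟨0, 3, 0, 3, 0, 1, -2, -1⟩, ⟨3, 3, 3, 3, -1, -3, -1, -1⟩⟩ (i 268<|i 193<|i 263<|i 209<|i 241<|i 42<|i 119<|j)))
 (.n (.l ⟨⟨6, 0, 0, 0, 0, 0, 0, 0⟩, ⟨0, 0, 0, 0, 2, -2, 0, -2⟩, ⟨3, 0, 3, -6, 1, 0, 1, -2⟩⟩ (i 176<|i 177<|i 178<|i 179<|i 180<|i 181<|i 17<|j))
 (.l ⟨⟨6, 0, 0, 0, 0, 0, 0, 0⟩, ⟨0, 0, 6, 0, 0, 0, 0, 0⟩, ⟨-3, 6, -3, 0, -1, 0, -1, 2⟩⟩ (i 302<|i 293<|i 299<|i 75<|i 257<|i 200<|i 193<|j))))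
 (.n (.n (.n (.l ⟨⟨2, 0, 0, 0, 0, 0, 0, 0⟩, ⟨-1, 0, -1, 0, -1, 0, -1, 0⟩, ⟨2, 0, 0, 0, 0, 0, 0, 0⟩⟩ (i 24<|i 44<|i 69<|i 9<|i 113<|i 68<|i 114<|j))
 (.l ⟨⟨6, 0, 0, 0, 0, 0, 0, 0⟩, ⟨3, -6, 3, 0, 1, 0, 1, -2⟩, ⟨0, 0, 6, 0, 0, 0, 0, 0⟩⟩ (i 301<|i 190<|i 293<|i 186<|i 271<|i 248<|i 161<|j)))
 (.l ⟨⟨6, 0, 0, 0, 0, 0, 0, 0⟩, ⟨0, 0, 6, 0, 0, 0, 0, 0⟩, ⟨-3, 0, 3, -6, 1, -2, -1, 0⟩⟩ (i 75<|i 192<|i 147<|i 293<|i 60<|i 125<|i 108<|j)))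
 (.n (.l ⟨⟨6, 0, 0, 0, 0, 0, 0, 0⟩, ⟨3, -6, -3, 0, -1, 2, 1, 0⟩, ⟨0, 0, 0, 0, 2, -2, 0, -2⟩⟩ (i 141<|i 140<|i 96<|i 221<|i 232<|i 27<|i 233<|j))
 (.l ⟨⟨6, 0, 0, 0, 0, 0, 0, 0⟩, ⟨-3, 0, -3, 6, 1, 0, 1, -2⟩, ⟨0, 0, 0, 0, 0, 2, 2, -2⟩⟩ (i 170<|i 259<|i 274<|i 116<|i 96<|i 313<|i 281<|j)))))
 (.n (.n (.n (.n (.l ⟨⟨6, 0, 0, 0, 0, 0, 0, 0⟩, ⟨3, -6, 3, 0, -1, 0, -1, 2⟩, ⟨-6, 0, 0, 0, 0, 0, 0, 0⟩⟩ (i 60<|i 72<|i 74<|i 58<|i 75<|i 76<|i 4<|j))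
 (.l ⟨⟨6, 0, 0, 0, 0, 0, 0, 0⟩, ⟨0, 0, 0, 0, 0, 2, 2, -2⟩, ⟨3, 0, -3, 0, -3, 2, -1, -2⟩⟩ (i 283<|i 231<|i 282<|i 137<|i 217<|i 311<|i 166<|j)))
 (.l ⟨⟨6, 0, 0, 0, 0, 0, 0, 0⟩, ⟨3, 0, -3, 6, -1, 2, 1, 0⟩, ⟨0, 0, -6, 0, 0, 0, 0, 0⟩⟩ (i 53<|i 152<|i 163<|i 286<|i 74<|i 50<|i 102<|j)))
 (.n (.l ⟨⟨4, 0, 0, 0, 0, 0, 0, 0⟩, ⟨-1, 0, 1, 0, -1, 0, -1, 0⟩, ⟨-1, 0, -1, 0, 1, 0, -1, 0⟩⟩ (i 202<|i 173<|i 22<|i 169<|i 202<|i 204<|i 61<|j))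
 (.l ⟨⟨6, 0, 0, 0, 0, 0, 0, 0⟩, ⟨3, -3, -3, 3, -1, 1, -3, 1⟩, ⟨0, 3, 0, -3, -2, -1, 0, -1⟩⟩ (i 209<|i 273<|i 130<|i 193<|i 280<|i 86<|i 211<|j))))
 (.n (.n (.n (.l ⟨⟨6, 0, 0, 0, 0, 0, 0, 0⟩, ⟨-3, 3, 3, -3, -1, 1, -3, 1⟩, ⟨0, 3, 0, 3, 0, -1, 2, 1⟩⟩ (i 97<|i 31<|i 26<|i 12<|i 148<|i 118<|i 73<|j))
 (.l ⟨⟨12, 0, 0, 0, 0, 0, 0, 0⟩, ⟨-3, 0, 3, 0, -1, -2, 3, -2⟩, ⟨-3, 6, -3, 0, 1, -2, -1, 0⟩⟩ (i 206<|i 287<|i 297<|i 214<|i 253<|i 245<|i 261<|j)))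
 (.l ⟨⟨6, 0, 0, 0, 0, 0, 0, 0⟩, ⟨0, 0, 0, 0, -2, 2, 0, 2⟩, ⟨-3, 0, -3, 0, -1, -2, 3, -2⟩⟩ (i 296<|i 295<|i 217<|i 67<|i 298<|i 139<|i 257<|j)))
 (.n (.l ⟨⟨2, 0, 0, 0, 0, 0, 0, 0⟩, ⟨1, 0, -1, 0, -1, 0, 1, 0⟩, ⟨-2, 0, 0, 0, 0, 0, 0, 0⟩⟩ (i 196<|i 138<|i 205<|i 36<|i 167<|i 136<|i 151<|j))
 (.l ⟨⟨6, 0, 0, 0, 0, 0, 0, 0⟩, ⟨3, 3, 3, 3, -1, -3, -1, -1⟩, ⟨0, -3, 0, -3, 0, -1, 2, 1⟩⟩ (i 168<|i 263<|i 269<|i 107<|i 108<|i 155<|i 176<|j))))))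
 (.n (.n (.n (.n (.n (.l ⟨⟨4, 0, 0, 0, 0, 0, 0, 0⟩, ⟨1, 0, -1, 0, -1, 0, -1, 0⟩, ⟨-1, 0, 1, 0, 1, 0, 1, 0⟩⟩ (i 9<|i 23<|i 11<|i 44<|i 45<|i 2<|i 46<|j))
 (.l ⟨⟨6, 0, 0, 0, 0, 0, 0, 0⟩, ⟨-6, 3, -6, 3, -2, 1, -4, 3⟩, ⟨3, -3, 3, -3, 3, -1, -1, 1⟩⟩ (i 233<|i 146<|i 234<|i 244<|i 288<|i 194<|i 298<|j)))
 (.l ⟨⟨6, 0, 0, 0, 0, 0, 0, 0⟩, ⟨0, 3, 0, 3, 0, 1, -2, -1⟩, ⟨3, -3, 3, -3, 3, -1, -1, 1⟩⟩ (i 278<|i 279<|i 265<|i 281<|i 273<|i 179<|i 45<|j)))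
 (.n (.l ⟨⟨6, 0, 0, 0, 0, 0, 0, 0⟩, ⟨0, 0, -6, 0, 0, 0, 0, 0⟩, ⟨3, 0, -3, 6, -1, 2, 1, 0⟩⟩ (i 163<|i 194<|i 53<|i 195<|i 19<|i 47<|i 69<|j))
 (.l ⟨⟨4, 0, 0, 0, 0, 0, 0, 0⟩, ⟨-1, 0, 1, 0, -1, 0, -1, 0⟩, ⟨1, 0, 1, 0, -1, 0, 1, 0⟩⟩ (i 173<|i 202<|i 81<|i 171<|i 203<|i 87<|i 214<|j))))
 (.n (.n (.n (.l ⟨⟨6, 0, 0, 0, 0, 0, 0, 0⟩, ⟨0, 0, 0, 0, 0, 2, 2, -2⟩, ⟨-3, 0, -3, 0, 1, 2, -3, 2⟩⟩ (i 102<|i 132<|i 88<|i 134<|i 135<|i 10<|i 90<|j))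
 (.l ⟨⟨6, 0, 0, 0, 0, 0, 0, 0⟩, ⟨3, -6, 3, 0, 1, 0, 1, -2⟩, ⟨0, 0, -6, 0, 0, 0, 0, 0⟩⟩ (i 190<|i 301<|i 195<|i 187<|i 314<|i 180<|i 251<|j)))
 (.l ⟨⟨2, 0, 0, 0, 0, 0, 0, 0⟩, ⟨-1, 0, -1, 0, 1, 0, 1, 0⟩, ⟨0, 0, 2, 0, 0, 0, 0, 0⟩⟩ (i 172<|i 66<|i 272<|i 203<|i 84<|i 171<|i 105<|j)))
 (.n (.l ⟨⟨6, 0, 0, 0, 0, 0, 0, 0⟩, ⟨6, -3, -6, 3, -4, 3, 2, -1⟩, ⟨-3, 3, -3, 3, 3, -1, -1, 1⟩⟩ (i 164<|i 129<|i 123<|i 243<|i 32<|i 154<|i 200<|j))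
 (.l ⟨⟨6, 0, 0, 0, 0, 0, 0, 0⟩, ⟨-3, 0, -3, 6, -1, 0, -1, 2⟩, ⟨0, 0, 0, 0, 2, -2, 0, -2⟩⟩ (i 109<|i 245<|i 177<|i 110<|i 197<|i 100<|i 204<|j)))))
 (.n (.n (.n (.n (.l ⟨⟨6, 0, 0, 0, 0, 0, 0, 0⟩, ⟨0, 3, 0, 3, 0, -1, 2, 1⟩, ⟨-3, 3, 3, -3, -1, 1, -3, 1⟩⟩ (i 26<|i 8<|i 97<|i 64<|i 98<|i 99<|i 49<|j))
 (.l ⟨⟨6, 0, 0, 0, 0, 0, 0, 0⟩, ⟨0, 0, 0, 0, 0, -2, -2, 2⟩, ⟨-3, 0, 3, 0, 3, -2, 1, 2⟩⟩ (i 275<|i 223<|i 298<|i 232<|i 220<|i 212<|i 143<|j)))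
 (.l ⟨⟨6, 0, 0, 0, 0, 0, 0, 0⟩, ⟨-6, 0, 0, 0, 0, 0, 0, 0⟩, ⟨-3, 6, -3, 0, 1, 0, 1, -2⟩⟩ (i 191<|i 74<|i 73<|i 155<|i 151<|i 243<|i 54<|j)))
 (.n (.l ⟨⟨12, 0, 0, 0, 0, 0, 0, 0⟩, ⟨-3, 0, 3, 0, 1, 2, -3, 2⟩, ⟨3, 0, -3, 6, -1, 0, -1, 2⟩⟩ (i 90<|i 89<|i 110<|i 220<|i 221<|i 46<|i 53<|j))
 (.l ⟨⟨12, 0, 0, 0, 0, 0, 0, 0⟩, ⟨-3, 6, -3, 0, -1, 2, 1, 0⟩, ⟨-3, 0, -3, 0, 3, -2, 1, 2⟩⟩ (i 221<|i 142<|i 246<|i 140<|i 90<|i 304<|i 148<|j))))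
 (.n (.n (.l ⟨⟨12, 0, 0, 0, 0, 0, 0, 0⟩, ⟨-3, 6, 3, 0, -1, 0, -1, 2⟩, ⟨-3, 6, 3, 0, -1, 0, -1, 2⟩⟩ (i 58<|i 57<|i 58<|i 72<|i 162<|i 58<|i 50<|j))
 (.l ⟨⟨12, 0, 0, 0, 0, 0, 0, 0⟩, ⟨3, -6, -3, 0, -1, 0, -1, 2⟩, ⟨3, 0, 3, -6, 1, -2, -1, 0⟩⟩ (i 188<|i 71<|i 153<|i 299<|i 188<|i 280<|i 112<|j)))
 (.n (.l ⟨⟨6, 0, 0, 0, 0, 0, 0, 0⟩, ⟨3, -3, 3, -3, -3, 1, 1, -1⟩, ⟨-6, 3, 6, -3, 4, -3, -2, 1⟩⟩ (i 76<|i 121<|i 107<|i 207<|i 39<|i 74<|i 264<|j))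
 (.l ⟨⟨6, 0, 0, 0, 0, 0, 0, 0⟩, ⟨6, -3, -6, 3, 4, -3, -2, 1⟩, ⟨-3, 3, 3, -3, 1, -1, 3, -1⟩⟩ (i 252<|i 114<|i 157<|i 143<|i 144<|i 258<|i 299<|j)))))))
 (.n (.n (.n (.n (.n (.n (.l ⟨⟨6, 0, 0, 0, 0, 0, 0, 0⟩, ⟨0, 3, 0, 3, 0, -1, 2, 1⟩, ⟨3, -3, -3, 3, 1, -1, 3, -1⟩⟩ (i 8<|i 26<|i 28<|i 29<|i 30<|i 25<|i 7<|j))
 (.l ⟨⟨6, 0, 0, 0, 0, 0, 0, 0⟩, ⟨-3, -3, -3, -3, 1, 3, 1, 1⟩, ⟨0, -3, 0, -3, 0, -1, 2, 1⟩⟩ (i 236<|i 243<|i 131<|i 164<|i 229<|i 121<|i 144<|j)))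
 (.l ⟨⟨6, 0, 0, 0, 0, 0, 0, 0⟩, ⟨3, 0, -3, 0, 3, -2, 1, 2⟩, ⟨0, 0, 0, 0, 2, -2, 0, -2⟩⟩ (i 239<|i 237<|i 119<|i 112<|i 43<|i 241<|i 194<|j)))
 (.n (.l ⟨⟨12, 0, 0, 0, 0, 0, 0, 0⟩, ⟨-3, 6, 3, 0, 1, 0, 1, -2⟩, ⟨3, 0, 3, -6, 1, -2, -1, 0⟩⟩ (i 186<|i 187<|i 189<|i 190<|i 71<|i 92<|i 18<|j))
 (.l ⟨⟨6, 0, 0, 0, 0, 0, 0, 0⟩, ⟨-3, 6, 3, 0, -1, 2, 1, 0⟩, ⟨0, 0, 0, 0, 0, 2, 2, -2⟩⟩ (i 79<|i 200<|i 134<|i 181<|i 177<|i 224<|i 134<|j))))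
 (.n (.n (.n (.l ⟨⟨6, 0, 0, 0, 0, 0, 0, 0⟩, ⟨-6, 3, -6, 3, 2, -1, 4, -3⟩, ⟨3, -3, -3, 3, 1, -1, 3, -1⟩⟩ (i 40<|i 10<|i 64<|i 122<|i 123<|i 124<|i 26<|j))
 (.l ⟨⟨6, 0, 0, 0, 0, 0, 0, 0⟩, ⟨0, 0, 0, 0, 2, -2, 0, -2⟩, ⟨-3, 0, -3, 0, -1, -2, 3, -2⟩⟩ (i 222<|i 179<|i 218<|i 176<|i 306<|i 286<|i 238<|j)))
 (.l ⟨⟨2, 0, 0, 0, 0, 0, 0, 0⟩, ⟨0, 0, -2, 0, 0, 0, 0, 0⟩, ⟨-1, 0, -1, 0, 1, 0, 1, 0⟩⟩ (i 156<|i 198<|i 66<|i 113<|i 115<|i 63<|i 118<|j)))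
 (.n (.l ⟨⟨6, 0, 0, 0, 0, 0, 0, 0⟩, ⟨0, -3, 0, 3, -2, -1, 0, -1⟩, ⟨-3, 3, -3, 3, 3, -1, -1, 1⟩⟩ (i 100<|i 225<|i 30<|i 240<|i 31<|i 177<|i 202<|j))
 (.l ⟨⟨6, 0, 0, 0, 0, 0, 0, 0⟩, ⟨0, 0, 0, 0, 0, -2, -2, 2⟩, ⟨3, 0, -3, 0, -3, 2, -1, -2⟩⟩ (i 223<|i 275<|i 312<|i 261<|i 218<|i 306<|i 98<|j)))))
 (.n (.n (.n (.n (.l ⟨⟨4, 0, 0, 0, 0, 0, 0, 0⟩, ⟨-1, 0, 1, 0, 1, 0, 1, 0⟩, ⟨-1, 0, 1, 0, 1, 0, 1, 0⟩⟩ (i 6<|i 11<|i 6<|i 85<|i 77<|i 23<|i 86<|j))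
 (.l ⟨⟨6, 0, 0, 0, 0, 0, 0, 0⟩, ⟨0, -3, 0, -3, 0, -1, 2, 1⟩, ⟨3, -3, 3, -3, 3, -1, -1, 1⟩⟩ (i 280<|i 139<|i 266<|i 157<|i 209<|i 153<|i 188<|j)))
 (.l ⟨⟨6, 0, 0, 0, 0, 0, 0, 0⟩, ⟨3, 0, -3, 6, -1, 2, 1, 0⟩, ⟨0, 0, 6, 0, 0, 0, 0, 0⟩⟩ (i 152<|i 53<|i 192<|i 277<|i 155<|i 284<|i 115<|j)))
 (.n (.l ⟨⟨2, 0, 0, 0, 0, 0, 0, 0⟩, ⟨0, 0, -2, 0, 0, 0, 0, 0⟩, ⟨1, 0, -1, 0, 1, 0, -1, 0⟩⟩ (i 113<|i 136<|i 184<|i 198<|i 24<|i 203<|i 212<|j))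
 (.l ⟨⟨6, 0, 0, 0, 0, 0, 0, 0⟩, ⟨3, 0, 3, 0, -1, -2, 3, -2⟩, ⟨0, 0, 0, 0, 0, 2, 2, -2⟩⟩ (i 214<|i 213<|i 132<|i 287<|i 260<|i 127<|i 260<|j))))
 (.n (.n (.n (.l ⟨⟨1, 0, 0, 0, 0, 0, 0, 0⟩, ⟨0, 0, -1, 0, 0, 0, 0, 0⟩, ⟨0, 0, 0, 0, 0, 0, 0, 0⟩⟩ (i 65<|i 65<|i 63<|i 65<|i 14<|i 156<|i 157<|j))
 (.l ⟨⟨3, 0, 0, 0, 0, 0, 0, 0⟩, ⟨0, 0, 0, 0, 0, -1, -1, 1⟩, ⟨0, 0, 0, 0, 0, 0, 0, 0⟩⟩ (i 264<|i 264<|i 212<|i 264<|i 285<|i 275<|i 218<|j)))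
 (.l ⟨⟨6, 0, 0, 0, 0, 0, 0, 0⟩, ⟨0, -3, 0, 3, 2, 1, 0, 1⟩, ⟨-3, -3, 3, 3, 1, 1, -1, -3⟩⟩ (i 108<|i 229<|i 249<|i 95<|i 168<|i 288<|i 68<|j)))
 (.n (.l ⟨⟨6, 0, 0, 0, 0, 0, 0, 0⟩, ⟨0, 0, 0, 0, -2, 2, 0, 2⟩, ⟨-3, 0, 3, 0, -3, 2, -1, -2⟩⟩ (i 216<|i 258<|i 135<|i 37<|i 213<|i 250<|i 131<|j))
 (.l ⟨⟨6, 0, 0, 0, 0, 0, 0, 0⟩, ⟨3, -3, -3, 3, -1, 1, -3, 1⟩, ⟨6, -3, -6, 3, 4, -3, -2, 1⟩⟩ (i 288<|i 281<|i 114<|i 278<|i 233<|i 249<|i 110<|j))))))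
 (.n (.n (.n (.n (.n (.l ⟨⟨12, 0, 0, 0, 0, 0, 0, 0⟩, ⟨-3, 6, 3, 0, -1, 0, -1, 2⟩, ⟨3, -6, -3, 0, 1, 0, 1, -2⟩⟩ (i 57<|i 58<|i 15<|i 60<|i 61<|i 62<|i 3<|j))
 (.l ⟨⟨6, 0, 0, 0, 0, 0, 0, 0⟩, ⟨-6, 0, 0, 0, 0, 0, 0, 0⟩, ⟨3, 0, -3, 6, 1, -2, -1, 0⟩⟩ (i 276<|i 314<|i 262<|i 271<|i 291<|i 259<|i 133<|j)))
 (.l ⟨⟨6, 0, 0, 0, 0, 0, 0, 0⟩, ⟨3, 3, 3, 3, 1, 3, 1, 1⟩, ⟨0, -3, 0, 3, -2, -1, 0, -1⟩⟩ (i 145<|i 126<|i 127<|i 251<|i 48<|i 214<|i 283<|j)))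
 (.n (.l ⟨⟨6, 0, 0, 0, 0, 0, 0, 0⟩, ⟨3, -6, -3, 0, 1, -2, -1, 0⟩, ⟨0, 0, 0, 0, 0, -2, -2, 2⟩⟩ (i 199<|i 180<|i 197<|i 201<|i 105<|i 93<|i 21<|j))
 (.l ⟨⟨6, 0, 0, 0, 0, 0, 0, 0⟩, ⟨0, -3, 0, 3, 2, 1, 0, 1⟩, ⟨3, -3, -3, 3, -1, 1, -3, 1⟩⟩ (i 208<|i 86<|i 273<|i 123<|i 308<|i 175<|i 181<|j))))
 (.n (.n (.n (.l ⟨⟨6, 0, 0, 0, 0, 0, 0, 0⟩, ⟨0, -3, 0, -3, 0, 1, -2, -1⟩, ⟨-3, -3, 3, 3, -1, -1, 1, 3⟩⟩ (i 12<|i 49<|i 125<|i 31<|i 126<|i 75<|i 47<|j))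
 (.l ⟨⟨6, 0, 0, 0, 0, 0, 0, 0⟩, ⟨-6, 0, 0, 0, 0, 0, 0, 0⟩, ⟨-3, 0, 3, -6, -1, 2, 1, 0⟩⟩ (i 314<|i 276<|i 257<|i 303<|i 190<|i 253<|i 226<|j)))
 (.l ⟨⟨3, 0, 0, 0, 0, 0, 0, 0⟩, ⟨0, 0, 0, 0, -1, 1, 0, 1⟩, ⟨0, 0, 0, 0, 0, 0, 0, 0⟩⟩ (i 294<|i 294<|i 166<|i 294<|i 212<|i 207<|i 66<|j)))
 (.n (.l ⟨⟨12, 0, 0, 0, 0, 0, 0, 0⟩, ⟨3, 0, -3, 6, -1, 0, -1, 2⟩, ⟨-3, 0, 3, 0, 1, 2, -3, 2⟩⟩ (i 110<|i 106<|i 90<|i 245<|i 248<|i 117<|i 249<|j))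
 (.l ⟨⟨6, 0, 0, 0, 0, 0, 0, 0⟩, ⟨-3, 0, 3, 0, -3, 2, -1, -2⟩, ⟨0, 0, 0, 0, -2, 2, 0, 2⟩⟩ (i 135<|i 270<|i 216<|i 248<|i 102<|i 104<|i 255<|j)))))
 (.n (.n (.n (.n (.l ⟨⟨6, 0, 0, 0, 0, 0, 0, 0⟩, ⟨3, -3, -3, 3, 1, -1, 3, -1⟩, ⟨0, 3, 0, 3, 0, -1, 2, 1⟩⟩ (i 28<|i 51<|i 8<|i 47<|i 103<|i 106<|i 13<|j))
 (.l ⟨⟨12, 0, 0, 0, 0, 0, 0, 0⟩, ⟨3, 0, -3, 0, 1, 2, -3, 2⟩, ⟨-3, 6, -3, 0, 1, -2, -1, 0⟩⟩ (i 230<|i 307<|i 201<|i 215<|i 254<|i 148<|i 221<|j)))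
 (.l ⟨⟨12, 0, 0, 0, 0, 0, 0, 0⟩, ⟨-3, 0, -3, 6, 1, -2, -1, 0⟩, ⟨-3, 0, -3, 6, 1, -2, -1, 0⟩⟩ (i 61<|i 161<|i 61<|i 289<|i 57<|i 61<|i 100<|j)))
 (.n (.l ⟨⟨6, 0, 0, 0, 0, 0, 0, 0⟩, ⟨3, -3, 3, -3, -3, 1, 1, -1⟩, ⟨0, -3, 0, 3, -2, -1, 0, -1⟩⟩ (i 98<|i 33<|i 225<|i 183<|i 26<|i 226<|i 217<|j))
 (.l ⟨⟨6, 0, 0, 0, 0, 0, 0, 0⟩, ⟨0, 0, 0, 0, 0, 2, 2, -2⟩, ⟨-3, 0, 3, 0, 3, -2, 1, 2⟩⟩ (i 231<|i 283<|i 306<|i 274<|i 92<|i 223<|i 220<|j))))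
 (.n (.n (.l ⟨⟨1, 0, 0, 0, 0, 0, 0, 0⟩, ⟨0, 0, 0, 0, 0, 0, 0, 0⟩, ⟨0, 0, 1, 0, 0, 0, 0, 0⟩⟩ (i 17<|i 63<|i 55<|i 20<|i 16<|i 167<|i 168<|j))
 (.l ⟨⟨6, 0, 0, 0, 0, 0, 0, 0⟩, ⟨6, 0, 0, 0, 0, 0, 0, 0⟩, ⟨3, -6, 3, 0, -1, 0, -1, 2⟩⟩ (i 155<|i 154<|i 72<|i 74<|i 152<|i 269<|i 122<|j)))
 (.n (.l ⟨⟨6, 0, 0, 0, 0, 0, 0, 0⟩, ⟨0, 3, 0, -3, 2, 1, 0, 1⟩, ⟨-3, -3, -3, -3, -1, -3, -1, -1⟩⟩ (i 228<|i 149<|i 143<|i 266<|i 41<|i 215<|i 156<|j))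
 (.l ⟨⟨12, 0, 0, 0, 0, 0, 0, 0⟩, ⟨-3, 0, 3, -6, -1, 0, -1, 2⟩, ⟨3, 0, 3, 0, 3, -2, 1, 2⟩⟩ (i 254<|i 253<|i 305<|i 120<|i 230<|i 232<|i 239<|j))))))))))

/-! the generating reflections -/

def w_g1 : V := ⟨⟨1, 0, 0, 0, 0, 0, 0, 0⟩, ⟨0, 0, 0, 0, 0, 0, 0, 0⟩, ⟨0, 0, 0, 0, 0, 0, 0, 0⟩⟩
def w_g2 : V := ⟨⟨0, 0, 0, 0, 0, 0, 0, 0⟩, ⟨1, 0, 0, 0, 0, 0, 0, 0⟩, ⟨0, 0, 0, 0, 0, 0, 0, 0⟩⟩
def w_g4 : V := ⟨⟨0, 0, 0, 0, 0, 0, 0, 0⟩, ⟨1, 0, 0, 0, 0, 0, 0, 0⟩, ⟨1, 0, 0, 0, 0, 0, 0, 0⟩⟩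
def w_g5 : V := ⟨⟨1, 0, 0, 0, 0, 0, 0, 0⟩, ⟨1, 0, 0, 0, 0, 0, 0, 0⟩, ⟨0, 0, 0, 0, 0, 0, 0, 0⟩⟩
def w_g8 : V := ⟨⟨0, 0, 0, 0, 0, 0, 0, 0⟩, ⟨1, 0, 0, 0, 0, 0, 0, 0⟩, ⟨0, 0, 1, 0, 0, 0, 0, 0⟩⟩
def w_g6 : V := ⟨⟨1, 0, 1, 0, 1, 0, 1, 0⟩, ⟨2, 0, 0, 0, 0, 0, 0, 0⟩, ⟨2, 0, 0, 0, 0, 0, 0, 0⟩⟩
def w_g0 : V := ⟨⟨6, 0, 0, 0, 0, 0, 0, 0⟩, ⟨0, 3, 0, 3, 0, -1, 2, 1⟩, ⟨3, -3, -3, 3, 1, -1, 3, -1⟩⟩

/-- check of all vectors of a tree -/
noncomputable def chkT (n : ℕ) (wc w : RV) (j : ℕ) : T → Bool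
  | .l v ks => forceV v fun v' => forceV (tree.get (ks.getD j 0)) fun v'' => chkK n wc w v' v''
  | .n a b => chkT n wc w j a && chkT n wc w j b

/-- check of a generator -/
noncomputable def chkG (n : ℕ) (w : V) (j : ℕ) : Bool :=
  forceV w fun w => forceR w.x.conj fun x => forceR w.y.conj fun y => forceR w.z.conj fun z => chkT n ⟨x, y, z⟩ w j tree

theorem chk_g1 : chkG 1 w_g1 0 = true := by decide +kernel

theorem chk_g2 : chkG 1 w_g2 1 = true := by decide +kernel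

theorem chk_g4 : chkG 2 w_g4 2 = true := by decide +kernel

theorem chk_g5 : chkG 2 w_g5 3 = true := by decide +kernel

theorem chk_g8 : chkG 2 w_g8 4 = true := by decide +kernel

theorem chk_g6 : chkG 16 w_g6 5 = true := by decide +kernel

theorem chk_g0 : chkG 144 w_g0 6 = true := by decide +kernel

end Cfsg.Agent.H476.JTwo
end

-- part: H476/JTwo/Sound
section
/-!
# The 315 root lines: soundness of the check (helper476, for S5806)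

`sound` : for a root vector `v` and a generator `w` there are a root vector `v'`, a divisor `d` of 12 and `u` with
`v' u = d · refl n w v`.
-/

set_option autoImplicit false
set_option maxRecDepth 100000

namespace Cfsg.Agent.H476.JTwo

theorem c1 : ((1099511627775 : ℕ) : ZMod MM) = -1 := by
  have h : ((1099511627775 + 1 : ℕ) : ZMod MM) = 0 := ZMod.natCast_self MM
  rw [Nat.cast_add, Nat.cast_one] at h
  linear_combination h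

theorem c3 : ((3298534883325 : ℕ) : ZMod MM) = -3 := by
  have h : (3298534883325 : ℕ) = 3 * 1099511627775 := by norm_num
  rw [h, Nat.cast_mul, c1]
  push_cast
  ring

theorem cast_cb (p q r s : ℕ) : ((R.cb p q r s : ℕ) : ZMod MM) = p + q + 3 * r - 3 * s := by
  change (((p + q + (3 * r + 3298534883325 * s)) % MM : ℕ) : ZMod MM) = _
  rw [ZMod.natCast_mod, Nat.cast_add, Nat.cast_add, Nat.cast_add, Nat.cast_mul, Nat.cast_mul, c3]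
  push_cast
  ring

theorem cast_cb' (p q r s : ℕ) : ((R.cb' p q r s : ℕ) : ZMod MM) = p + q + r - s := by
  change (((p + q + (r + 1099511627775 * s)) % MM : ℕ) : ZMod MM) = _
  rw [ZMod.natCast_mod, Nat.cast_add, Nat.cast_add, Nat.cast_add, Nat.cast_mul, c1]
  ring

theorem cast_cb0 (p q r s : ℕ) : ((R.cb0 p q r s : ℕ) : ZMod MM) = p - q - 3 * r - 3 * s := by
  change (((p + 1099511627775 * (q + 3 * (r + s))) % MM : ℕ) : ZMod MM) = _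
  rw [ZMod.natCast_mod, Nat.cast_add, Nat.cast_mul, c1, Nat.cast_add, Nat.cast_mul, Nat.cast_add]
  push_cast
  ring

theorem cast_n0 (a b c d : ℕ) : ((R.n0 a b c d : ℕ) : ZMod MM) = a * c + b * d := by
  change ((a * c + b * d : ℕ) : ZMod MM) = _
  push_cast
  ring

theorem cast_n1 (a b c d : ℕ) : ((R.n1 a b c d : ℕ) : ZMod MM) = a * d + b * c + b * d := by
  change ((a * d + b * c + b * d : ℕ) : ZMod MM) = _
  push_cast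
  ring

theorem cast_neg1 (n : ℕ) : ((R.neg1 n : ℕ) : ZMod MM) = -n := by
  change ((1099511627775 * n : ℕ) : ZMod MM) = _
  rw [Nat.cast_mul, c1]
  ring

theorem cast_ms (n p q : ℕ) : ((R.ms n p q : ℕ) : ZMod MM) = n * p - q := by
  change (((n * p + 1099511627775 * q) % MM : ℕ) : ZMod MM) = _
  rw [ZMod.natCast_mod, Nat.cast_add, Nat.cast_mul, Nat.cast_mul, c1]
  ring

theorem cast_res (x : Int) : ((x : Int) : ZMod MM) = ((res x : ℕ) : ZMod MM) := by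
  cases x with
  | ofNat n => exact Int.cast_natCast n
  | negSucc n =>
    change _ = ((1099511627775 * (n + 1) : ℕ) : ZMod MM)
    rw [Nat.cast_mul, c1, Int.cast_negSucc]
    ring

/-- same residues -/
structure Rl (x : Q) (r : R) : Prop where
  a : ((x.a : Int) : ZMod MM) = ((r.a : ℕ) : ZMod MM)
  b : ((x.b : Int) : ZMod MM) = ((r.b : ℕ) : ZMod MM)
  c : ((x.c : Int) : ZMod MM) = ((r.c : ℕ) : ZMod MM)
  d : ((x.d : Int) : ZMod MM) = ((r.d : ℕ) : ZMod MM)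
  e : ((x.e : Int) : ZMod MM) = ((r.e : ℕ) : ZMod MM)
  f : ((x.f : Int) : ZMod MM) = ((r.f : ℕ) : ZMod MM)
  g : ((x.g : Int) : ZMod MM) = ((r.g : ℕ) : ZMod MM)
  h : ((x.h : Int) : ZMod MM) = ((r.h : ℕ) : ZMod MM)

theorem rl_res (x : Q) : Rl x (resQ x) :=
  ⟨cast_res _, cast_res _, cast_res _, cast_res _, cast_res _, cast_res _, cast_res _, cast_res _⟩

theorem Rl.mul {x y : Q} {r s : R} (hx : Rl x r) (hy : Rl y s) : Rl (x.mul y) (r.mul s) := by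
  constructor
  all_goals
    simp only [Q.mul, R.mul, cast_cb, cast_cb', cast_cb0, cast_n0, cast_n1, Q.p0, Q.p1, ← hx.a, ← hx.b, ← hx.c, ← hx.d,
      ← hx.e, ← hx.f, ← hx.g, ← hx.h, ← hy.a, ← hy.b, ← hy.c, ← hy.d, ← hy.e, ← hy.f, ← hy.g, ← hy.h]
    push_cast
    ring

theorem Rl.conj {x : Q} {r : R} (hx : Rl x r) : Rl x.conj r.conj := by
  constructor <;>
    simp only [Q.conj, R.conj, cast_neg1, ← hx.a, ← hx.b, ← hx.c, ← hx.d,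
      ← hx.e, ← hx.f, ← hx.g, ← hx.h, Int.cast_neg]

theorem Rl.sum2 {x y z : Q} {r s t : R} (hx : Rl x r) (hy : Rl y s) (hz : Rl z t) :
    Rl (((x.add y).add z).smul 2) (R.sum2 r s t) := by
  have key : ∀ a b c : ℕ, ((Nat.mul 2 (Nat.add (Nat.add a b) c) : ℕ) : ZMod MM) = 2 * (a + b + c) := by
    intro a b c
    change ((2 * (a + b + c) : ℕ) : ZMod MM) = _
    push_cast
    ring
  constructor
  all_goals
    simp only [Q.add, Q.smul, R.sum2, key, ← hx.a, ← hx.b, ← hx.c, ← hx.d,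
      ← hx.e, ← hx.f, ← hx.g, ← hx.h, ← hy.a, ← hy.b, ← hy.c, ← hy.d, ← hy.e, ← hy.f, ← hy.g, ← hy.h,
      ← hz.a, ← hz.b, ← hz.c, ← hz.d, ← hz.e, ← hz.f, ← hz.g, ← hz.h]
    push_cast
    ring

theorem Rl.msub {x y : Q} {r s : R} (n : ℕ) (hx : Rl x r) (hy : Rl y s) :
    Rl ((x.smul n).sub y) (R.msub n r s) := by
  constructor
  all_goals
    simp only [Q.sub, Q.smul, R.msub, cast_ms, ← hx.a, ← hx.b, ← hx.c, ← hx.d,
      ← hx.e, ← hx.f, ← hx.g, ← hx.h, ← hy.a, ← hy.b, ← hy.c, ← hy.d, ← hy.e, ← hy.f, ← hy.g, ← hy.h]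
    push_cast
    ring

/-- all coordinates are small -/
structure Bd (B : Int) (x : Q) : Prop where
  a : |x.a| ≤ B
  b : |x.b| ≤ B
  c : |x.c| ≤ B
  d : |x.d| ≤ B
  e : |x.e| ≤ B
  f : |x.f| ≤ B
  g : |x.g| ≤ B
  h : |x.h| ≤ B

theorem bd_p0 {A B a b c d : Int} (ha : |a| ≤ A) (hb : |b| ≤ A) (hc : |c| ≤ B) (hd : |d| ≤ B) :
    |Q.p0 a b c d| ≤ 2 * (A * B) := by
  unfold Q.p0
  have h1 : |a * c| ≤ A * B := by
    rw [abs_mul]; exact mul_le_mul ha hc (abs_nonneg _) ((abs_nonneg _).trans ha)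
  have h2 : |b * d| ≤ A * B := by
    rw [abs_mul]; exact mul_le_mul hb hd (abs_nonneg _) ((abs_nonneg _).trans ha)
  have := abs_add_le (a * c) (b * d)
  linarith

theorem bd_p1 {A B a b c d : Int} (ha : |a| ≤ A) (hb : |b| ≤ A) (hc : |c| ≤ B) (hd : |d| ≤ B) :
    |Q.p1 a b c d| ≤ 3 * (A * B) := by
  unfold Q.p1
  have h1 : |a * d| ≤ A * B := by
    rw [abs_mul]; exact mul_le_mul ha hd (abs_nonneg _) ((abs_nonneg _).trans ha)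
  have h2 : |b * c| ≤ A * B := by
    rw [abs_mul]; exact mul_le_mul hb hc (abs_nonneg _) ((abs_nonneg _).trans ha)
  have h3 : |b * d| ≤ A * B := by
    rw [abs_mul]; exact mul_le_mul hb hd (abs_nonneg _) ((abs_nonneg _).trans ha)
  have h4 := abs_add_le (a * d) (b * c)
  have := abs_add_le (a * d + b * c) (b * d)
  linarith

theorem Bd.nonneg {A : Int} {x : Q} (hx : Bd A x) : 0 ≤ A := (abs_nonneg _).trans hx.a

theorem Bd.mul {A B : Int} {x y : Q} (hx : Bd A x) (hy : Bd B y) : Bd (24 * (A * B)) (x.mul y) := by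
  have hn : 0 ≤ A * B := mul_nonneg hx.nonneg hy.nonneg
  obtain ⟨xa, xb, xc, xd, xe, xf, xg, xh⟩ := hx
  obtain ⟨ya, yb, yc, yd, ye, yf, yg, yh⟩ := hy
  constructor
  · have h1 := abs_le.1 (bd_p0 xa xb ya yb)
    have h2 := abs_le.1 (bd_p0 xc xd yc yd)
    have h3 := abs_le.1 (bd_p0 xe xf ye yf)
    have h4 := abs_le.1 (bd_p0 xg xh yg yh)
    rw [abs_le]
    simp only [Q.mul]
    constructor <;> linarith only [hn, h1.1, h1.2, h2.1, h2.2, h3.1, h3.2, h4.1, h4.2]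
  · have h1 := abs_le.1 (bd_p1 xa xb ya yb)
    have h2 := abs_le.1 (bd_p1 xc xd yc yd)
    have h3 := abs_le.1 (bd_p1 xe xf ye yf)
    have h4 := abs_le.1 (bd_p1 xg xh yg yh)
    rw [abs_le]
    simp only [Q.mul]
    constructor <;> linarith only [h1.1, h1.2, h2.1, h2.2, h3.1, h3.2, h4.1, h4.2]
  · have h1 := abs_le.1 (bd_p0 xa xb yc yd)
    have h2 := abs_le.1 (bd_p0 xc xd ya yb)
    have h3 := abs_le.1 (bd_p0 xe xf yg yh)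
    have h4 := abs_le.1 (bd_p0 xg xh ye yf)
    rw [abs_le]
    simp only [Q.mul]
    constructor <;> linarith only [hn, h1.1, h1.2, h2.1, h2.2, h3.1, h3.2, h4.1, h4.2]
  · have h1 := abs_le.1 (bd_p1 xa xb yc yd)
    have h2 := abs_le.1 (bd_p1 xc xd ya yb)
    have h3 := abs_le.1 (bd_p1 xe xf yg yh)
    have h4 := abs_le.1 (bd_p1 xg xh ye yf)
    rw [abs_le]
    simp only [Q.mul]
    constructor <;> linarith only [h1.1, h1.2, h2.1, h2.2, h3.1, h3.2, h4.1, h4.2]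
  · have h1 := abs_le.1 (bd_p0 xa xb ye yf)
    have h2 := abs_le.1 (bd_p0 xe xf ya yb)
    have h3 := abs_le.1 (bd_p0 xc xd yg yh)
    have h4 := abs_le.1 (bd_p0 xg xh yc yd)
    rw [abs_le]
    simp only [Q.mul]
    constructor <;> linarith only [hn, h1.1, h1.2, h2.1, h2.2, h3.1, h3.2, h4.1, h4.2]
  · have h1 := abs_le.1 (bd_p1 xa xb ye yf)
    have h2 := abs_le.1 (bd_p1 xe xf ya yb)
    have h3 := abs_le.1 (bd_p1 xc xd yg yh)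
    have h4 := abs_le.1 (bd_p1 xg xh yc yd)
    rw [abs_le]
    simp only [Q.mul]
    constructor <;> linarith only [hn, h1.1, h1.2, h2.1, h2.2, h3.1, h3.2, h4.1, h4.2]
  · have h1 := abs_le.1 (bd_p0 xa xb yg yh)
    have h2 := abs_le.1 (bd_p0 xg xh ya yb)
    have h3 := abs_le.1 (bd_p0 xc xd ye yf)
    have h4 := abs_le.1 (bd_p0 xe xf yc yd)
    rw [abs_le]
    simp only [Q.mul]
    constructor <;> linarith only [hn, h1.1, h1.2, h2.1, h2.2, h3.1, h3.2, h4.1, h4.2]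
  · have h1 := abs_le.1 (bd_p1 xa xb yg yh)
    have h2 := abs_le.1 (bd_p1 xg xh ya yb)
    have h3 := abs_le.1 (bd_p1 xc xd ye yf)
    have h4 := abs_le.1 (bd_p1 xe xf yc yd)
    rw [abs_le]
    simp only [Q.mul]
    constructor <;> linarith only [hn, h1.1, h1.2, h2.1, h2.2, h3.1, h3.2, h4.1, h4.2]

theorem Bd.conj {A : Int} {x : Q} (hx : Bd A x) : Bd A x.conj := by
  obtain ⟨xa, xb, xc, xd, xe, xf, xg, xh⟩ := hx
  exact ⟨xa, xb, (abs_neg _).trans_le xc, (abs_neg _).trans_le xd, (abs_neg _).trans_le xe, (abs_neg _).trans_le xf,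
    (abs_neg _).trans_le xg, (abs_neg _).trans_le xh⟩

theorem abs_smul_le {A n a : Int} (hn : 0 ≤ n) (h : |a| ≤ A) : |n * a| ≤ n * A := by
  rw [abs_mul, abs_of_nonneg hn]
  exact mul_le_mul_of_nonneg_left h hn

theorem Bd.smul {A n : Int} {x : Q} (hn : 0 ≤ n) (hx : Bd A x) : Bd (n * A) (x.smul n) := by
  obtain ⟨xa, xb, xc, xd, xe, xf, xg, xh⟩ := hx
  exact ⟨abs_smul_le hn xa, abs_smul_le hn xb, abs_smul_le hn xc, abs_smul_le hn xd, abs_smul_le hn xe,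
    abs_smul_le hn xf, abs_smul_le hn xg, abs_smul_le hn xh⟩

theorem abs_add' {A B a b : Int} (h : |a| ≤ A) (h' : |b| ≤ B) : |a + b| ≤ A + B :=
  (abs_add_le _ _).trans (add_le_add h h')

theorem abs_sub'' {A B a b : Int} (h : |a| ≤ A) (h' : |b| ≤ B) : |a - b| ≤ A + B :=
  (abs_sub _ _).trans (add_le_add h h')

theorem Bd.add {A B : Int} {x y : Q} (hx : Bd A x) (hy : Bd B y) : Bd (A + B) (x.add y) := by
  obtain ⟨xa, xb, xc, xd, xe, xf, xg, xh⟩ := hx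
  obtain ⟨ya, yb, yc, yd, ye, yf, yg, yh⟩ := hy
  exact ⟨abs_add' xa ya, abs_add' xb yb, abs_add' xc yc, abs_add' xd yd, abs_add' xe ye, abs_add' xf yf,
    abs_add' xg yg, abs_add' xh yh⟩

theorem Bd.sub {A B : Int} {x y : Q} (hx : Bd A x) (hy : Bd B y) : Bd (A + B) (x.sub y) := by
  obtain ⟨xa, xb, xc, xd, xe, xf, xg, xh⟩ := hx
  obtain ⟨ya, yb, yc, yd, ye, yf, yg, yh⟩ := hy
  exact ⟨abs_sub'' xa ya, abs_sub'' xb yb, abs_sub'' xc yc, abs_sub'' xd yd, abs_sub'' xe ye, abs_sub'' xf yf,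
    abs_sub'' xg yg, abs_sub'' xh yh⟩

theorem Bd.mono {A B : Int} {x : Q} (hx : Bd A x) (h : A ≤ B) : Bd B x := by
  obtain ⟨xa, xb, xc, xd, xe, xf, xg, xh⟩ := hx
  exact ⟨xa.trans h, xb.trans h, xc.trans h, xd.trans h, xe.trans h, xf.trans h, xg.trans h, xh.trans h⟩

/-! ### equality from residues -/

theorem eq_of_eqm {x y : Int} {p q : ℕ} (d : ℕ) (hx : (x : ZMod MM) = p) (hy : (y : ZMod MM) = q)
    (h : R.eqm d p q = true) {A : Int} (h1 : |x| ≤ A) (h2 : |(d : Int) * y| ≤ A) (hA : 2 * A < MM) : x = d * y := by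
  have h3 : p = (d * q) % MM := Nat.eq_of_beq_eq_true h
  have h4 : ((x - d * y : Int) : ZMod MM) = 0 := by
    rw [Int.cast_sub, hx, h3, ZMod.natCast_mod, Int.cast_mul, hy]
    push_cast
    ring
  have h5 : (MM : Int) ∣ x - d * y := (ZMod.intCast_zmod_eq_zero_iff_dvd _ _).1 h4
  have h6 : |x - d * y| < (MM : Int) := by
    have := abs_sub'' h1 h2
    linarith only [hA, this]
  have h7 := Int.eq_zero_of_abs_lt_dvd h5 h6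
  linarith only [h7]

theorem smul_bd {A : Int} {d : ℕ} {x : Q} (hx : Bd A x) : Bd (d * A) (x.smul d) := hx.smul (Int.natCast_nonneg d)

@[ext] theorem Q.ext' {x y : Q} (ha : x.a = y.a) (hb : x.b = y.b) (hc : x.c = y.c) (hd : x.d = y.d) (he : x.e = y.e)
    (hf : x.f = y.f) (hg : x.g = y.g) (hh : x.h = y.h) : x = y := by
  cases x; cases y
  simp only at ha hb hc hd he hf hg hh
  subst ha hb hc hd he hf hg hh
  rfl

theorem eq_of_eqs {x y : Q} {r s : R} {d : ℕ} (hx : Rl x r) (hy : Rl y s) (h : R.eqs d r s = true) {A : Int}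
    (h1 : Bd A x) (h2 : Bd A (y.smul d)) (hA : 2 * A < MM) : x = y.smul d := by
  unfold R.eqs at h
  simp only [Bool.and_eq_true] at h
  obtain ⟨ea, eb, ec, ed, ee, ef, eg, eh⟩ := h
  apply Q.ext'
  · exact eq_of_eqm d hx.a hy.a ea h1.a h2.a hA
  · exact eq_of_eqm d hx.b hy.b eb h1.b h2.b hA
  · exact eq_of_eqm d hx.c hy.c ec h1.c h2.c hA
  · exact eq_of_eqm d hx.d hy.d ed h1.d h2.d hA
  · exact eq_of_eqm d hx.e hy.e ee h1.e h2.e hA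
  · exact eq_of_eqm d hx.f hy.f ef h1.f h2.f hA
  · exact eq_of_eqm d hx.g hy.g eg h1.g h2.g hA
  · exact eq_of_eqm d hx.h hy.h eh h1.h h2.h hA

/-- same residues, vectors -/
structure RlV (v : V) (r : RV) : Prop where
  x : Rl v.x r.x
  y : Rl v.y r.y
  z : Rl v.z r.z

/-- small coordinates, vectors -/
structure BdV (B : Int) (v : V) : Prop where
  x : Bd B v.x
  y : Bd B v.y
  z : Bd B v.z

/-- the conjugate vector -/
def V.conj (v : V) : V := ⟨v.x.conj, v.y.conj, v.z.conj⟩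
/-- right multiplication -/
def V.mulr (v : V) (u : Q) : V := ⟨v.x.mul u, v.y.mul u, v.z.mul u⟩
/-- scalar multiplication -/
def V.smul (d : Int) (v : V) : V := ⟨v.x.smul d, v.y.smul d, v.z.smul d⟩

theorem rlV_res (v : V) : RlV v ⟨resQ v.x, resQ v.y, resQ v.z⟩ := ⟨rl_res _, rl_res _, rl_res _⟩

theorem rlV_refl {w v : V} {wc' w' v' : RV} (n : ℕ) (hc : RlV w.conj wc') (hw : RlV w w') (hv : RlV v v') :
    RlV (refl n w v) (reflR n wc' w' v') := by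
  have hs := Rl.sum2 (hc.x.mul hv.x) (hc.y.mul hv.y) (hc.z.mul hv.z)
  exact ⟨Rl.msub n hv.x (hw.x.mul hs), Rl.msub n hv.y (hw.y.mul hs), Rl.msub n hv.z (hw.z.mul hs)⟩

theorem bdV_refl {w v : V} {n : ℕ} (hn : n ≤ 144) (hw : BdV 6 w) (hv : BdV 12 v) : BdV 2000000 (refl n w v) := by
  have h1 : Bd 10368 ((herm w v).smul 2) := by
    have := ((hw.x.conj.mul hv.x).add (hw.y.conj.mul hv.y)).add (hw.z.conj.mul hv.z)
    exact (this.smul (n := 2) (by norm_num)).mono (by norm_num)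
  have hn' : (n : Int) ≤ 144 := by exact_mod_cast hn
  have h2 : ∀ {a b : Q}, Bd 6 a → Bd 12 b → Bd 2000000 ((b.smul n).sub (a.mul ((herm w v).smul 2))) := by
    intro a b ha hb
    exact ((smul_bd (d := n) hb).sub (ha.mul h1)).mono (by linarith)
  exact ⟨h2 hw.x hv.x, h2 hw.y hv.y, h2 hw.z hv.z⟩

theorem eqvK_eq (d : ℕ) (v' : RV) (u : R) (y : RV) : eqvK d v' u y =
    ((v'.x.mul u).eqs d y.x && ((v'.y.mul u).eqs d y.y && (v'.z.mul u).eqs d y.z)) := by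
  unfold eqvK
  simp only [mulK_eq]

theorem eqv_sound {d : ℕ} {v v' y y' : _} {u : Q} {u' : R} (hd : d ≤ 12) (h : eqvK d v' u' y' = true)
    (hv : RlV v v') (hy : RlV y y') (hu : Rl u u') (bv : BdV 12 v) (by' : BdV 2000000 y) (bu : Bd 2000000 u) :
    v.mulr u = y.smul d := by
  rw [eqvK_eq] at h
  simp only [Bool.and_eq_true] at h
  obtain ⟨h1, h2, h3⟩ := h
  have hd' : (d : Int) ≤ 12 := by exact_mod_cast hd
  have key : ∀ {a : Q} {a' : R} {b : Q} {b' : R}, Rl a a' → Bd 12 a → Rl b b' → Bd 2000000 b →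
      (a'.mul u').eqs d b' = true → a.mul u = b.smul d := by
    intro a a' b b' ha ba hb bb h
    refine eq_of_eqs (A := 576000000) (ha.mul hu) hb h ((ba.mul bu).mono (by norm_num))
      ((smul_bd (d := d) bb).mono (by linarith)) (by unfold MM; norm_num)
  unfold V.mulr V.smul
  rw [key hv.x bv.x hy.x by'.x h1, key hv.y bv.y hy.y by'.y h2, key hv.z bv.z hy.z by'.z h3]

theorem okd_iff {d : ℕ} (h : okd d = true) : 1 ≤ d ∧ d ∣ 12 := by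
  unfold okd at h
  rw [Bool.and_eq_true] at h
  refine ⟨Nat.le_of_ble_eq_true h.1, Nat.dvd_of_mod_eq_zero ?_⟩
  exact Nat.eq_of_beq_eq_true h.2

/-- the result of a check -/
def Good (n : ℕ) (w v : V) : Prop :=
  ∃ v' ∈ tree.toL, ∃ (d : ℕ) (u : Q), 1 ≤ d ∧ d ∣ 12 ∧ v'.mulr u = (refl n w v).smul d

theorem chk_sound {n : ℕ} {w v v₂ : V} {wc' w' v' v₂' : RV} (hn : n ≤ 144) (hc : RlV w.conj wc') (hw : RlV w w')
    (hv : RlV v v') (hv₂ : RlV v₂ v₂') (bw : BdV 6 w) (bv : BdV 12 v) (bv₂ : BdV 12 v₂)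
    (h : chkK n wc' w' v' v₂' = true) : ∃ (d : ℕ) (u : Q), 1 ≤ d ∧ d ∣ 12 ∧ v₂.mulr u = (refl n w v).smul d := by
  unfold chkK at h
  rw [reflK_eq] at h
  have hr := rlV_refl n hc hw hv
  have br := bdV_refl hn bw bv
  have key : ∀ {d : ℕ} {u : Q} {u' : R}, Rl u u' → Bd 2000000 u → okd d = true →
      eqvK d v₂' u' (reflR n wc' w' v') = true →
      ∃ (d : ℕ) (u : Q), 1 ≤ d ∧ d ∣ 12 ∧ v₂.mulr u = (refl n w v).smul d := by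
    intro d u u' hu bu h1 h2
    obtain ⟨h3, h4⟩ := okd_iff h1
    exact ⟨d, u, h3, h4, eqv_sound (Nat.le_of_dvd (by norm_num) h4) h2 hv₂ hr hu bv₂ br bu⟩
  cases hx : Nat.beq v₂'.x.a 0 with
  | false =>
    rw [hx, cond_false, Bool.and_eq_true] at h
    exact key hr.x br.x h.1 h.2
  | true =>
    rw [hx, cond_true] at h
    cases hy : Nat.beq v₂'.y.a 0 with
    | false =>
      rw [hy, cond_false, Bool.and_eq_true] at h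
      exact key hr.y br.y h.1 h.2
    | true =>
      rw [hy, cond_true, Bool.and_eq_true] at h
      exact key hr.z br.z h.1 h.2

theorem get_mem : ∀ (t : T) (k : ℕ), t.get k ∈ t.toL
  | .l v _, _ => List.mem_singleton.2 rfl
  | .n a b, k => by
    unfold T.get T.toL
    cases Nat.beq (Nat.mod k 2) 0 with
    | false => exact List.mem_append.2 (Or.inr (get_mem b _))
    | true => exact List.mem_append.2 (Or.inl (get_mem a _))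

/-- kernel check of the bounds -/
def bdB : List V → Bool
  | [] => true
  | v :: l => (bq v.x && (bq v.y && bq v.z)) && bdB l
where
  /-- one coordinate -/
  bq (x : Q) : Bool := Nat.ble x.a.natAbs 12 && (Nat.ble x.b.natAbs 12 && (Nat.ble x.c.natAbs 12 &&
    (Nat.ble x.d.natAbs 12 && (Nat.ble x.e.natAbs 12 && (Nat.ble x.f.natAbs 12 && (Nat.ble x.g.natAbs 12 &&
      Nat.ble x.h.natAbs 12))))))

theorem bdB_tree : bdB tree.toL = true := by decide +kernel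

theorem bq_sound {x : Q} (h : bdB.bq x = true) : Bd 12 x := by
  unfold bdB.bq at h
  simp only [Bool.and_eq_true] at h
  obtain ⟨ea, eb, ec, ed, ee, ef, eg, eh⟩ := h
  have key : ∀ {a : Int}, Nat.ble a.natAbs 12 = true → |a| ≤ 12 := by
    intro a h
    have := Nat.le_of_ble_eq_true h
    rw [Int.abs_eq_natAbs]
    exact_mod_cast this
  exact ⟨key ea, key eb, key ec, key ed, key ee, key ef, key eg, key eh⟩

theorem bd_of_mem {l : List V} (h : bdB l = true) {v : V} (hv : v ∈ l) : BdV 12 v := by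
  induction l with
  | nil => simp at hv
  | cons a l ih =>
    unfold bdB at h
    simp only [Bool.and_eq_true] at h
    rcases List.mem_cons.1 hv with h1 | h1
    · subst h1
      exact ⟨bq_sound h.1.1, bq_sound h.1.2.1, bq_sound h.1.2.2⟩
    · exact ih h.2 h1

theorem bd_tree {v : V} (hv : v ∈ tree.toL) : BdV 12 v := bd_of_mem bdB_tree hv

theorem chkT_sound {n : ℕ} {w : V} {wc' w' : RV} {j : ℕ} (hn : n ≤ 144) (hc : RlV w.conj wc') (hw : RlV w w')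
    (bw : BdV 6 w) : ∀ t : T, (∀ v ∈ t.toL, BdV 12 v) → chkT n wc' w' j t = true → ∀ v ∈ t.toL, Good n w v
  | .l v ks => by
    intro hb h v' hv'
    have hv' : v' = v := List.mem_singleton.1 hv'
    subst hv'
    have hb' : BdV 12 v' := hb v' (List.mem_singleton.2 rfl)
    unfold chkT at h
    rw [forceV_eq, forceV_eq] at h
    obtain ⟨d, u, h1⟩ := chk_sound hn hc hw (rlV_res v') (rlV_res (tree.get (ks.getD j 0))) bw hb'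
      (bd_tree (get_mem _ _)) h
    exact ⟨_, get_mem _ _, d, u, h1⟩
  | .n a b => by
    intro hb h v' hv'
    unfold chkT at h
    rw [Bool.and_eq_true] at h
    rcases List.mem_append.1 (show v' ∈ a.toL ++ b.toL from hv') with h1 | h1
    · exact chkT_sound hn hc hw bw a (fun v hv => hb v (List.mem_append.2 (Or.inl hv))) h.1 v' h1
    · exact chkT_sound hn hc hw bw b (fun v hv => hb v (List.mem_append.2 (Or.inr hv))) h.2 v' h1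

theorem chkG_sound {n : ℕ} {w : V} {j : ℕ} (hn : n ≤ 144) (bw : BdV 6 w) (h : chkG n w j = true) :
    ∀ v ∈ tree.toL, Good n w v := by
  unfold chkG at h
  rw [forceV_eq, forceR_eq, forceR_eq, forceR_eq] at h
  have hc : RlV w.conj ⟨(resQ w.x).conj, (resQ w.y).conj, (resQ w.z).conj⟩ :=
    ⟨(rl_res w.x).conj, (rl_res w.y).conj, (rl_res w.z).conj⟩
  exact chkT_sound hn hc (rlV_res w) bw tree (fun v hv => bd_tree hv) h

theorem bd_lit {x : Q} (h : (|x.a| ≤ 6 ∧ |x.b| ≤ 6 ∧ |x.c| ≤ 6 ∧ |x.d| ≤ 6) ∧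
    (|x.e| ≤ 6 ∧ |x.f| ≤ 6 ∧ |x.g| ≤ 6 ∧ |x.h| ≤ 6)) : Bd 6 x :=
  ⟨h.1.1, h.1.2.1, h.1.2.2.1, h.1.2.2.2, h.2.1, h.2.2.1, h.2.2.2.1, h.2.2.2.2⟩

theorem good_g1 : ∀ v ∈ tree.toL, Good 1 w_g1 v :=
  chkG_sound (by norm_num) ⟨bd_lit (by decide), bd_lit (by decide), bd_lit (by decide)⟩ chk_g1
theorem good_g2 : ∀ v ∈ tree.toL, Good 1 w_g2 v :=
  chkG_sound (by norm_num) ⟨bd_lit (by decide), bd_lit (by decide), bd_lit (by decide)⟩ chk_g2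
theorem good_g4 : ∀ v ∈ tree.toL, Good 2 w_g4 v :=
  chkG_sound (by norm_num) ⟨bd_lit (by decide), bd_lit (by decide), bd_lit (by decide)⟩ chk_g4
theorem good_g5 : ∀ v ∈ tree.toL, Good 2 w_g5 v :=
  chkG_sound (by norm_num) ⟨bd_lit (by decide), bd_lit (by decide), bd_lit (by decide)⟩ chk_g5
theorem good_g8 : ∀ v ∈ tree.toL, Good 2 w_g8 v :=
  chkG_sound (by norm_num) ⟨bd_lit (by decide), bd_lit (by decide), bd_lit (by decide)⟩ chk_g8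
theorem good_g6 : ∀ v ∈ tree.toL, Good 16 w_g6 v :=
  chkG_sound (by norm_num) ⟨bd_lit (by decide), bd_lit (by decide), bd_lit (by decide)⟩ chk_g6
theorem good_g0 : ∀ v ∈ tree.toL, Good 144 w_g0 v :=
  chkG_sound (by norm_num) ⟨bd_lit (by decide), bd_lit (by decide), bd_lit (by decide)⟩ chk_g0

theorem length_tree : tree.toL.length = 315 := by decide +kernel

theorem one_mem_tree : (⟨⟨1, 0, 0, 0, 0, 0, 0, 0⟩, ⟨0, 0, 0, 0, 0, 0, 0, 0⟩, ⟨0, 0, 0, 0, 0, 0, 0, 0⟩⟩ : V) ∈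
    tree.toL := by
  have h : tree.get 0 = ⟨⟨1, 0, 0, 0, 0, 0, 0, 0⟩, ⟨0, 0, 0, 0, 0, 0, 0, 0⟩, ⟨0, 0, 0, 0, 0, 0, 0, 0⟩⟩ := rfl
  rw [← h]
  exact get_mem _ _

end Cfsg.Agent.H476.JTwo
end

-- part: H476/JTwo/Col
section
/-!
# The root vectors in the ring (helper476, for S5806)
-/

set_option autoImplicit false

namespace Cfsg.Agent.H476.JTwo

universe u v

/-- the quaternion with the given coordinates -/
def quad {F : Type u} [Field F] {R : Type v} [Ring R] [Algebra F R] (ε I J : R) (a b c d : F) : R :=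
  a • ε + b • I + c • J + d • (I * J)

/-- evaluation of integral quaternions -/
def ev {F : Type u} [Field F] {R : Type v} [Ring R] [Algebra F R] (τ : F) (ε I J : R) (x : Q) : R :=
  quad ε I J ((x.a : F) + x.b * τ) ((x.c : F) + x.d * τ) ((x.e : F) + x.f * τ) ((x.g : F) + x.h * τ)

/-- the column of a vector -/
def col {F : Type u} [Field F] {R : Type v} [Ring R] [Algebra F R] (τ : F) (ε p1 p3 I J : R) (v : V) : R :=
  p1 * ev τ ε I J v.x + ev τ ε I J v.y + p3 * ev τ ε I J v.z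

/-- the row of a vector -/
def row {F : Type u} [Field F] {R : Type v} [Ring R] [Algebra F R] (τ : F) (ε q1 q3 I J : R) (v : V) : R :=
  ev τ ε I J v.x.conj * q1 + ev τ ε I J v.y.conj + ev τ ε I J v.z.conj * q3

variable {F : Type u} [Field F] {R : Type v} [Ring R] [Algebra F R] {st : R → R} {ε p1 p3 q1 q3 I J : R}
  (H : Fr st ε p1 p3 q1 q3 I J)

include H

theorem Fr.IJI : I * J * I = J := by
  linear_combination (norm := noncomm_ring) I * H.JI - H.II * J + H.eJ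

theorem Fr.IIJ : I * (I * J) = -J := by
  linear_combination (norm := noncomm_ring) H.II * J - H.eJ

theorem Fr.JIJ : J * (I * J) = 3 * I := by
  linear_combination (norm := noncomm_ring) H.JI * J - I * H.JJ + 3 * H.Ie

theorem Fr.IJJ : I * J * J = -(3 * I) := by
  linear_combination (norm := noncomm_ring) I * H.JJ - 3 * H.Ie

theorem Fr.IJIJ : I * J * (I * J) = -(3 * ε) := by
  linear_combination (norm := noncomm_ring) H.IJI * J + H.JJ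

theorem Fr.quad_mul (a b c d a' b' c' d' : F) : quad ε I J a b c d * quad ε I J a' b' c' d' =
    quad ε I J (a * a' - b * b' - 3 * (c * c') - 3 * (d * d')) (a * b' + b * a' + 3 * (c * d') - 3 * (d * c'))
      (a * c' + c * a' - b * d' + d * b') (a * d' + d * a' + b * c' - c * b') := by
  have e1 : ε * (I * J) = I * J := by rw [← mul_assoc, H.eI]
  have e2 : I * J * ε = I * J := by rw [mul_assoc, H.Je]
  unfold quad
  simp only [add_mul, mul_add, smul_mul_smul_comm, H.ee, H.eI, H.eJ, H.Ie, H.Je, e1, e2, H.II, H.JJ, H.JI, H.IIJ,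
    H.JIJ, H.IJI, H.IJJ, H.IJIJ]
  have t1 : (3 : R) * ε = (3 : F) • ε := by rw [← map_ofNat (algebraMap F R) 3, ← Algebra.smul_def]
  have t2 : (3 : R) * I = (3 : F) • I := by rw [← map_ofNat (algebraMap F R) 3, ← Algebra.smul_def]
  rw [t1, t2]
  module

theorem Fr.ev_mul {τ : F} (hτ : τ * τ = τ + 1) (x y : Q) : ev τ ε I J x * ev τ ε I J y = ev τ ε I J (x.mul y) := by
  unfold ev
  rw [H.quad_mul]
  simp only [Q.mul, Q.p0, Q.p1]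
  push_cast
  congr 1
  · linear_combination ((x.b : F) * y.b - x.d * y.d - 3 * (x.f * y.f) - 3 * (x.h * y.h)) * hτ
  · linear_combination ((x.b : F) * y.d + x.d * y.b + 3 * (x.f * y.h) - 3 * (x.h * y.f)) * hτ
  · linear_combination ((x.b : F) * y.f + x.f * y.b - x.d * y.h + x.h * y.d) * hτ
  · linear_combination ((x.b : F) * y.h + x.h * y.b + x.d * y.f - x.f * y.d) * hτ

omit H in
theorem ev_add (τ : F) (ε I J : R) (x y : Q) : ev τ ε I J (x.add y) = ev τ ε I J x + ev τ ε I J y := by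
  unfold ev quad Q.add
  push_cast
  module

omit H in
theorem ev_sub (τ : F) (ε I J : R) (x y : Q) : ev τ ε I J (x.sub y) = ev τ ε I J x - ev τ ε I J y := by
  unfold ev quad Q.sub
  push_cast
  module

omit H in
theorem ev_smul (τ : F) (ε I J : R) (n : Int) (x : Q) : ev τ ε I J (x.smul n) = (n : F) • ev τ ε I J x := by
  unfold ev quad Q.smul
  push_cast
  module

theorem Fr.e_ev (τ : F) (x : Q) : ε * ev τ ε I J x = ev τ ε I J x := by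
  have e1 : ε * (I * J) = I * J := by rw [← mul_assoc, H.eI]
  unfold ev quad
  simp only [mul_add, mul_smul_comm, H.ee, H.eI, H.eJ, e1]

theorem Fr.ev_e (τ : F) (x : Q) : ev τ ε I J x * ε = ev τ ε I J x := by
  have e2 : I * J * ε = I * J := by rw [mul_assoc, H.Je]
  unfold ev quad
  simp only [add_mul, smul_mul_assoc, H.ee, H.Ie, H.Je, e2]

theorem Fr.q1_ev (τ : F) (x : Q) : q1 * ev τ ε I J x = 0 := by
  rw [← H.e_ev, ← mul_assoc, H.q1e, zero_mul]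

theorem Fr.q3_ev (τ : F) (x : Q) : q3 * ev τ ε I J x = 0 := by
  rw [← H.e_ev, ← mul_assoc, H.q3e, zero_mul]

theorem Fr.ev_p1 (τ : F) (x : Q) : ev τ ε I J x * p1 = 0 := by
  rw [← H.ev_e, mul_assoc, H.ep1, mul_zero]

theorem Fr.ev_p3 (τ : F) (x : Q) : ev τ ε I J x * p3 = 0 := by
  rw [← H.ev_e, mul_assoc, H.ep3, mul_zero]

theorem Fr.st_ev (hs : ∀ (c : F) (x : R), st (c • x) = c • st x) (τ : F) (x : Q) :
    st (ev τ ε I J x) = ev τ ε I J x.conj := by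
  have e1 : st (I * J) = -(I * J) := by rw [H.ad.mul, H.sI, H.sJ, neg_mul_neg, H.JI]
  unfold ev quad Q.conj
  simp only [H.ad.add, hs, H.se, H.sI, H.sJ, e1]
  push_cast
  module

theorem Fr.st_col (hs : ∀ (c : F) (x : R), st (c • x) = c • st x) (τ : F) (v : V) :
    st (col τ ε p1 p3 I J v) = row τ ε q1 q3 I J v := by
  unfold col row
  rw [H.ad.add, H.ad.add, H.ad.mul, H.ad.mul, H.s1, H.s3, H.st_ev hs, H.st_ev hs, H.st_ev hs]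

theorem Fr.col_ev {τ : F} (hτ : τ * τ = τ + 1) (v : V) (u : Q) :
    col τ ε p1 p3 I J v * ev τ ε I J u = col τ ε p1 p3 I J (v.mulr u) := by
  unfold col V.mulr
  rw [add_mul, add_mul, mul_assoc, mul_assoc, H.ev_mul hτ, H.ev_mul hτ, H.ev_mul hτ]

theorem Fr.row_col {τ : F} (hτ : τ * τ = τ + 1) (w v : V) :
    row τ ε q1 q3 I J w * col τ ε p1 p3 I J v = ev τ ε I J (herm w v) := by
  unfold row col herm
  rw [ev_add, ev_add, ← H.ev_mul hτ, ← H.ev_mul hτ, ← H.ev_mul hτ]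
  have a1 := H.q1_ev τ v.y
  have a2 := H.q3_ev τ v.y
  have a3 := H.ev_p1 τ w.y.conj
  have a4 := H.ev_p3 τ w.y.conj
  have a5 := H.e_ev τ v.x
  have a6 := H.e_ev τ v.z
  generalize ev τ ε I J w.x.conj = A at *
  generalize ev τ ε I J w.y.conj = B at *
  generalize ev τ ε I J w.z.conj = C at *
  generalize ev τ ε I J v.x = A' at *
  generalize ev τ ε I J v.y = B' at *
  generalize ev τ ε I J v.z = C' at *
  linear_combination (norm := noncomm_ring) A * H.q11 * A' + A * a5 + A * a1 + A * H.q13 * C' + a3 * A' + a4 * C' +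
    C * H.q31 * A' + C * a2 + C * H.q33 * C' + C * a6

theorem Fr.col_e (τ : F) (v : V) : col τ ε p1 p3 I J v * ε = col τ ε p1 p3 I J v := by
  unfold col
  rw [add_mul, add_mul, mul_assoc, mul_assoc, H.ev_e, H.ev_e, H.ev_e]

omit H in
theorem col_smul (τ : F) (ε p1 p3 I J : R) (n : Int) (v : V) :
    col τ ε p1 p3 I J (v.smul n) = (n : F) • col τ ε p1 p3 I J v := by
  unfold col V.smul
  simp only [ev_smul, mul_smul_comm, smul_add]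

omit H in
theorem col_refl_aux (τ : F) (ε p1 p3 I J : R) (n : Int) (w v : V) (u : Q) :
    col τ ε p1 p3 I J ⟨(v.x.smul n).sub (w.x.mul u), (v.y.smul n).sub (w.y.mul u), (v.z.smul n).sub (w.z.mul u)⟩ =
      (n : F) • col τ ε p1 p3 I J v - col τ ε p1 p3 I J (w.mulr u) := by
  unfold col V.mulr
  simp only [ev_sub, ev_smul, mul_sub, mul_smul_comm, smul_add]
  abel

theorem Fr.refl_col {τ : F} (hτ : τ * τ = τ + 1) (n : ℕ) (w v : V) {e : R}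
    (he : (n : F) • e = col τ ε p1 p3 I J w * row τ ε q1 q3 I J w) :
    (n : F) • ((1 - 2 * e) * col τ ε p1 p3 I J v) = col τ ε p1 p3 I J (refl n w v) := by
  have h1 : (n : F) • ((1 - 2 * e) * col τ ε p1 p3 I J v) = (n : F) • col τ ε p1 p3 I J v -
      2 * ((n : F) • e * col τ ε p1 p3 I J v) := by
    rw [sub_mul, one_mul, smul_sub, mul_assoc, smul_mul_assoc, mul_smul_comm]
  rw [h1, he, mul_assoc, H.row_col hτ]
  unfold refl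
  rw [col_refl_aux, ← H.col_ev hτ, ev_smul, Int.cast_natCast]
  congr 1
  rw [mul_smul_comm, Int.cast_ofNat, ofNat_smul_eq_nsmul, nsmul_eq_mul]
  rfl

/-- the property of the group -/
def Tp (τ : F) (ε p1 p3 I J : R) (g : R) : Prop :=
  ∀ v ∈ tree.toL, ∃ v' ∈ tree.toL, ∃ u : R, g * col τ ε p1 p3 I J v = col τ ε p1 p3 I J v' * u

omit H in
theorem Tp.mul {τ : F} {ε p1 p3 I J g g' : R} (h : Tp τ ε p1 p3 I J g) (h' : Tp τ ε p1 p3 I J g') :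
    Tp τ ε p1 p3 I J (g * g') := by
  intro v hv
  obtain ⟨v', hv', u, hu⟩ := h' v hv
  obtain ⟨v₂, hv₂, u', hu'⟩ := h v' hv'
  refine ⟨v₂, hv₂, u' * u, ?_⟩
  rw [mul_assoc, hu, ← mul_assoc, hu', mul_assoc]

omit H in
theorem Tp.one (τ : F) (ε p1 p3 I J : R) : Tp τ ε p1 p3 I J (1 : R) := fun v hv => ⟨v, hv, 1, by rw [one_mul, mul_one]⟩

omit H in
theorem Tp.neg_one (τ : F) (ε p1 p3 I J : R) : Tp τ ε p1 p3 I J (-1 : R) :=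
  fun v hv => ⟨v, hv, -1, by rw [neg_one_mul, mul_neg_one]⟩

theorem Fr.tp {τ : F} (hτ : τ * τ = τ + 1) {n : ℕ} {w : V} (hg : ∀ v ∈ tree.toL, Good n w v) {e : R}
    (he : (n : F) • e = col τ ε p1 p3 I J w * row τ ε q1 q3 I J w) (hn : (n : F) ≠ 0) (h12 : (12 : F) ≠ 0) :
    Tp τ ε p1 p3 I J (1 - 2 * e) := by
  intro v hv
  obtain ⟨v', hv', d, u, -, hd, h⟩ := hg v hv
  have hd0 : (d : F) ≠ 0 := by
    intro h0
    obtain ⟨k, hk⟩ := hd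
    apply h12
    have h1 : ((12 : ℕ) : F) = d * k := by rw [hk, Nat.cast_mul]
    rw [h0, zero_mul] at h1
    exact_mod_cast h1
  refine ⟨v', hv', ((d : F) * n)⁻¹ • ev τ ε I J u, ?_⟩
  have h1 := H.refl_col hτ n w v he
  have h2 : col τ ε p1 p3 I J v' * ev τ ε I J u = (d : F) • ((n : F) • ((1 - 2 * e) * col τ ε p1 p3 I J v)) := by
    rw [H.col_ev hτ, h, h1, col_smul, Int.cast_natCast]
  rw [mul_smul_comm, h2, smul_smul, smul_smul, mul_assoc, inv_mul_cancel₀ (mul_ne_zero hd0 hn), one_smul]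

/-! ### special values -/

omit H in
theorem ev_zero (τ : F) (ε I J : R) : ev τ ε I J ⟨0, 0, 0, 0, 0, 0, 0, 0⟩ = 0 := by
  unfold ev quad
  simp

omit H in
theorem ev_one (τ : F) (ε I J : R) : ev τ ε I J ⟨1, 0, 0, 0, 0, 0, 0, 0⟩ = ε := by
  unfold ev quad
  simp

omit H in
theorem ev_int (τ : F) (ε I J : R) (n : Int) : ev τ ε I J ⟨n, 0, 0, 0, 0, 0, 0, 0⟩ = (n : F) • ε := by
  unfold ev quad
  simp

omit H in
theorem ev_i (τ : F) (ε I J : R) : ev τ ε I J ⟨0, 0, 1, 0, 0, 0, 0, 0⟩ = I := by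
  unfold ev quad
  simp

omit H in
theorem ev_1111 (τ : F) (ε I J : R) : ev τ ε I J ⟨1, 0, 1, 0, 1, 0, 1, 0⟩ = ε + I + J + I * J := by
  unfold ev quad
  simp

omit H in
theorem conj_mk (a b c d e f g h : Int) : Q.conj ⟨a, b, c, d, e, f, g, h⟩ = ⟨a, b, -c, -d, -e, -f, -g, -h⟩ := rfl

omit H in
theorem ev_i' (τ : F) (ε I J : R) : ev τ ε I J ⟨0, 0, -1, 0, 0, 0, 0, 0⟩ = -I := by
  unfold ev quad
  simp

omit H in
theorem ev_1111' (τ : F) (ε I J : R) : ev τ ε I J ⟨1, 0, -1, 0, -1, 0, -1, 0⟩ = ε - I - J - I * J := by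
  unfold ev quad
  simp only [sub_eq_add_neg, _root_.Int.cast_one, _root_.Int.cast_zero, _root_.MulZeroClass.zero_mul, _root_.add_zero, _root_.one_smul, _root_.Int.reduceNeg, _root_.Int.cast_neg, _root_.neg_smul]

theorem Fr.col_g1 (τ : F) : col τ ε p1 p3 I J w_g1 = p1 := by
  unfold col w_g1
  simp only [ev_one, ev_zero, mul_zero, add_zero, H.p1e]

theorem Fr.row_g1 (τ : F) : row τ ε q1 q3 I J w_g1 = q1 := by
  unfold row w_g1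
  simp only [conj_mk, neg_zero, ev_one, ev_zero, zero_mul, add_zero, H.eq1]

theorem Fr.col_g2 (τ : F) : col τ ε p1 p3 I J w_g2 = ε := by
  unfold col w_g2
  simp only [ev_one, ev_zero, mul_zero, add_zero, zero_add]

theorem Fr.row_g2 (τ : F) : row τ ε q1 q3 I J w_g2 = ε := by
  unfold row w_g2
  simp only [conj_mk, neg_zero, ev_one, ev_zero, zero_mul, add_zero, zero_add]

theorem Fr.col_g4 (τ : F) : col τ ε p1 p3 I J w_g4 = ε + p3 := by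
  unfold col w_g4
  simp only [ev_one, ev_zero, mul_zero, zero_add, H.p3e]

theorem Fr.row_g4 (τ : F) : row τ ε q1 q3 I J w_g4 = ε + q3 := by
  unfold row w_g4
  simp only [conj_mk, neg_zero, ev_one, ev_zero, zero_mul, zero_add, H.eq3]

theorem Fr.col_g5 (τ : F) : col τ ε p1 p3 I J w_g5 = p1 + ε := by
  unfold col w_g5
  simp only [ev_one, ev_zero, mul_zero, add_zero, H.p1e]

theorem Fr.row_g5 (τ : F) : row τ ε q1 q3 I J w_g5 = q1 + ε := by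
  unfold row w_g5
  simp only [conj_mk, neg_zero, ev_one, ev_zero, zero_mul, add_zero, H.eq1]

theorem Fr.col_g8 (τ : F) : col τ ε p1 p3 I J w_g8 = ε + p3 * I := by
  unfold col w_g8
  simp only [ev_one, ev_zero, ev_i, mul_zero, zero_add]

theorem Fr.row_g8 (τ : F) : row τ ε q1 q3 I J w_g8 = ε - I * q3 := by
  unfold row w_g8
  simp only [conj_mk, neg_zero, ev_one, ev_zero, ev_i', zero_mul, zero_add, neg_mul, sub_eq_add_neg]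

theorem Fr.col_g6 (τ : F) : col τ ε p1 p3 I J w_g6 = p1 * (ε + I + J + I * J) + 2 * ε + 2 * p3 := by
  have h2 : ev τ ε I J ⟨2, 0, 0, 0, 0, 0, 0, 0⟩ = 2 * ε := by
    rw [ev_int, Int.cast_ofNat, ofNat_smul_eq_nsmul, nsmul_eq_mul]; rfl
  unfold col w_g6
  simp only [ev_1111, h2]
  linear_combination (norm := noncomm_ring) 2 * H.p3e

theorem Fr.row_g6 (τ : F) : row τ ε q1 q3 I J w_g6 = (ε - I - J - I * J) * q1 + 2 * ε + 2 * q3 := by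
  have h2 : ev τ ε I J ⟨2, 0, 0, 0, 0, 0, 0, 0⟩ = 2 * ε := by
    rw [ev_int, Int.cast_ofNat, ofNat_smul_eq_nsmul, nsmul_eq_mul]; rfl
  unfold row w_g6
  simp only [conj_mk, neg_zero, ev_1111', h2]
  linear_combination (norm := noncomm_ring) 2 * H.eq3

/-! ### the extra reflection -/

omit H in
theorem herm_g0 : herm w_g0 w_g0 = ⟨144, 0, 0, 0, 0, 0, 0, 0⟩ := by
  apply Q.ext' <;> decide

theorem Fr.row_col_g0 {τ : F} (hτ : τ * τ = τ + 1) :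
    row τ ε q1 q3 I J w_g0 * col τ ε p1 p3 I J w_g0 = (144 : F) • ε := by
  rw [H.row_col hτ, herm_g0, ev_int]
  norm_num

omit H in
theorem yy_g0 : w_g0.y.mul w_g0.y.conj = ⟨36, 36, 0, 0, 0, 0, 0, 0⟩ := by
  apply Q.ext' <;> decide

omit H in
theorem yy_g0' : w_g0.y.conj.mul w_g0.y = ⟨36, 36, 0, 0, 0, 0, 0, 0⟩ := by
  apply Q.ext' <;> decide

end Cfsg.Agent.H476.JTwo
end

-- part: H476/JTwo/Extra
section
/-!
# The extra reflection (helper476, for S5806)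
-/

set_option autoImplicit false

namespace Cfsg.Agent.H476.JTwo

universe u v

variable {F : Type u} [Field F] {R : Type v} [Ring R] [Algebra F R]

theorem five {τ : F} (hτ : τ * τ = τ + 1) {e f : R} (he : e * e = e) (hf : f * f = f)
    (h1 : (4 : F) • (e * f * e) = (τ + 1) • e) (h2 : (4 : F) • (f * e * f) = (τ + 1) • f) :
    ((1 - 2 * e) * (1 - 2 * f)) ^ 5 = 1 := by
  have two : ∀ x : R, 2 * x = (2 : F) • x := fun x => by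
    rw [ofNat_smul_eq_nsmul, nsmul_eq_mul]; rfl
  have four : ∀ x : R, 4 * x = (4 : F) • x := fun x => by
    rw [ofNat_smul_eq_nsmul, nsmul_eq_mul]; rfl
  have rr : (1 - 2 * e) * (1 - 2 * e) = 1 := by linear_combination (norm := noncomm_ring) 4 * he
  have qq : (1 - 2 * f) * (1 - 2 * f) = 1 := by linear_combination (norm := noncomm_ring) 4 * hf
  have a : (1 - 2 * e) * (1 - 2 * f) * e = τ • e - (2 : F) • (f * e) := by
    have : (1 - 2 * e) * (1 - 2 * f) * e = e - 2 * e - 2 * (f * e) + 4 * (e * f * e) := by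
      linear_combination (norm := noncomm_ring) -2 * he
    rw [this, four, h1, two, two]
    module
  have b : e * (1 - 2 * f) * (1 - 2 * e) = τ • e - (2 : F) • (e * f) := by
    have : e * (1 - 2 * f) * (1 - 2 * e) = e - 2 * e - 2 * (e * f) + 4 * (e * f * e) := by
      linear_combination (norm := noncomm_ring) -2 * he
    rw [this, four, h1, two, two]
    module
  have c : (1 - 2 * f) * (1 - 2 * e) * f = τ • f - (2 : F) • (e * f) := by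
    have : (1 - 2 * f) * (1 - 2 * e) * f = f - 2 * f - 2 * (e * f) + 4 * (f * e * f) := by
      linear_combination (norm := noncomm_ring) -2 * hf
    rw [this, four, h2, two, two]
    module
  have d : f * (1 - 2 * e) * (1 - 2 * f) = τ • f - (2 : F) • (f * e) := by
    have : f * (1 - 2 * e) * (1 - 2 * f) = f - 2 * f - 2 * (f * e) + 4 * (f * e * f) := by
      linear_combination (norm := noncomm_ring) -2 * hf
    rw [this, four, h2, two, two]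
    module
  have m1 : f * e * e = f * e := by rw [mul_assoc, he]
  have m2 : e * (e * f) = e * f := by rw [← mul_assoc, he]
  have m3 : f * e * (e * f) = f * e * f := by rw [← mul_assoc, m1]
  have m4 : e * f * f = e * f := by rw [mul_assoc, hf]
  have m5 : f * (f * e) = f * e := by rw [← mul_assoc, hf]
  have m6 : e * f * (f * e) = e * f * e := by rw [← mul_assoc, m4]
  have key : (1 - 2 * e) * (1 - 2 * f) * e * (e * (1 - 2 * f) * (1 - 2 * e)) =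
      (1 - 2 * f) * (1 - 2 * e) * f * (f * (1 - 2 * e) * (1 - 2 * f)) := by
    rw [a, b, c, d]
    simp only [sub_mul, mul_sub, smul_mul_smul_comm, he, hf, m1, m2, m3, m4, m5, m6]
    have n1 : ((2 : F) * 2) • (f * e * f) = (τ + 1) • f := by rw [← h2]; norm_num
    have n2 : ((2 : F) * 2) • (e * f * e) = (τ + 1) • e := by rw [← h1]; norm_num
    rw [n1, n2, hτ]
    module
  have k1 : (1 - 2 * e) * (1 - 2 * f) * (1 - 2 * e) * (1 - 2 * f) * (1 - 2 * e) =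
      1 - 2 * ((1 - 2 * e) * (1 - 2 * f) * e * (e * (1 - 2 * f) * (1 - 2 * e))) := by
    generalize hq : 1 - 2 * f = q at *
    have : (1 - 2 * e) * q * (1 - 2 * e) * q * (1 - 2 * e) =
        (1 - 2 * e) * (q * q) * (1 - 2 * e) - 2 * ((1 - 2 * e) * q * e * q * (1 - 2 * e)) := by
      noncomm_ring
    rw [this, qq, mul_one, rr]
    linear_combination (norm := noncomm_ring) 2 * (1 - 2 * e) * q * he * q * (1 - 2 * e)
  have k2 : (1 - 2 * f) * (1 - 2 * e) * (1 - 2 * f) * (1 - 2 * e) * (1 - 2 * f) =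
      1 - 2 * ((1 - 2 * f) * (1 - 2 * e) * f * (f * (1 - 2 * e) * (1 - 2 * f))) := by
    generalize hr : 1 - 2 * e = r at *
    have : (1 - 2 * f) * r * (1 - 2 * f) * r * (1 - 2 * f) =
        (1 - 2 * f) * (r * r) * (1 - 2 * f) - 2 * ((1 - 2 * f) * r * f * r * (1 - 2 * f)) := by
      noncomm_ring
    rw [this, rr, mul_one, qq]
    linear_combination (norm := noncomm_ring) 2 * (1 - 2 * f) * r * hf * r * (1 - 2 * f)
  have k3 : (1 - 2 * e) * (1 - 2 * f) * (1 - 2 * e) * (1 - 2 * f) * (1 - 2 * e) =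
      (1 - 2 * f) * (1 - 2 * e) * (1 - 2 * f) * (1 - 2 * e) * (1 - 2 * f) := by
    rw [k1, k2, key]
  generalize 1 - 2 * e = r at *
  generalize 1 - 2 * f = q at *
  have h5 : (r * q) ^ 5 = (r * q * r * q * r) * (q * r * q * r * q) := by
    simp only [pow_succ, pow_zero, one_mul, mul_assoc]
  rw [h5, ← k3]
  calc r * q * r * q * r * (r * q * r * q * r) = r * q * r * q * (r * r) * q * r * q * r := by
        simp only [mul_assoc]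
    _ = r * q * r * (q * q) * r * q * r := by rw [rr, mul_one]; simp only [mul_assoc]
    _ = r * q * (r * r) * q * r := by rw [qq, mul_one]; simp only [mul_assoc]
    _ = r * (q * q) * r := by rw [rr, mul_one]; simp only [mul_assoc]
    _ = 1 := by rw [qq, mul_one, rr]

/-- the idempotent of the extra reflection -/
def e0 (τ : F) (ε p1 p3 q1 q3 I J : R) : R :=
  (144 : F)⁻¹ • (col τ ε p1 p3 I J w_g0 * row τ ε q1 q3 I J w_g0)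

variable {st : R → R} {ε p1 p3 q1 q3 I J : R} (H : Fr st ε p1 p3 q1 q3 I J) {τ : F} (hτ : τ * τ = τ + 1)
  (h144 : (144 : F) ≠ 0)

theorem e0_eq (h144 : (144 : F) ≠ 0) : ((144 : ℕ) : F) • e0 τ ε p1 p3 q1 q3 I J =
    col τ ε p1 p3 I J w_g0 * row τ ε q1 q3 I J w_g0 := by
  unfold e0
  rw [smul_smul, Nat.cast_ofNat, mul_inv_cancel₀ h144, one_smul]

include H hτ h144

theorem Fr.e0_sq : e0 τ ε p1 p3 q1 q3 I J * e0 τ ε p1 p3 q1 q3 I J = e0 τ ε p1 p3 q1 q3 I J := by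
  unfold e0
  rw [smul_mul_smul_comm, mul_assoc, ← mul_assoc (row τ ε q1 q3 I J w_g0), H.row_col_g0 hτ, smul_mul_assoc,
    mul_smul_comm, ← mul_assoc, H.col_e, smul_smul]
  congr 1
  field_simp

omit hτ h144 in
theorem Fr.st_e0 (hs : ∀ (c : F) (x : R), st (c • x) = c • st x) :
    st (e0 τ ε p1 p3 q1 q3 I J) = e0 τ ε p1 p3 q1 q3 I J := by
  unfold e0
  rw [hs, H.ad.mul, ← H.st_col hs, H.ad.st_st]

omit h144 in
theorem Fr.eps_e0 : ε * (col τ ε p1 p3 I J w_g0 * row τ ε q1 q3 I J w_g0) * ε = (36 * (τ + 1)) • ε := by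
  have h1 : ε * col τ ε p1 p3 I J w_g0 = ev τ ε I J w_g0.y := by
    unfold col
    rw [mul_add, mul_add, ← mul_assoc, ← mul_assoc, H.ep1, H.ep3, H.e_ev, zero_mul, zero_mul, zero_add, add_zero]
  have h2 : row τ ε q1 q3 I J w_g0 * ε = ev τ ε I J w_g0.y.conj := by
    unfold row
    rw [add_mul, add_mul, mul_assoc, mul_assoc, H.q1e, H.q3e, H.ev_e, mul_zero, mul_zero, zero_add, add_zero]
  rw [← mul_assoc, h1, mul_assoc, h2, H.ev_mul hτ, yy_g0]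
  unfold ev quad
  simp only [Int.cast_ofNat, Int.cast_zero, zero_mul, add_zero, zero_smul]
  congr 1
  ring

omit h144 in
theorem Fr.row_eps_col : row τ ε q1 q3 I J w_g0 * ε * col τ ε p1 p3 I J w_g0 = (36 * (τ + 1)) • ε := by
  have h1 : ε * col τ ε p1 p3 I J w_g0 = ev τ ε I J w_g0.y := by
    unfold col
    rw [mul_add, mul_add, ← mul_assoc, ← mul_assoc, H.ep1, H.ep3, H.e_ev, zero_mul, zero_mul, zero_add, add_zero]
  have h2 : row τ ε q1 q3 I J w_g0 * ε = ev τ ε I J w_g0.y.conj := by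
    unfold row
    rw [add_mul, add_mul, mul_assoc, mul_assoc, H.q1e, H.q3e, H.ev_e, mul_zero, mul_zero, zero_add, add_zero]
  have h3 : row τ ε q1 q3 I J w_g0 * ε * col τ ε p1 p3 I J w_g0 =
      row τ ε q1 q3 I J w_g0 * ε * (ε * col τ ε p1 p3 I J w_g0) := by
    rw [mul_assoc, mul_assoc, ← mul_assoc ε ε, H.ee]
  rw [h3, h1, h2, H.ev_mul hτ, yy_g0']
  unfold ev quad
  simp only [Int.cast_ofNat, Int.cast_zero, zero_mul, add_zero, zero_smul]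
  congr 1
  ring

theorem Fr.four_a : (4 : F) • (ε * e0 τ ε p1 p3 q1 q3 I J * ε) = (τ + 1) • ε := by
  unfold e0
  rw [mul_smul_comm, smul_mul_assoc, H.eps_e0 hτ, smul_smul, smul_smul]
  congr 1
  field_simp
  ring

theorem Fr.four_b : (4 : F) • (e0 τ ε p1 p3 q1 q3 I J * ε * e0 τ ε p1 p3 q1 q3 I J) =
    (τ + 1) • e0 τ ε p1 p3 q1 q3 I J := by
  have h1 : col τ ε p1 p3 I J w_g0 * row τ ε q1 q3 I J w_g0 * ε * (col τ ε p1 p3 I J w_g0 * row τ ε q1 q3 I J w_g0) =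
      (36 * (τ + 1)) • (col τ ε p1 p3 I J w_g0 * row τ ε q1 q3 I J w_g0) := by
    have h2 : col τ ε p1 p3 I J w_g0 * row τ ε q1 q3 I J w_g0 * ε * (col τ ε p1 p3 I J w_g0 * row τ ε q1 q3 I J w_g0) =
        col τ ε p1 p3 I J w_g0 * (row τ ε q1 q3 I J w_g0 * ε * col τ ε p1 p3 I J w_g0) * row τ ε q1 q3 I J w_g0 := by
      simp only [mul_assoc]
    rw [h2, H.row_eps_col hτ, mul_smul_comm, H.col_e, smul_mul_assoc]
  unfold e0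
  rw [smul_mul_assoc, smul_mul_smul_comm, h1, smul_smul, smul_smul, smul_smul]
  congr 1
  field_simp
  ring

/-- the product of the extra reflection and `r2` has order five -/
theorem Fr.pow_five : ((1 - 2 * e0 τ ε p1 p3 q1 q3 I J) * (1 - 2 * ε)) ^ 5 = 1 :=
  five hτ (H.e0_sq hτ h144) H.ee (H.four_b hτ h144) (H.four_a hτ h144)

theorem Fr.e0_ne (hε : ε ≠ 0) : e0 τ ε p1 p3 q1 q3 I J ≠ ε := by
  intro h
  have h1 : q1 * col τ ε p1 p3 I J w_g0 = (6 : F) • ε := by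
    unfold col
    rw [mul_add, mul_add, ← mul_assoc, ← mul_assoc, H.q11, H.q13, H.q1_ev, zero_mul, add_zero, add_zero, H.e_ev]
    unfold w_g0
    simp only [ev_int, Int.cast_ofNat]
  have h2 : row τ ε q1 q3 I J w_g0 * p1 = (6 : F) • ε := by
    unfold row
    rw [add_mul, add_mul, mul_assoc, mul_assoc, H.q11, H.q31, H.ev_p1, mul_zero, add_zero, add_zero, H.ev_e]
    unfold w_g0
    simp only [conj_mk, neg_zero, ev_int, Int.cast_ofNat]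
  have h3 : q1 * (col τ ε p1 p3 I J w_g0 * row τ ε q1 q3 I J w_g0) * p1 = (36 : F) • ε := by
    rw [← mul_assoc, h1, mul_assoc, h2, smul_mul_smul_comm, H.ee]
    norm_num
  rw [← e0_eq h144, h, mul_smul_comm, H.q1e, smul_zero, zero_mul] at h3
  have h36 : (36 : F) ≠ 0 := by
    intro h0
    apply h144
    linear_combination 4 * h0
  exact (smul_ne_zero h36 hε) h3.symm

end Cfsg.Agent.H476.JTwo
end

-- part: H476/JTwo/GD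
section
/-!
# The idempotents of a representation (helper476, for S5806)
-/

set_option autoImplicit false
set_option linter.unusedSectionVars false

namespace Cfsg.Agent.H476.JTwo

open Cfsg Cfsg.Geo Matrix Module

universe u v

/-- the relations between the reflections of `SU₃(3)` -/
structure GD (G : Type v) [Group G] where
  g1 : G
  g2 : G
  g3 : G
  g4 : G
  g5 : G
  g6 : G
  g8 : G
  gA : G
  gB : G
  sq1 : g1 * g1 = 1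
  sq2 : g2 * g2 = 1
  sq3 : g3 * g3 = 1
  sq4 : g4 * g4 = 1
  sq5 : g5 * g5 = 1
  sq6 : g6 * g6 = 1
  sq8 : g8 * g8 = 1
  ne1 : g1 ≠ 1
  ne2 : g2 ≠ 1
  ne3 : g3 ≠ 1
  ne4 : g4 ≠ 1
  ne5 : g5 ≠ 1
  ne6 : g6 ≠ 1
  ne8 : g8 ≠ 1
  sqA : gA * gA = g1
  sqB : gB * gB = g2
  cAB : gA * gB = gB * gA
  p12 : g1 * g2 = g3
  c12 : g1 * g2 = g2 * g1
  c14 : g1 * g4 = g4 * g1
  c35 : g3 * g5 = g5 * g3
  c18 : g1 * g8 = g8 * g1
  c3436 : g3 * g4 * g3 * g6 = g6 * (g3 * g4 * g3)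
  k12 : g5 * g1 * g5 = g2
  k23 : g4 * g2 * g4 = g3
  o24 : (g2 * g4) ^ 4 = 1
  o34 : (g3 * g4) ^ 4 = 1
  o25 : (g2 * g5) ^ 4 = 1
  o15 : (g1 * g5) ^ 4 = 1
  o28 : (g2 * g8) ^ 4 = 1
  o38 : (g3 * g8) ^ 4 = 1
  o48 : (g4 * g8) ^ 4 = 1
  o16 : (g1 * g6) ^ 4 = 1
  o56 : (g5 * g6) ^ 4 = 1
  m24 : (g2 * g4) ^ 2 ≠ 1
  m34 : (g3 * g4) ^ 2 ≠ 1
  m25 : (g2 * g5) ^ 2 ≠ 1
  m15 : (g1 * g5) ^ 2 ≠ 1
  m28 : (g2 * g8) ^ 2 ≠ 1
  m38 : (g3 * g8) ^ 2 ≠ 1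
  m48 : (g4 * g8) ^ 2 ≠ 1
  m16 : (g1 * g6) ^ 2 ≠ 1
  m56 : (g5 * g6) ^ 2 ≠ 1
  o26 : (g2 * g6) ^ 3 = 1
  o68 : (g6 * g8) ^ 3 = 1
  o85 : (g8 * g5) ^ 3 = 1
  o54 : (g5 * g4) ^ 3 = 1
  o96 : (g8 * g3 * g4 * g5 * g4 * g3 * g8 * g6) ^ 3 = 1
  n12 : g1 ≠ g2
  n14 : g1 ≠ g4
  n35 : g3 ≠ g5
  n18 : g1 ≠ g8
  n3436 : g3 * g4 * g3 ≠ g6
  n26 : g2 ≠ g6
  n96 : g8 * g3 * g4 * g5 * g4 * g3 * g8 ≠ g6

variable {F : Type u} [Field F] {G : Type v} [Group G] {P : Subgroup (GL (Fin 3 ⊕ Fin 3) F)} {θ : P →* G}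

/-- all lifts of `x` have square `c` -/
def Sq (θ : P →* G) (c : GL (Fin 3 ⊕ Fin 3) F) (x : G) : Prop := ∀ a, Lf θ a x → a * a = c

namespace RH

variable (S : RH P θ)
include S

theorem sq_cases {x : G} (hx : x * x = 1) : Sq θ 1 x ∨ Sq θ (-1) x := by
  obtain ⟨a, ha⟩ := S.exists_lf x
  have h1 := ha.mul ha
  rw [hx] at h1
  have key : ∀ c : GL (Fin 3 ⊕ Fin 3) F, a * a = c → Sq θ c x := by
    intro c hc b hb
    rcases S.lf_uniq ha hb with h | h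
    · rw [h, hc]
    · rw [h, neg_mul_neg, hc]
  rcases S.lf_one h1 with h | h
  · exact Or.inl (key _ h)
  · exact Or.inr (key _ h)

theorem sq_conj {x : G} {c : GL (Fin 3 ⊕ Fin 3) F} (hc : c = 1 ∨ c = -1) (h : Sq θ c x) (y : G) :
    Sq θ c (y * x * y⁻¹) := by
  intro a ha
  obtain ⟨b, hb⟩ := S.exists_lf y
  have h1 := ha.conj hb.inv
  have h2 : y⁻¹ * (y * x * y⁻¹) * y⁻¹⁻¹ = x := by group
  rw [h2] at h1
  have h3 := h _ h1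
  have h4 : a * a = b * (b⁻¹ * a * b⁻¹⁻¹ * (b⁻¹ * a * b⁻¹⁻¹)) * b⁻¹ := by group
  rw [h4, h3]
  rcases hc with rfl | rfl
  · rw [mul_one, mul_inv_cancel]
  · rw [mul_neg, mul_one, neg_mul, mul_inv_cancel]

omit S in
theorem conj3 {x y : G} (hx : x * x = 1) (hy : y * y = 1) (h : (x * y) ^ 3 = 1) : x * y * x * (x * y)⁻¹ = y := by
  rw [mul_inv_eq_iff_eq_mul]
  have h1 : x * y * x * y * x * y = 1 := by
    rw [← h]
    simp only [pow_succ, pow_zero, one_mul, mul_assoc]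
  calc x * y * x = x * y * x * (y * x * y * (y * x * y)) := by
        have : y * x * y * (y * x * y) = 1 := by
          calc y * x * y * (y * x * y) = y * x * (y * y) * x * y := by group
            _ = y * (x * x) * y := by rw [hy]; group
            _ = 1 := by rw [hx, mul_one, hy]
        rw [this, mul_one]
    _ = x * y * x * y * x * y * (y * x * y) := by group
    _ = y * (x * y) := by rw [h1, one_mul, mul_assoc]

theorem sq_g1 (D : GD G) : Sq θ 1 D.g1 := by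
  rcases S.sq_cases D.sq1 with h | h
  · exact h
  · exfalso
    have i5 : D.g5⁻¹ = D.g5 := inv_eq_of_mul_eq_one_left D.sq5
    have i4 : D.g4⁻¹ = D.g4 := inv_eq_of_mul_eq_one_left D.sq4
    have h2 := S.sq_conj (Or.inr rfl) h D.g5
    rw [i5, D.k12] at h2
    have h3 := S.sq_conj (Or.inr rfl) h2 D.g4
    rw [i4, D.k23] at h3
    obtain ⟨t, ht⟩ := S.exists_lf D.gA
    obtain ⟨u, hu⟩ := S.exists_lf D.gB
    have s1 := ht.mul ht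
    rw [D.sqA] at s1
    have s2 := hu.mul hu
    rw [D.sqB] at s2
    have s3 := s1.mul s2
    rw [D.p12] at s3
    have q1 := h _ s1
    have q2 := h2 _ s2
    have q3 := h3 _ s3
    have hc : u * u * (t * t) = t * t * (u * u) := by
      have h4 := hu.mul ht
      rw [← D.cAB] at h4
      have h5 := S.lf_uniq (ht.mul hu) h4
      have h6 : u * (t * t) = t * t * u := by
        rcases h5 with h5 | h5
        · rw [← mul_assoc, h5, mul_assoc, h5, ← mul_assoc]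
        · rw [← mul_assoc, h5, neg_mul, mul_assoc, h5, mul_neg, neg_neg, ← mul_assoc]
      rw [mul_assoc u u, h6, ← mul_assoc u, h6, mul_assoc (t * t)]
    have h7 : t * t * (u * u) * (t * t * (u * u)) = (t * t * (t * t)) * (u * u * (u * u)) := by
      calc t * t * (u * u) * (t * t * (u * u)) = t * t * (u * u * (t * t)) * (u * u) := by group
        _ = _ := by rw [hc]; group
    rw [q3, q1, q2, neg_mul_neg, one_mul] at h7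
    exact S.one_ne h7.symm

theorem sq_all (D : GD G) : (Sq θ 1 D.g2 ∧ Sq θ 1 D.g3) ∧ (Sq θ 1 D.g4 ∧ Sq θ 1 D.g5) ∧ (Sq θ 1 D.g6 ∧ Sq θ 1 D.g8) := by
  have h1 := S.sq_g1 D
  have i5 : D.g5⁻¹ = D.g5 := inv_eq_of_mul_eq_one_left D.sq5
  have i4 : D.g4⁻¹ = D.g4 := inv_eq_of_mul_eq_one_left D.sq4
  have h2 := S.sq_conj (Or.inl rfl) h1 D.g5
  rw [i5, D.k12] at h2
  have h3 := S.sq_conj (Or.inl rfl) h2 D.g4
  rw [i4, D.k23] at h3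
  have h6 := S.sq_conj (Or.inl rfl) h2 (D.g2 * D.g6)
  rw [conj3 D.sq2 D.sq6 D.o26] at h6
  have h8 := S.sq_conj (Or.inl rfl) h6 (D.g6 * D.g8)
  rw [conj3 D.sq6 D.sq8 D.o68] at h8
  have h5 := S.sq_conj (Or.inl rfl) h8 (D.g8 * D.g5)
  rw [conj3 D.sq8 D.sq5 D.o85] at h5
  have h4 := S.sq_conj (Or.inl rfl) h5 (D.g5 * D.g4)
  rw [conj3 D.sq5 D.sq4 D.o54] at h4
  exact ⟨⟨h2, h3⟩, ⟨h4, h5⟩, h6, h8⟩

theorem ex_isR {x : G} (h : Sq θ 1 x) (hx : x ≠ 1) : ∃ e, IsR θ e x := by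
  obtain ⟨a, ha⟩ := S.exists_lf x
  exact S.exR ha (h a ha) hx

omit S in
theorem isR_inv {x : G} {e : M6 F} (h : IsR θ e x) (_ : x * x = 1) (S : RH P θ) :
    ∃ a, Lf θ a x ∧ (a : M6 F) = rr e ∧ ((a⁻¹ : GL (Fin 3 ⊕ Fin 3) F) : M6 F) = rr e ∧ a ∈ spGL 3 F := by
  obtain ⟨he, a, ha, hae⟩ := h
  refine ⟨a, ha, hae, ?_, S.lf_sp ha⟩
  have h1 : a * a = 1 := Units.ext (by rw [Units.val_mul, hae, he.rr_rr, Units.val_one])
  rw [inv_eq_of_mul_eq_one_left h1, hae]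

/-- the idempotents -/
theorem exists_rels (D : GD G) : ∃ e1 e2 e3 e4 e5 e6 e8 : M6 F, (IsR θ e1 D.g1 ∧ IsR θ e2 D.g2 ∧ IsR θ e3 D.g3) ∧
    (IsR θ e4 D.g4 ∧ IsR θ e5 D.g5) ∧ (IsR θ e6 D.g6 ∧ IsR θ e8 D.g8) ∧ Rels sa e1 e2 e3 e4 e5 e6 e8 := by
  obtain ⟨⟨q2, q3⟩, ⟨q4, q5⟩, q6, q8⟩ := S.sq_all D
  obtain ⟨e1, r1⟩ := S.ex_isR (S.sq_g1 D) D.ne1
  obtain ⟨e2, r2⟩ := S.ex_isR q2 D.ne2
  obtain ⟨e3, r3⟩ := S.ex_isR q3 D.ne3
  obtain ⟨e4, r4⟩ := S.ex_isR q4 D.ne4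
  obtain ⟨e5, r5⟩ := S.ex_isR q5 D.ne5
  obtain ⟨e6, r6⟩ := S.ex_isR q6 D.ne6
  obtain ⟨e8, r8⟩ := S.ex_isR q8 D.ne8
  refine ⟨e1, e2, e3, e4, e5, e6, e8, ⟨r1, r2, r3⟩, ⟨r4, r5⟩, ⟨r6, r8⟩, ?_⟩
  have z12 := S.p2 r1 r2 D.c12 D.sq1 D.sq2 D.n12
  have z21 := r2.1.st_mul_zero r1.1 |> fun h => r1.1.st_mul_zero r2.1 z12
  have hsum : e1 + e2 + e3 = 1 := by
    obtain ⟨a1, l1, m1, -, -⟩ := isR_inv r1 D.sq1 S
    obtain ⟨a2, l2, m2, -, -⟩ := isR_inv r2 D.sq2 S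
    obtain ⟨a3, l3, m3, -, -⟩ := isR_inv r3 D.sq3 S
    have h1 := l1.mul l2
    rw [D.p12] at h1
    rcases S.lf_uniq h1 l3 with h2 | h2
    · exfalso
      have h3 : rr e3 = rr e1 * rr e2 := by rw [← m1, ← m2, ← m3, h2, Units.val_mul]
      have h4 : e3 = e1 + e2 := by
        apply smul_right_injective _ S.h2
        simp only
        rw [← two_mul_eq, ← two_mul_eq]
        unfold rr at h3
        linear_combination (norm := noncomm_ring) -h3 - 4 * z12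
      obtain ⟨c, hc⟩ := r3.1.scalar S.h2 r1.1.adj
      have h5 : e3 * e1 * e3 = e1 := by
        rw [h4]
        linear_combination (norm := noncomm_ring) r1.1.idem * e1 + r1.1.idem + r1.1.idem * e2 + z12 + z21 * e1 + z21 * e2
      rw [h5] at hc
      have h6 : e2 = (1 - c) • e3 := by
        rw [sub_smul, one_smul, ← hc, h4]
        abel
      have h7 : (c * (1 - c)) • e3 = 0 := by
        rw [← r3.1.idem, ← smul_mul_smul_comm, ← hc, ← h6, z12]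
      rcases smul_eq_zero.1 h7 with h8 | h8
      · rcases mul_eq_zero.1 h8 with h9 | h9
        · rw [h9, zero_smul] at hc
          exact r1.1.ne_zero hc
        · rw [h9, zero_smul] at h6
          exact r2.1.ne_zero h6
      · exact r3.1.ne_zero h8
    · have h3 : rr e3 = -(rr e1 * rr e2) := by rw [← m1, ← m2, ← m3, h2, Units.val_neg, Units.val_mul]
      apply smul_right_injective _ S.h2
      simp only
      rw [← two_mul_eq, ← two_mul_eq]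
      unfold rr at h3
      linear_combination (norm := noncomm_ring) -h3 + 4 * z12
  obtain ⟨h24, h42⟩ := S.p4' r2 r4 D.o24 D.m24
  obtain ⟨h34, h43⟩ := S.p4' r3 r4 D.o34 D.m34
  obtain ⟨h25, h52⟩ := S.p4' r2 r5 D.o25 D.m25
  obtain ⟨h15, h51⟩ := S.p4' r1 r5 D.o15 D.m15
  obtain ⟨h28, -⟩ := S.p4' r2 r8 D.o28 D.m28
  obtain ⟨h38, h83⟩ := S.p4' r3 r8 D.o38 D.m38
  have h48 := S.p4 r4 r8 D.o48 D.m48
  have h16 := S.p4 r1 r6 D.o16 D.m16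
  have h56 := S.p4 r5 r6 D.o56 D.m56
  have h26 := S.p3 r2 r6 D.o26 D.n26
  obtain ⟨a3, l3, m3, n3, -⟩ := isR_inv r3 D.sq3 S
  obtain ⟨a4, l4, m4, n4, -⟩ := isR_inv r4 D.sq4 S
  obtain ⟨a8, l8, m8, n8, -⟩ := isR_inv r8 D.sq8 S
  have i3 : D.g3⁻¹ = D.g3 := inv_eq_of_mul_eq_one_left D.sq3
  have i4 : D.g4⁻¹ = D.g4 := inv_eq_of_mul_eq_one_left D.sq4
  have i8 : D.g8⁻¹ = D.g8 := inv_eq_of_mul_eq_one_left D.sq8
  have r343 := S.isR_conj r4 l3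
  rw [m3, n3, i3] at r343
  have z64 : e6 * (rr e3 * e4 * rr e3) = 0 := by
    refine S.p2 r6 r343 D.c3436.symm D.sq6 ?_ D.n3436.symm
    calc D.g3 * D.g4 * D.g3 * (D.g3 * D.g4 * D.g3) = D.g3 * D.g4 * (D.g3 * D.g3) * D.g4 * D.g3 := by group
      _ = D.g3 * (D.g4 * D.g4) * D.g3 := by rw [D.sq3]; group
      _ = 1 := by rw [D.sq4, mul_one, D.sq3]
  have r9 := S.isR_conj (S.isR_conj (S.isR_conj r5 l4) l3) l8
  rw [m3, n3, m4, n4, m8, n8, i3, i4, i8] at r9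
  have h96 := S.p3 r9 r6 (by rw [← D.o96]; congr 1; group) (fun h => D.n96 (by rw [← h]; group))
  refine ⟨?_, adj_sa, r1.1.idem, r2.1.idem, r3.1.idem, r4.1.idem, r5.1.idem, r6.1.idem, r8.1.idem, r1.1.adj, r2.1.adj,
    r3.1.adj, r4.1.adj, r5.1.adj, r6.1.adj, r8.1.adj, hsum, z12, S.p2 r1 r4 D.c14 D.sq1 D.sq4 D.n14,
    S.p2 r3 r5 D.c35 D.sq3 D.sq5 D.n35, S.p2 r1 r8 D.c18 D.sq1 D.sq8 D.n18, h24, h42, h34, h43, h25, h52, h15, h51, h28,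
    h38, h83, h48, h16, h56, h26, z64, ?_⟩
  · intro x y h
    rw [two_mul_eq, two_mul_eq] at h
    exact smul_right_injective _ S.h2 h
  · unfold rr at h96
    simp only [← mul_assoc] at h96 ⊢
    exact h96

end RH

end Cfsg.Agent.H476.JTwo
end

-- part: H476/JTwo/Tps
section
/-!
# The group of the root lines (helper476, for S5806)
-/

set_option autoImplicit false
set_option linter.unusedSectionVars false

namespace Cfsg.Agent.H476.JTwo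

open Cfsg Cfsg.Geo Matrix Module

universe u v

variable {F : Type u} [Field F] {e1 e2 e3 e4 e5 e6 e8 : M6 F} (H : Rels sa e1 e2 e3 e4 e5 e6 e8) {τ : F}
  (hτ : τ * τ = τ + 1) (h2 : (2 : F) ≠ 0) (h3 : (3 : F) ≠ 0)

/-- `i` -/
def rI (e2 e3 e4 e8 : M6 F) : M6 F := qI e2 (fp3 e2 e3 e4) e8
/-- `j` -/
def rJ (e1 e2 e3 e4 e5 e6 e8 : M6 F) : M6 F := qJ e2 (rI e2 e3 e4 e8) (qX e2 (fq1 e1 e2 e5) e6)

theorem h12 (h2 : (2 : F) ≠ 0) (h3 : (3 : F) ≠ 0) : (12 : F) ≠ 0 := by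
  have : (12 : F) = 2 * 2 * 3 := by norm_num
  rw [this]
  exact mul_ne_zero (mul_ne_zero h2 h2) h3

theorem h144 (h2 : (2 : F) ≠ 0) (h3 : (3 : F) ≠ 0) : (144 : F) ≠ 0 := by
  have : (144 : F) = 12 * 12 := by norm_num
  rw [this]
  exact mul_ne_zero (h12 h2 h3) (h12 h2 h3)

/-- the predicate of the group -/
def TpR (τ : F) (e1 e2 e3 e4 e5 e6 e8 g : M6 F) : Prop :=
  Tp τ e2 (fp1 e1 e2 e5) (fp3 e2 e3 e4) (rI e2 e3 e4 e8) (rJ e1 e2 e3 e4 e5 e6 e8) g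

include H

theorem Rels.fr : Fr sa e2 (fp1 e1 e2 e5) (fp3 e2 e3 e4) (fq1 e1 e2 e5) (fq3 e2 e3 e4) (rI e2 e3 e4 e8)
    (rJ e1 e2 e3 e4 e5 e6 e8) := H.frm.fr H.h9

include hτ h2 h3

theorem Rels.t1 : TpR τ e1 e2 e3 e4 e5 e6 e8 (rr e1) := by
  refine H.fr.tp hτ good_g1 ?_ (by rw [Nat.cast_one]; exact one_ne_zero) (h12 h2 h3)
  rw [H.fr.col_g1, H.fr.row_g1, Nat.cast_one, one_smul]
  exact H.e1_eq

theorem Rels.t2 : TpR τ e1 e2 e3 e4 e5 e6 e8 (rr e2) := by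
  refine H.fr.tp hτ good_g2 ?_ (by rw [Nat.cast_one]; exact one_ne_zero) (h12 h2 h3)
  rw [H.fr.col_g2, H.fr.row_g2, Nat.cast_one, one_smul]
  exact H.i2.symm

theorem Rels.t4 : TpR τ e1 e2 e3 e4 e5 e6 e8 (rr e4) := by
  refine H.fr.tp hτ good_g4 ?_ (by rw [Nat.cast_ofNat]; exact h2) (h12 h2 h3)
  rw [H.fr.col_g4, H.fr.row_g4, Nat.cast_ofNat, ← two_mul_eq]
  exact H.e4_eq

theorem Rels.t5 : TpR τ e1 e2 e3 e4 e5 e6 e8 (rr e5) := by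
  refine H.fr.tp hτ good_g5 ?_ (by rw [Nat.cast_ofNat]; exact h2) (h12 h2 h3)
  rw [H.fr.col_g5, H.fr.row_g5, Nat.cast_ofNat, ← two_mul_eq]
  exact H.e5_eq

theorem Rels.t8 : TpR τ e1 e2 e3 e4 e5 e6 e8 (rr e8) := by
  refine H.fr.tp hτ good_g8 ?_ (by rw [Nat.cast_ofNat]; exact h2) (h12 h2 h3)
  rw [H.fr.col_g8, H.fr.row_g8, Nat.cast_ofNat, ← two_mul_eq]
  exact H.frm.form8

theorem Rels.t6 : TpR τ e1 e2 e3 e4 e5 e6 e8 (rr e6) := by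
  refine H.fr.tp hτ good_g6 ?_ ?_ (h12 h2 h3)
  · have hX := H.frm.twoX H.h9
    have h6 := H.frm.form6
    have eJ := H.fr.eJ
    have Ie := H.fr.Ie
    rw [H.fr.col_g6, H.fr.row_g6]
    have h16 : (((16 : ℕ) : F) • e6) = 16 * e6 := by
      rw [Nat.cast_ofNat, ofNat_smul_eq_nsmul, nsmul_eq_mul]; rfl
    rw [h16]
    change 2 * qX e2 (fq1 e1 e2 e5) e6 = (e2 + rI e2 e3 e4 e8) * (e2 + rJ e1 e2 e3 e4 e5 e6 e8) at hX
    have hc : e2 + rI e2 e3 e4 e8 + rJ e1 e2 e3 e4 e5 e6 e8 + rI e2 e3 e4 e8 * rJ e1 e2 e3 e4 e5 e6 e8 =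
        2 * qX e2 (fq1 e1 e2 e5) e6 := by
      linear_combination (norm := noncomm_ring) -hX - H.i2 - eJ - Ie
    have hc' : e2 - rI e2 e3 e4 e8 - rJ e1 e2 e3 e4 e5 e6 e8 - rI e2 e3 e4 e8 * rJ e1 e2 e3 e4 e5 e6 e8 =
        2 * (e2 - qX e2 (fq1 e1 e2 e5) e6) := by
      linear_combination (norm := noncomm_ring) -hc
    rw [hc, hc']
    linear_combination (norm := noncomm_ring) 4 * h6
  · have : ((16 : ℕ) : F) = 2 * 2 * (2 * 2) := by norm_num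
    rw [this]
    exact mul_ne_zero (mul_ne_zero h2 h2) (mul_ne_zero h2 h2)

omit H hτ h2 h3 in
/-- the idempotent of the extra reflection -/
def ex0 (τ : F) (e1 e2 e3 e4 e5 e6 e8 : M6 F) : M6 F :=
  e0 τ e2 (fp1 e1 e2 e5) (fp3 e2 e3 e4) (fq1 e1 e2 e5) (fq3 e2 e3 e4) (rI e2 e3 e4 e8) (rJ e1 e2 e3 e4 e5 e6 e8)

theorem Rels.t0 : TpR τ e1 e2 e3 e4 e5 e6 e8 (rr (ex0 τ e1 e2 e3 e4 e5 e6 e8)) := by
  refine H.fr.tp hτ good_g0 (e0_eq (h144 h2 h3)) (by rw [Nat.cast_ofNat]; exact h144 h2 h3) (h12 h2 h3)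

theorem Rels.ex0_sq : ex0 τ e1 e2 e3 e4 e5 e6 e8 * ex0 τ e1 e2 e3 e4 e5 e6 e8 = ex0 τ e1 e2 e3 e4 e5 e6 e8 :=
  H.fr.e0_sq hτ (h144 h2 h3)

theorem Rels.ex0_five : (rr (ex0 τ e1 e2 e3 e4 e5 e6 e8) * rr e2) ^ 5 = 1 := H.fr.pow_five hτ (h144 h2 h3)

theorem Rels.ex0_ne (h : e2 ≠ 0) : ex0 τ e1 e2 e3 e4 e5 e6 e8 ≠ e2 := H.fr.e0_ne hτ (h144 h2 h3) h

omit hτ h2 h3 in
theorem Rels.ex0_adj (τ : F) : sa (ex0 τ e1 e2 e3 e4 e5 e6 e8) = ex0 τ e1 e2 e3 e4 e5 e6 e8 := H.fr.st_e0 sa_smul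

omit H hτ h2 h3 in
/-- the unit of a reflection -/
def mkR (e : M6 F) (h : e * e = e) : GL (Fin 3 ⊕ Fin 3) F :=
  ⟨rr e, rr e, by unfold rr; linear_combination (norm := noncomm_ring) 4 * h,
    by unfold rr; linear_combination (norm := noncomm_ring) 4 * h⟩

omit H hτ h2 h3 in
theorem mkR_sp {e : M6 F} (h : e * e = e) (hs : sa e = e) : mkR e h ∈ spGL 3 F := by
  apply mem_sp_of_sa
  change sa (rr e) * rr e = 1
  unfold rr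
  rw [adj_sa.sub, adj_sa.one, adj_sa.mul, hs, adj_sa.two]
  linear_combination (norm := noncomm_ring) 4 * h

omit H hτ h2 h3 in
/-- the group of the root lines -/
def LL (τ : F) (e1 e2 e3 e4 e5 e6 e8 : M6 F) : Subgroup (GL (Fin 3 ⊕ Fin 3) F) where
  carrier := {g | g ∈ spGL 3 F ∧ TpR τ e1 e2 e3 e4 e5 e6 e8 (g : M6 F) ∧
    TpR τ e1 e2 e3 e4 e5 e6 e8 ((g⁻¹ : GL (Fin 3 ⊕ Fin 3) F) : M6 F)}
  one_mem' := ⟨one_mem _, Tp.one _ _ _ _ _ _, by rw [inv_one]; exact Tp.one _ _ _ _ _ _⟩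
  mul_mem' := by
    rintro a b ⟨ha, ha', ha''⟩ ⟨hb, hb', hb''⟩
    refine ⟨mul_mem ha hb, ?_, ?_⟩
    · rw [Units.val_mul]; exact ha'.mul hb'
    · rw [_root_.mul_inv_rev, Units.val_mul]; exact hb''.mul ha''
  inv_mem' := by
    rintro a ⟨ha, ha', ha''⟩
    exact ⟨inv_mem ha, ha'', by rw [inv_inv]; exact ha'⟩

omit H hτ h2 h3 in
theorem LL_le : LL τ e1 e2 e3 e4 e5 e6 e8 ≤ spGL 3 F := fun _ h => h.1

omit H hτ h2 h3 in
theorem neg_one_LL : (-1 : GL (Fin 3 ⊕ Fin 3) F) ∈ LL τ e1 e2 e3 e4 e5 e6 e8 := by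
  have h : ((-1 : GL (Fin 3 ⊕ Fin 3) F))⁻¹ = -1 := by rw [inv_neg, inv_one]
  refine ⟨H914.S6.neg_one_mem, ?_, ?_⟩
  · rw [Units.val_neg, Units.val_one]; exact Tp.neg_one _ _ _ _ _ _
  · rw [h, Units.val_neg, Units.val_one]; exact Tp.neg_one _ _ _ _ _ _

omit H hτ h2 h3 in
theorem mem_LL {a : GL (Fin 3 ⊕ Fin 3) F} {e : M6 F} (ha : (a : M6 F) = rr e)
    (ha' : ((a⁻¹ : GL (Fin 3 ⊕ Fin 3) F) : M6 F) = rr e) (hs : a ∈ spGL 3 F)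
    (h : TpR τ e1 e2 e3 e4 e5 e6 e8 (rr e)) : a ∈ LL τ e1 e2 e3 e4 e5 e6 e8 :=
  ⟨hs, by rw [ha]; exact h, by rw [ha']; exact h⟩

theorem Rels.ex0_mem : mkR (ex0 τ e1 e2 e3 e4 e5 e6 e8) (H.ex0_sq hτ h2 h3) ∈ LL τ e1 e2 e3 e4 e5 e6 e8 :=
  mem_LL rfl rfl (mkR_sp _ (H.ex0_adj τ)) (H.t0 hτ h2 h3)

end Cfsg.Agent.H476.JTwo
end

private theorem dce_a652d9ed209f : _root_.True := by
  try have : _root_.True := by simp only [_root_.Cfsg.Agent.H476.JTwo.T.get.eq_def]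
  try have : _root_.True := by simp only [_root_.Cfsg.Agent.H476.JTwo.Q.smul.eq_1]
  try have : _root_.True := by simp only [_root_.Cfsg.Agent.H476.JTwo.Q.mul.eq_1]
  try have : _root_.True := by simp only [_root_.Cfsg.Agent.H476.JTwo.T.toL.eq_def]
  try have : _root_.True := by simp only [_root_.Cfsg.Agent.H476.JTwo.bdB.eq_def]
  try have : _root_.True := by simp only [_root_.Cfsg.Agent.H476.JTwo.Q.sub.eq_1]
  try have : _root_.True := by simp only [_root_.Cfsg.Agent.H476.JTwo.R.conj.eq_1]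
  try have : _root_.True := by simp only [_root_.Cfsg.Agent.H476.JTwo.Q.p0.eq_1]
  try have : _root_.True := by simp only [_root_.Cfsg.Agent.H476.JTwo.Q.add.eq_1]
  try have : _root_.True := by simp only [_root_.Cfsg.Agent.H476.JTwo.R.mul.eq_1]
  try have : _root_.True := by simp only [_root_.Cfsg.Agent.H476.JTwo.Q.p1.eq_1]
  try have : _root_.True := by simp only [_root_.Cfsg.Agent.H476.JTwo.R.msub.eq_1]
  try have : _root_.True := by simp only [_root_.Cfsg.Agent.H476.JTwo.Q.conj.eq_1]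
  try have : _root_.True := by simp only [_root_.Cfsg.Agent.H476.JTwo.R.sum2.eq_1]
  try have : _root_.True := by simp only [_root_.Cfsg.Agent.H476.JTwo.chkT.eq_def]
  exact _root_.True.intro
end

-- part: H914/SixA5b_mg
section
prune_inst 0x40010000000000000004000044282000000000000000000000004c0040000000820b00000020020000400300008110000000200000000000000011800800000000000000000000010000080000000000000000000000000000000010000000000000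
set_option linter.all false
open scoped Cfsg.Agent.FastGrp

-- part: H914/SixInter
section
/-!
# Intertwiners from traces (helper914)

* `exists_intertwiner` : `∑ g, tr ρ₂(g⁻¹) tr ρ₁(g) ≠ 0` gives `M ≠ 0` with `M ρ₁(g) = ρ₂(g) M`
* `exists_conj` : if `ρ₁` is irreducible then `ρ₂(g) = B ρ₁(g) B⁻¹`
-/

set_option autoImplicit false
set_option linter.unusedSectionVars false

namespace Cfsg.Agent.H914.S6

open Cfsg Cfsg.Geo Matrix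

variable {G : Type*} [Group G] [Fintype G] {F : Type*} [Field F] {ι : Type} [Fintype ι] [DecidableEq ι]

theorem exists_intertwiner (ρ₁ ρ₂ : G →* Matrix ι ι F) (h : ∑ g : G, (ρ₂ g⁻¹).trace * (ρ₁ g).trace ≠ 0) :
    ∃ M : Matrix ι ι F, M ≠ 0 ∧ ∀ g, M * ρ₁ g = ρ₂ g * M := by
  classical
  -- `M_{ij} = ∑ g, ρ₂(g⁻¹) E_{ij} ρ₁(g)`
  let M : ι → ι → Matrix ι ι F := fun i j => ∑ g : G, ρ₂ g⁻¹ * Matrix.single i j 1 * ρ₁ g
  have hM : ∀ i j g, M i j * ρ₁ g = ρ₂ g * M i j := by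
    intro i j g
    simp only [M, Finset.sum_mul, Finset.mul_sum]
    refine Fintype.sum_equiv (Equiv.mulRight g) _ _ fun x => ?_
    simp only [Equiv.coe_mulRight]
    have h1 : ρ₂ g * ρ₂ g⁻¹ = 1 := by rw [← map_mul, mul_inv_cancel, map_one]
    rw [_root_.mul_inv_rev, map_mul, map_mul]
    simp only [Matrix.mul_assoc]
    rw [← Matrix.mul_assoc (ρ₂ g) (ρ₂ g⁻¹), h1, Matrix.one_mul]
  by_contra hcon
  push Not at hcon
  apply h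
  have h0 : ∀ i j, M i j = 0 := by
    intro i j
    by_contra hne
    obtain ⟨g, hg⟩ := hcon (M i j) hne
    exact hg (hM i j g)
  have h1 : ∑ i, ∑ j, (M i j) i j = ∑ g : G, (ρ₂ g⁻¹).trace * (ρ₁ g).trace := by
    have h2 : ∀ (i j : ι) (g : G), ((ρ₂ g⁻¹ * Matrix.single i j 1 * ρ₁ g : Matrix ι ι F)) i j =
        ρ₂ g⁻¹ i i * ρ₁ g j j := by
      intro i j g
      rw [Matrix.mul_apply, Finset.sum_eq_single j]
      · rw [Matrix.mul_single_apply_same, mul_one]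
      · intro b _ hb
        rw [Matrix.mul_single_apply_of_ne (hbj := hb), zero_mul]
      · intro hb; exact absurd (Finset.mem_univ _) hb
    have h3 : ∀ i j, (M i j) i j = ∑ g : G, ρ₂ g⁻¹ i i * ρ₁ g j j := by
      intro i j
      change (∑ g : G, ρ₂ g⁻¹ * Matrix.single i j 1 * ρ₁ g : Matrix ι ι F) i j = _
      rw [Matrix.sum_apply]
      exact Finset.sum_congr rfl fun g _ => h2 i j g
    simp only [h3]
    calc ∑ i, ∑ j, ∑ g : G, ρ₂ g⁻¹ i i * ρ₁ g j j = ∑ i, ∑ g : G, ∑ j, ρ₂ g⁻¹ i i * ρ₁ g j j :=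
          Finset.sum_congr rfl fun i _ => Finset.sum_comm
      _ = ∑ g : G, ∑ i, ∑ j, ρ₂ g⁻¹ i i * ρ₁ g j j := Finset.sum_comm
      _ = _ := by
        refine Finset.sum_congr rfl fun g _ => ?_
        rw [Matrix.trace, Matrix.trace, Finset.sum_mul_sum]
        rfl
  rw [← h1]
  exact Finset.sum_eq_zero fun i _ => Finset.sum_eq_zero fun j _ => by rw [h0]; rfl

/-- two representations, the first one irreducible, with non-zero character product are conjugate -/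
theorem exists_conj (ρ₁ ρ₂ : G →* GL ι F) (hirr : ActsIrreducibly (matrixSet ρ₁.range))
    (h : ∑ g : G, (ρ₂ g⁻¹ : Matrix ι ι F).trace * (ρ₁ g : Matrix ι ι F).trace ≠ 0) :
    ∃ B : GL ι F, ∀ g, ρ₂ g = B * ρ₁ g * B⁻¹ := by
  obtain ⟨M, hM0, hM⟩ := exists_intertwiner ((Units.coeHom _).comp ρ₁) ((Units.coeHom _).comp ρ₂) h
  let W : Submodule F (ι → F) := LinearMap.ker (Matrix.mulVecLin M)
  have hW : W = ⊥ ∨ W = ⊤ := by
    apply hirr W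
    rintro _ ⟨_, ⟨g, rfl⟩, rfl⟩ _ ⟨v, hv, rfl⟩
    rw [SetLike.mem_coe, LinearMap.mem_ker, Matrix.mulVecLin_apply] at hv
    rw [LinearMap.mem_ker, Matrix.mulVecLin_apply, Matrix.toLin'_apply]
    have h1 := hM g
    change M * (ρ₁ g : Matrix ι ι F) = (ρ₂ g : Matrix ι ι F) * M at h1
    rw [Matrix.mulVec_mulVec, h1, ← Matrix.mulVec_mulVec, hv, Matrix.mulVec_zero]
  rcases hW with hW | hW
  · have hinj : Function.Injective (Matrix.mulVecLin M) := LinearMap.ker_eq_bot.1 hW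
    have hu : IsUnit M := by
      have hinj' : Function.Injective M.mulVec := hinj
      rwa [Matrix.mulVec_injective_iff_isUnit] at hinj'
    obtain ⟨B, rfl⟩ := hu
    refine ⟨B, fun g => ?_⟩
    rw [eq_mul_inv_iff_mul_eq]
    apply Units.ext
    rw [Units.val_mul, Units.val_mul]
    exact (hM g).symm
  · exfalso
    apply hM0
    have h2 : Matrix.mulVecLin M = 0 := LinearMap.ker_eq_top.1 hW
    ext i j
    have := congrFun (LinearMap.congr_fun h2 (Pi.single j 1)) i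
    rw [Matrix.mulVecLin_apply, Matrix.mulVec_single_one] at this
    exact this

end Cfsg.Agent.H914.S6
end

-- part: H914/SixSym
section
/-!
# The fifth symmetric power of the natural representation of `SL₂` (helper914)

* `s5 a b c d` : the `6 × 6` matrix of `[[a, b], [c, d]]` on binary forms of degree five
* `sym5 : SL₂(R) →* GL₆(R)`, `trace_sym5 : tr = t⁵ - 4 t³ + 3 t`
-/

set_option autoImplicit false
set_option linter.unusedSectionVars false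

namespace Cfsg.Agent.H914.S6

open Matrix

variable {R : Type*} [CommRing R]

/-- the fifth symmetric power -/
def s5 (a b c d : R) : Matrix (Fin 6) (Fin 6) R :=
  !![d ^ (5 : ℕ),
      5 * (c * d ^ (4 : ℕ)),
      10 * (c ^ (2 : ℕ) * d ^ (3 : ℕ)),
      10 * (c ^ (3 : ℕ) * d ^ (2 : ℕ)),
      5 * (c ^ (4 : ℕ) * d),
      c ^ (5 : ℕ);
    b * d ^ (4 : ℕ),
      4 * (b * c * d ^ (3 : ℕ)) + a * d ^ (4 : ℕ),
      6 * (b * c ^ (2 : ℕ) * d ^ (2 : ℕ)) + 4 * (a * c * d ^ (3 : ℕ)),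
      4 * (b * c ^ (3 : ℕ) * d) + 6 * (a * c ^ (2 : ℕ) * d ^ (2 : ℕ)),
      b * c ^ (4 : ℕ) + 4 * (a * c ^ (3 : ℕ) * d),
      a * c ^ (4 : ℕ);
    b ^ (2 : ℕ) * d ^ (3 : ℕ),
      3 * (b ^ (2 : ℕ) * c * d ^ (2 : ℕ)) + 2 * (a * b * d ^ (3 : ℕ)),
      3 * (b ^ (2 : ℕ) * c ^ (2 : ℕ) * d) + 6 * (a * b * c * d ^ (2 : ℕ)) + a ^ (2 : ℕ) * d ^ (3 : ℕ),
      b ^ (2 : ℕ) * c ^ (3 : ℕ) + 6 * (a * b * c ^ (2 : ℕ) * d) + 3 * (a ^ (2 : ℕ) * c * d ^ (2 : ℕ)),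
      2 * (a * b * c ^ (3 : ℕ)) + 3 * (a ^ (2 : ℕ) * c ^ (2 : ℕ) * d),
      a ^ (2 : ℕ) * c ^ (3 : ℕ);
    b ^ (3 : ℕ) * d ^ (2 : ℕ),
      2 * (b ^ (3 : ℕ) * c * d) + 3 * (a * b ^ (2 : ℕ) * d ^ (2 : ℕ)),
      b ^ (3 : ℕ) * c ^ (2 : ℕ) + 6 * (a * b ^ (2 : ℕ) * c * d) + 3 * (a ^ (2 : ℕ) * b * d ^ (2 : ℕ)),
      3 * (a * b ^ (2 : ℕ) * c ^ (2 : ℕ)) + 6 * (a ^ (2 : ℕ) * b * c * d) + a ^ (3 : ℕ) * d ^ (2 : ℕ),
      3 * (a ^ (2 : ℕ) * b * c ^ (2 : ℕ)) + 2 * (a ^ (3 : ℕ) * c * d),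
      a ^ (3 : ℕ) * c ^ (2 : ℕ);
    b ^ (4 : ℕ) * d,
      b ^ (4 : ℕ) * c + 4 * (a * b ^ (3 : ℕ) * d),
      4 * (a * b ^ (3 : ℕ) * c) + 6 * (a ^ (2 : ℕ) * b ^ (2 : ℕ) * d),
      6 * (a ^ (2 : ℕ) * b ^ (2 : ℕ) * c) + 4 * (a ^ (3 : ℕ) * b * d),
      4 * (a ^ (3 : ℕ) * b * c) + a ^ (4 : ℕ) * d,
      a ^ (4 : ℕ) * c;
    b ^ (5 : ℕ),
      5 * (a * b ^ (4 : ℕ)),
      10 * (a ^ (2 : ℕ) * b ^ (3 : ℕ)),
      10 * (a ^ (3 : ℕ) * b ^ (2 : ℕ)),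
      5 * (a ^ (4 : ℕ) * b),
      a ^ (5 : ℕ)]

/-- the rational normal curve -/
def vv (x y : R) : Fin 6 → R := ![y ^ 5, x * y ^ 4, x ^ 2 * y ^ 3, x ^ 3 * y ^ 2, x ^ 4 * y, x ^ 5]

theorem s5_vv (a b c d x y : R) : s5 a b c d *ᵥ vv x y = vv (a * x + b * y) (c * x + d * y) := by
  ext j
  (revert j; simp only [s5, vv, Matrix.mulVec, dotProduct, Fin.sum_univ_succ, _root_.Fin.forall_fin_succ, _root_.Matrix.of_apply, _root_.Matrix.cons_val', _root_.Matrix.cons_val_fin_one, Fin.isValue, _root_.Matrix.cons_val_zero, _root_.Matrix.cons_val_succ, _root_.Finset.univ_unique, _root_.Fin.default_eq_zero, _root_.Finset.sum_const, _root_.Finset.card_singleton, _root_.one_smul, _root_.forall_const]) <;> (repeat' with_reducible apply And.intro) <;> ring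

theorem s5_map {S : Type*} [CommRing S] (f : R →+* S) (a b c d : R) :
    (s5 a b c d).map f = s5 (f a) (f b) (f c) (f d) := by
  ext i j
  (revert i j; simp only [s5, map_ofNat, _root_.Fin.forall_fin_succ, _root_.Matrix.map_apply, _root_.Matrix.of_apply, _root_.Matrix.cons_val', _root_.Matrix.cons_val_fin_one, Fin.isValue, _root_.Matrix.cons_val_zero, _root_.Matrix.cons_val_succ, _root_.forall_const, _root_.map_pow, _root_.map_mul, _root_.and_self, _root_.map_add, _root_.implies_true])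

theorem eq_of_vv {A B : Matrix (Fin 6) (Fin 6) R}
    (h : (A.map (Polynomial.C : R →+* Polynomial R)) *ᵥ vv Polynomial.X 1 =
      (B.map (Polynomial.C : R →+* Polynomial R)) *ᵥ vv Polynomial.X 1) : A = B := by
  have key : ∀ (M : Matrix (Fin 6) (Fin 6) R) (j i : Fin 6),
      (((M.map (Polynomial.C : R →+* Polynomial R)) *ᵥ vv Polynomial.X 1) j).coeff i = M j i := by
    intro M j i
    have e1 : ((M.map (Polynomial.C : R →+* Polynomial R)) *ᵥ vv Polynomial.X 1) j =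
        ∑ k : Fin 6, Polynomial.C (M j k) * Polynomial.X ^ (k : ℕ) := by
      simp only [vv, Matrix.mulVec, dotProduct, Fin.sum_univ_succ, _root_.Matrix.map_apply, _root_.one_pow, _root_.mul_one, _root_.Fin.isValue, _root_.Matrix.cons_val_zero, _root_.Matrix.cons_val_succ, _root_.Fin.succ_zero_eq_one, _root_.Fin.succ_one_eq_two, _root_.Fin.reduceSucc, _root_.Finset.univ_unique, _root_.Fin.default_eq_zero, _root_.Matrix.cons_val_fin_one, _root_.Finset.sum_singleton, _root_.Fin.coe_ofNat_eq_mod, _root_.Nat.zero_mod, _root_.pow_zero, _root_.Fin.val_succ, _root_.zero_add, _root_.pow_one, _root_.Nat.reduceAdd, _root_.Fin.val_eq_zero]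
    rw [e1, Polynomial.finsetSum_coeff]
    simp only [Polynomial.coeff_C_mul, Polynomial.coeff_X_pow, Fin.val_inj]
    simp
  ext j i
  rw [← key A, ← key B, h]

theorem s5_mul (a b c d a' b' c' d' : R) :
    s5 (a * a' + b * c') (a * b' + b * d') (c * a' + d * c') (c * b' + d * d') = s5 a b c d * s5 a' b' c' d' := by
  apply eq_of_vv
  rw [Matrix.map_mul, s5_map, s5_map, s5_map, ← Matrix.mulVec_mulVec, s5_vv, s5_vv, s5_vv]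
  (with_reducible congr 1) <;> simp only [map_add, map_mul] <;> ring

theorem s5_one : s5 (1 : R) 0 0 1 = 1 := by
  ext i j
  (revert i j; simp only [s5, _root_.Fin.forall_fin_succ, _root_.one_pow, _root_.mul_one, _root_.MulZeroClass.mul_zero, _root_.ne_eq, _root_.OfNat.ofNat_ne_zero, _root_.not_false_eq_true, _root_.zero_pow, _root_.zero_add, _root_.add_zero, _root_.Matrix.of_apply, _root_.Matrix.cons_val', _root_.Matrix.cons_val_fin_one, Fin.isValue, _root_.Matrix.cons_val_zero, _root_.Matrix.cons_val_succ, _root_.IsEmpty.forall_iff, _root_.and_true, _root_.Matrix.one_apply_eq, Nat.reduceAdd, _root_.Fin.succ_zero_eq_one, _root_.zero_ne_one, _root_.Matrix.one_apply_ne, _root_.Fin.succ_one_eq_two, Fin.reduceEq, Fin.reduceSucc, _root_.and_self, _root_.Fin.succ_ne_zero, _root_.true_and])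

theorem trace_s5 (a b c d : R) : (s5 a b c d).trace =
    (a + d) ^ 5 - 4 * (a + d) ^ 3 * (a * d - b * c) + 3 * (a + d) * (a * d - b * c) ^ 2 := by
  simp only [s5, Matrix.trace, Fin.sum_univ_succ, _root_.Matrix.diag_apply, _root_.Matrix.of_apply, _root_.Matrix.cons_val', _root_.Matrix.cons_val_fin_one, _root_.Fin.isValue, _root_.Matrix.cons_val_zero, _root_.Matrix.cons_val_succ, _root_.Finset.univ_unique, _root_.Fin.default_eq_zero, _root_.Finset.sum_const, _root_.Finset.card_singleton, _root_.one_smul]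
  ring

/-- the hom to matrices -/
def sym5M : _root_.Matrix.SpecialLinearGroup (Fin 2) R →* Matrix (Fin 6) (Fin 6) R where
  toFun g := s5 (g 0 0) (g 0 1) (g 1 0) (g 1 1)
  map_one' := by simp only [s5_one, _root_.Fin.isValue, _root_.Matrix.SpecialLinearGroup.coe_one, _root_.Matrix.one_apply_eq, _root_.ne_eq, _root_.zero_ne_one, _root_.not_false_eq_true, _root_.Matrix.one_apply_ne, _root_.one_ne_zero]
  map_mul' g h := by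
    rw [← s5_mul]
    simp only [Matrix.mul_apply, Fin.sum_univ_two, _root_.Fin.isValue, _root_.Matrix.SpecialLinearGroup.coe_mul]

/-- the fifth symmetric power of the natural representation -/
def sym5 : _root_.Matrix.SpecialLinearGroup (Fin 2) R →* GL (Fin 6) R := sym5M.toHomUnits

theorem coe_sym5 (g : _root_.Matrix.SpecialLinearGroup (Fin 2) R) :
    (sym5 g : Matrix (Fin 6) (Fin 6) R) = s5 (g 0 0) (g 0 1) (g 1 0) (g 1 1) := rfl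

theorem trace_sym5 (g : _root_.Matrix.SpecialLinearGroup (Fin 2) R) : (sym5 g : Matrix (Fin 6) (Fin 6) R).trace =
    (g 0 0 + g 1 1) ^ 5 - 4 * (g 0 0 + g 1 1) ^ 3 + 3 * (g 0 0 + g 1 1) := by
  have hd : g 0 0 * g 1 1 - g 0 1 * g 1 0 = 1 := by
    have := g.2
    rwa [Matrix.det_fin_two] at this
  rw [coe_sym5, trace_s5, hd]
  ring

end Cfsg.Agent.H914.S6
end

-- part: H914/SixIcos
section
/-!
# `SL₂(5)` in `SL₂(F)` when `F` contains the golden ratio (helper914)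

* `exists_kappa` : an injective hom `SL₂(ZMod 5) →* SL₂(F)`
* `sig_cases` : the trace of the fifth symmetric power
* `sum_sig`
-/

set_option autoImplicit false
set_option linter.unusedSectionVars false

namespace Cfsg.Agent.H914.S6

open Matrix

variable {F : Type*} [Field F] [Fintype F]

theorem exists_conic (h2 : (2 : F) ≠ 0) (h3 : (3 : F) ≠ 0) {τ : F} (hτ : τ * τ = τ + 1) :
    ∃ a b : F, a * a + a * b + b * b + a + (1 - τ) * b + 1 = 0 := by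
  have hodd : Fintype.card F % 2 = 1 := by
    apply FiniteField.odd_card_of_char_ne_two
    intro h
    apply h2
    have : CharP F 2 := by rw [← h]; exact ringChar.charP F
    exact_mod_cast CharP.cast_eq_zero F 2
  obtain ⟨s, u, hsu⟩ := FiniteField.exists_root_sum_quadratic
    (f := Polynomial.C 3 * Polynomial.X ^ 2 + Polynomial.C 0 * Polynomial.X + Polynomial.C (4 : F))
    (g := Polynomial.C 1 * Polynomial.X ^ 2 + Polynomial.C 0 * Polynomial.X + Polynomial.C (0 : F))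
    (Polynomial.degree_quadratic h3) (Polynomial.degree_quadratic one_ne_zero) hodd
  simp only [Polynomial.eval_add, Polynomial.eval_mul, Polynomial.eval_C, Polynomial.eval_pow, Polynomial.eval_X] at hsu
  obtain ⟨b, hb⟩ : ∃ b : F, 3 * b = u + 2 * τ - 1 := ⟨(u + 2 * τ - 1) / 3, by field_simp⟩
  obtain ⟨a, ha⟩ : ∃ a : F, 2 * a = s - b - 1 := ⟨(s - b - 1) / 2, by field_simp⟩
  refine ⟨a, b, ?_⟩
  have h12 : (12 : F) ≠ 0 := by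
    have : (12 : F) = 2 * 2 * 3 := by norm_num
    rw [this]
    exact mul_ne_zero (mul_ne_zero h2 h2) h3
  apply (mul_eq_zero.1 (?_ : (12 : F) * _ = 0)).resolve_left h12
  have e1 : s = 2 * a + b + 1 := by linear_combination -ha
  have e2 : u = 3 * b - 2 * τ + 1 := by linear_combination -hb
  rw [e1, e2] at hsu
  linear_combination hsu - 4 * hτ

theorem ofNat_isUnit {n : ℕ} (h : (n : F) ≠ 0) : IsUnit ((n : Matrix (Fin 2) (Fin 2) F)) := by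
  have : ((n : Matrix (Fin 2) (Fin 2) F)) = algebraMap F _ (n : F) := by simp only [_root_.map_natCast]
  rw [this]
  exact (isUnit_iff_ne_zero.2 h).map (algebraMap F (Matrix (Fin 2) (Fin 2) F))

/-- `SL₂(5)` embeds in `SL₂(F)` -/
theorem exists_kappa (h2 : (2 : F) ≠ 0) (h3 : (3 : F) ≠ 0) (h5 : (5 : F) ≠ 0) {τ : F} (hτ : τ * τ = τ + 1) :
    ∃ κ : _root_.Matrix.SpecialLinearGroup (Fin 2) (ZMod 5) →* _root_.Matrix.SpecialLinearGroup (Fin 2) F, Function.Injective κ := by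
  obtain ⟨a, b, hab⟩ := exists_conic h2 h3 hτ
  obtain ⟨c, hc⟩ : ∃ c : F, c = a + b + 1 - τ := ⟨_, rfl⟩
  have hd : a * (-1 - a) - b * c = 1 := by rw [hc]; linear_combination -hab
  let x : _root_.Matrix.SpecialLinearGroup (Fin 2) F := ⟨!![0, -1; 1, -1], by simp [det_fin_two]⟩
  let y : _root_.Matrix.SpecialLinearGroup (Fin 2) F := ⟨!![a, b; c, -1 - a], by rw [det_fin_two]; simpa using hd⟩
  let j : _root_.Matrix.SpecialLinearGroup (Fin 2) F →* (Matrix (Fin 2) (Fin 2) F)ˣ := SpecialLinearGroup.toGL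
  have hjx : ((j x : (Matrix (Fin 2) (Fin 2) F)ˣ) : Matrix (Fin 2) (Fin 2) F) = !![0, -1; 1, -1] := rfl
  have hjy : ((j y : (Matrix (Fin 2) (Fin 2) F)ˣ) : Matrix (Fin 2) (Fin 2) F) = !![a, b; c, -1 - a] := rfl
  have hx : ((j x : (Matrix (Fin 2) (Fin 2) F)ˣ) : Matrix (Fin 2) (Fin 2) F) ^ 2 + (j x : (Matrix (Fin 2) (Fin 2) F)ˣ) + 1 = 0 := by
    rw [hjx, pow_two]
    ext i k
    (revert i k; simp only [Matrix.mul_apply, Fin.sum_univ_two, _root_.Fin.forall_fin_succ, _root_.Matrix.cons_mul, _root_.Nat.succ_eq_add_one, Nat.reduceAdd, _root_.Matrix.vecMul_cons, _root_.Matrix.head_cons, _root_.zero_smul, _root_.Matrix.tail_cons, _root_.neg_smul, _root_.one_smul, _root_.Matrix.neg_cons, _root_.neg_neg, _root_.Matrix.neg_empty, _root_.Matrix.empty_vecMul, _root_.add_zero, _root_.zero_add, _root_.Matrix.add_cons, _root_.neg_add_cancel, _root_.Matrix.empty_add_empty,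 _root_.Matrix.empty_mul, _root_.Equiv.symm_apply_apply, _root_.Matrix.of_add_of, _root_.add_neg_cancel, _root_.Matrix.add_apply, _root_.Matrix.of_apply, _root_.Matrix.cons_val', _root_.Matrix.cons_val_fin_one, _root_.Matrix.zero_apply, Fin.isValue, _root_.Matrix.cons_val_zero, _root_.Matrix.cons_val_succ, _root_.IsEmpty.forall_iff, _root_.and_true, _root_.Matrix.one_apply_eq, _root_.Fin.succ_zero_eq_one, _root_.ne_eq, _root_.zero_ne_one, _root_.not_false_eq_true, _root_.Matrix.one_apply_ne, _root_.and_self, _root_.Fin.succ_ne_zero, _root_.true_and])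
  have hy : ((j y : (Matrix (Fin 2) (Fin 2) F)ˣ) : Matrix (Fin 2) (Fin 2) F) ^ 2 + (j y : (Matrix (Fin 2) (Fin 2) F)ˣ) + 1 = 0 := by
    rw [hjy, pow_two]
    ext i k
    fin_cases i <;> fin_cases k <;> simp only [Matrix.mul_apply, Fin.sum_univ_two, _root_.Matrix.cons_mul, _root_.Nat.succ_eq_add_one, _root_.Nat.reduceAdd, _root_.Matrix.vecMul_cons, _root_.Matrix.head_cons, _root_.Matrix.smul_cons, _root_.smul_eq_mul, _root_.Matrix.smul_empty, _root_.Matrix.tail_cons, _root_.Matrix.empty_vecMul, _root_.add_zero, _root_.Matrix.add_cons, _root_.Matrix.empty_add_empty, _root_.Matrix.empty_mul, _root_.Equiv.symm_apply_apply, _root_.Matrix.of_add_of, _root_.Fin.zero_eta, _root_.Fin.isValue, _root_.Matrix.add_apply, _root_.Matrix.of_apply, _root_.Matrix.cons_val', _root_.Matrix.cons_val_zero, _root_.Matrix.cons_val_fin_one, _root_.Matrix.one_apply_eq,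 _root_.Matrix.zero_apply, _root_.Fin.mk_one, _root_.Matrix.cons_val_one, _root_.ne_eq, _root_.zero_ne_one, _root_.not_false_eq_true, _root_.Matrix.one_apply_ne, _root_.one_ne_zero]
    · linear_combination -hd
    · ring
    · ring
    · linear_combination -hd
  have hT : ((j x : Matrix (Fin 2) (Fin 2) F) * (j y : Matrix (Fin 2) (Fin 2) F) + (j y : Matrix (Fin 2) (Fin 2) F) *
      (j x : Matrix (Fin 2) (Fin 2) F) + (j x : Matrix (Fin 2) (Fin 2) F) + (j y : Matrix (Fin 2) (Fin 2) F) + 1) =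
      !![τ, 0; 0, τ] := by
    rw [hjx, hjy]
    ext i k
    (revert i k; simp only [Matrix.mul_apply, Fin.sum_univ_two, hc, _root_.Fin.forall_fin_succ, _root_.Matrix.cons_mul, _root_.Nat.succ_eq_add_one, Nat.reduceAdd, _root_.Matrix.vecMul_cons, _root_.Matrix.head_cons, _root_.zero_smul, _root_.Matrix.tail_cons, _root_.neg_smul, _root_.one_smul, _root_.Matrix.neg_cons, _root_.neg_sub, _root_.sub_neg_eq_add, _root_.Matrix.neg_empty, _root_.Matrix.empty_vecMul, _root_.add_zero, _root_.zero_add, _root_.Matrix.add_cons, _root_.Matrix.empty_add_empty, _root_.Matrix.empty_mul, _root_.Equiv.symm_apply_apply, _root_.Matrix.smul_cons, _root_.smul_eq_mul, _root_.MulZeroClass.mul_zero, _root_.mul_neg, _root_.mul_one, _root_.Matrix.smul_empty, _root_.Matrix.of_add_of, _root_.Matrix.add_apply, _root_.Matrix.of_apply, _root_.Matrix.cons_val', _root_.Matrix.cons_val_fin_one,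 Fin.isValue, _root_.Matrix.cons_val_zero, _root_.Matrix.cons_val_succ, _root_.IsEmpty.forall_iff, _root_.and_true, _root_.Matrix.one_apply_eq, _root_.Fin.succ_zero_eq_one, _root_.ne_eq, _root_.zero_ne_one, _root_.not_false_eq_true, _root_.Matrix.one_apply_ne, _root_.Fin.succ_ne_zero]) <;> (repeat' with_reducible apply And.intro) <;> ring
  obtain ⟨Ψ, hΨ, hr⟩ := PermutationGroups.ZassIcos.icosahedral (E := Matrix (Fin 2) (Fin 2) F)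
    (ofNat_isUnit (n := 2) (by exact_mod_cast h2)) (ofNat_isUnit (n := 3) (by exact_mod_cast h3))
    (ofNat_isUnit (n := 5) (by exact_mod_cast h5)) (j x) (j y) hx hy (by
      rw [hT]
      ext i k
      (revert i k; simp only [Matrix.mul_apply, Fin.sum_univ_two, hτ, _root_.Fin.forall_fin_succ, _root_.Matrix.of_apply, _root_.Matrix.cons_val', _root_.Matrix.cons_val_fin_one, Fin.isValue, _root_.Matrix.cons_val_zero, _root_.Matrix.cons_val_one, _root_.Matrix.add_apply, _root_.MulZeroClass.mul_zero, _root_.add_zero, _root_.Matrix.cons_val_succ, _root_.zero_add, _root_.IsEmpty.forall_iff, _root_.and_true, _root_.Matrix.one_apply_eq, _root_.MulZeroClass.zero_mul, Nat.reduceAdd, _root_.Fin.succ_zero_eq_one, _root_.ne_eq, _root_.zero_ne_one, _root_.not_false_eq_true, _root_.Matrix.one_apply_ne, _root_.and_self, _root_.Fin.succ_ne_zero, _root_.add_right_inj,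 _root_.true_and]))
  have hle : Ψ.range ≤ j.range := by
    rw [hr, Subgroup.closure_le]
    rintro z (rfl | rfl)
    · exact ⟨x, rfl⟩
    · exact ⟨y, rfl⟩
  have hj : Function.Injective j := SpecialLinearGroup.toGL_injective
  let e : _root_.Matrix.SpecialLinearGroup (Fin 2) F ≃* j.range := MonoidHom.ofInjective hj
  let κ : _root_.Matrix.SpecialLinearGroup (Fin 2) (ZMod 5) →* _root_.Matrix.SpecialLinearGroup (Fin 2) F :=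
    e.symm.toMonoidHom.comp (Ψ.codRestrict j.range fun g => hle ⟨g, rfl⟩)
  refine ⟨κ, ?_⟩
  intro g g' h
  have h1 : (Ψ.codRestrict j.range fun g => hle ⟨g, rfl⟩) g = (Ψ.codRestrict j.range fun g => hle ⟨g, rfl⟩) g' :=
    e.symm.injective h
  exact hΨ (congrArg Subtype.val h1)

/-! ### traces -/

section tr

variable {R : Type*} [CommRing R]

/-- the matrix -/
def mt (g : _root_.Matrix.SpecialLinearGroup (Fin 2) R) : Matrix (Fin 2) (Fin 2) R := g.1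

theorem mt_mul (g h : _root_.Matrix.SpecialLinearGroup (Fin 2) R) : mt (g * h) = mt g * mt h := rfl

theorem mt_one : mt (1 : _root_.Matrix.SpecialLinearGroup (Fin 2) R) = 1 := rfl

theorem mt_neg (g : _root_.Matrix.SpecialLinearGroup (Fin 2) R) : mt (-g) = -mt g := rfl

theorem mt_inj {g h : _root_.Matrix.SpecialLinearGroup (Fin 2) R} (e : mt g = mt h) : g = h := Subtype.ext e

/-- the trace of an element of `SL₂` -/
def t2 (g : _root_.Matrix.SpecialLinearGroup (Fin 2) R) : R := mt g 0 0 + mt g 1 1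

theorem ch (g : _root_.Matrix.SpecialLinearGroup (Fin 2) R) : mt g * mt g = t2 g • mt g - 1 := by
  have hd : mt g 0 0 * mt g 1 1 - mt g 0 1 * mt g 1 0 = 1 := by
    have := g.2
    rwa [Matrix.det_fin_two] at this
  unfold t2
  generalize mt g = A at hd ⊢
  ext i k
  (revert i k; simp only [Matrix.mul_apply, Fin.sum_univ_two, _root_.Fin.forall_fin_succ, Fin.isValue, _root_.Matrix.sub_apply, _root_.Matrix.smul_apply, _root_.smul_eq_mul, _root_.Fin.succ_zero_eq_one, _root_.IsEmpty.forall_iff, _root_.Matrix.one_apply_eq, Nat.reduceAdd, _root_.ne_eq, _root_.zero_ne_one, _root_.not_false_eq_true, _root_.Matrix.one_apply_ne, _root_.sub_zero, _root_.Fin.succ_ne_zero, _root_.and_true, _root_.true_and]) <;> (repeat' with_reducible apply And.intro)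
  · linear_combination -hd
  · ring
  · ring
  · linear_combination -hd

theorem mt_two (g : _root_.Matrix.SpecialLinearGroup (Fin 2) R) : mt (g ^ 2) = t2 g • mt g - 1 := by
  rw [pow_two, mt_mul, ch]

theorem mt_three (g : _root_.Matrix.SpecialLinearGroup (Fin 2) R) : mt (g ^ 3) = (t2 g ^ 2 - 1) • mt g - t2 g • 1 := by
  rw [pow_succ, pow_two, mt_mul, mt_mul, ch, Matrix.sub_mul, Matrix.smul_mul, ch, Matrix.one_mul, smul_sub,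
    smul_smul, sub_smul, one_smul, pow_two]
  abel

theorem mt_five (g : _root_.Matrix.SpecialLinearGroup (Fin 2) R) :
    mt (g ^ 5) = (t2 g ^ 4 - 3 * t2 g ^ 2 + 1) • mt g - (t2 g ^ 3 - 2 * t2 g) • 1 := by
  have e : g ^ 5 = g ^ 3 * g ^ 2 := by rw [← pow_add]
  rw [e, mt_mul, mt_three, mt_two]
  generalize ht : t2 g = s
  have h := ch g
  rw [ht] at h
  simp only [Matrix.sub_mul, Matrix.mul_sub, Matrix.smul_mul, Matrix.mul_smul, h, Matrix.mul_one,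
    Matrix.one_mul, smul_sub, smul_smul]
  ext i k
  simp only [Matrix.sub_apply, Matrix.smul_apply, smul_eq_mul]
  ring

theorem t2_neg (g : _root_.Matrix.SpecialLinearGroup (Fin 2) R) : t2 (-g) = -t2 g := by
  unfold t2
  rw [mt_neg, Matrix.neg_apply, Matrix.neg_apply]
  ring

theorem t2_one : t2 (1 : _root_.Matrix.SpecialLinearGroup (Fin 2) R) = 2 := by
  unfold t2
  rw [mt_one, Matrix.one_apply_eq, Matrix.one_apply_eq]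
  norm_num

/-- the trace of the fifth symmetric power -/
def sg (x : R) : R := x ^ 5 - 4 * x ^ 3 + 3 * x

theorem sg_neg (x : R) : sg (-x) = -sg x := by
  unfold sg; ring

end tr

section fld

variable {R : Type*} [Field R]

/-- a linear relation `α g = β` in `SL₂` with `g ≠ ±1` is trivial -/
theorem lin_rel {g : _root_.Matrix.SpecialLinearGroup (Fin 2) R} {α β : R}
    (h : α • mt g = β • 1) (h1 : g ≠ 1) (h2 : g ≠ -1) : α = 0 ∧ β = 0 := by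
  have hα : α = 0 := by
    by_contra hα
    have e : mt g = (α⁻¹ * β) • 1 := by
      rw [mul_smul, ← h, smul_smul, inv_mul_cancel₀ hα, one_smul]
    have hd : (mt g).det = 1 := g.2
    rw [e, Matrix.det_smul, Matrix.det_one, mul_one, Fintype.card_fin, sq] at hd
    rcases mul_self_eq_one_iff.1 hd with h3 | h3
    · apply h1
      apply mt_inj
      rw [e, h3, one_smul, mt_one]
    · apply h2
      apply mt_inj
      rw [e, h3, mt_neg, mt_one, neg_smul, one_smul]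
  refine ⟨hα, ?_⟩
  rw [hα, zero_smul] at h
  have := congrFun (congrFun h 0) 0
  simpa using this.symm

theorem sg_five {g : _root_.Matrix.SpecialLinearGroup (Fin 2) R} (h5 : g ^ 5 = 1) (h1 : g ≠ 1) (h2 : g ≠ -1) :
    sg (t2 g) = 1 := by
  have h := mt_five g
  rw [h5, mt_one] at h
  obtain ⟨e1, e2⟩ := lin_rel (α := t2 g ^ 4 - 3 * t2 g ^ 2 + 1) (β := t2 g ^ 3 - 2 * t2 g + 1) (by
    rw [eq_sub_iff_add_eq] at h
    rw [add_smul (t2 g ^ 3 - 2 * t2 g) 1, one_smul, ← h, add_comm]) h1 h2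
  have h3 : (t2 g - 1) * (t2 g ^ 2 + t2 g - 1) = 0 := by linear_combination e2
  have h4 : t2 g ^ 2 + t2 g - 1 = 0 := by
    rcases mul_eq_zero.1 h3 with h | h
    · exfalso
      have h5 : t2 g = 1 := by linear_combination h
      rw [h5] at e1
      norm_num at e1
    · exact h
  unfold sg
  linear_combination (t2 g ^ 3 - t2 g ^ 2 - 2 * t2 g + 1) * h4

theorem sg_three {g : _root_.Matrix.SpecialLinearGroup (Fin 2) R} (h3 : g ^ 3 = 1) (h1 : g ≠ 1) (h2 : g ≠ -1) :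
    sg (t2 g) = 0 := by
  have h := mt_three g
  rw [h3, mt_one] at h
  obtain ⟨e1, e2⟩ := lin_rel (α := t2 g ^ 2 - 1) (β := t2 g + 1) (by
    rw [eq_sub_iff_add_eq] at h
    rw [add_smul, one_smul, ← h, add_comm]) h1 h2
  have h4 : t2 g = -1 := by linear_combination e2
  rw [h4]
  unfold sg
  norm_num

theorem sg_two {g : _root_.Matrix.SpecialLinearGroup (Fin 2) R} (h3 : g ^ 2 = -1) (h1 : g ≠ 1) (h2 : g ≠ -1) :
    sg (t2 g) = 0 := by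
  have h := mt_two g
  rw [h3, mt_neg, mt_one] at h
  obtain ⟨e1, e2⟩ := lin_rel (α := t2 g) (β := 0) (by
    rw [zero_smul]
    rw [eq_sub_iff_add_eq, neg_add_cancel] at h
    exact h.symm) h1 h2
  rw [e1]
  unfold sg
  norm_num

end fld

theorem neg_one_ne : (-1 : _root_.Matrix.SpecialLinearGroup (Fin 2) (ZMod 5)) ≠ 1 := by
  intro h
  have h2 := congrFun (congrFun (congrArg mt h) 0) 0
  rw [mt_neg, mt_one] at h2
  revert h2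
  decide

theorem kappa_neg_one (h2 : (2 : F) ≠ 0) {κ : _root_.Matrix.SpecialLinearGroup (Fin 2) (ZMod 5) →* _root_.Matrix.SpecialLinearGroup (Fin 2) F}
    (hκ : Function.Injective κ) : κ (-1) = -1 := by
  have h0 : (-1 : _root_.Matrix.SpecialLinearGroup (Fin 2) (ZMod 5)) ^ 2 = 1 := by simp only [_root_.even_two, _root_.Even.neg_pow, _root_.one_pow]
  have hne : κ (-1) ≠ 1 := by
    intro h
    rw [← map_one κ] at h
    exact neg_one_ne (hκ h)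
  by_contra hne'
  have h1 : κ (-1) ^ 2 = 1 := by rw [← map_pow, h0, map_one]
  have h := mt_two (κ (-1))
  rw [h1, mt_one] at h
  obtain ⟨e1, e2⟩ := lin_rel (g := κ (-1)) (α := t2 (κ (-1))) (β := 2) (by
    rw [eq_sub_iff_add_eq] at h
    rw [← h, two_smul]) hne hne'
  exact h2 e2

theorem kappa_neg (h2 : (2 : F) ≠ 0) {κ : _root_.Matrix.SpecialLinearGroup (Fin 2) (ZMod 5) →* _root_.Matrix.SpecialLinearGroup (Fin 2) F}
    (hκ : Function.Injective κ) (g : _root_.Matrix.SpecialLinearGroup (Fin 2) (ZMod 5)) : κ (-g) = -κ g := by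
  have : -g = -1 * g := by simp
  rw [this, map_mul, kappa_neg_one h2 hκ, neg_one_mul]

/-- the summands -/
def cf (q : ZMod 5 × ZMod 5 × ZMod 5 × ZMod 5) : ℤ :=
  if q = (1, 0, 0, 1) ∨ q = (4, 0, 0, 4) then 36 else if q.1 + q.2.2.2 = 2 ∨ q.1 + q.2.2.2 = 3 then 1 else 0

/-- entries -/
def ent (g : _root_.Matrix.SpecialLinearGroup (Fin 2) (ZMod 5)) : ZMod 5 × ZMod 5 × ZMod 5 × ZMod 5 :=
  (mt g 0 0, mt g 0 1, mt g 1 0, mt g 1 1)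

theorem sum_cf : ∑ g : _root_.Matrix.SpecialLinearGroup (Fin 2) (ZMod 5), cf (ent g) = 120 := by
  let e : _root_.Matrix.SpecialLinearGroup (Fin 2) (ZMod 5) ≃
      {q : ZMod 5 × ZMod 5 × ZMod 5 × ZMod 5 // q.1 * q.2.2.2 - q.2.1 * q.2.2.1 = 1} :=
    { toFun := fun g => ⟨ent g, by
        have := g.2
        rwa [Matrix.det_fin_two] at this⟩
      invFun := fun q => ⟨!![q.1.1, q.1.2.1; q.1.2.2.1, q.1.2.2.2], by
        rw [Matrix.det_fin_two]; exact q.2⟩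
      left_inv := fun g => by
        apply Subtype.ext
        exact (Matrix.eta_fin_two _).symm
      right_inv := fun q => by
        apply Subtype.ext
        rfl }
  rw [Fintype.sum_equiv e (fun g => cf (ent g)) (fun q => cf q.1) (fun g => rfl)]
  rw [← Finset.sum_subtype (Finset.univ.filter fun q : ZMod 5 × ZMod 5 × ZMod 5 × ZMod 5 =>
    q.1 * q.2.2.2 - q.2.1 * q.2.2.1 = 1) (by simp) cf, Finset.sum_filter]
  decide +kernel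

theorem mem_pm {g : _root_.Matrix.SpecialLinearGroup (Fin 2) (ZMod 5)} : g = 1 ∨ g = -1 ↔ ent g = (1, 0, 0, 1) ∨ ent g = (4, 0, 0, 4) := by
  have e : ∀ g : _root_.Matrix.SpecialLinearGroup (Fin 2) (ZMod 5), mt g = !![(ent g).1, (ent g).2.1; (ent g).2.2.1, (ent g).2.2.2] :=
    fun g => Matrix.eta_fin_two _
  constructor
  · rintro (rfl | rfl)
    · left; rfl
    · right; decide
  · rintro (h | h)
    · left
      apply mt_inj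
      rw [e g, h, mt_one]
      decide
    · right
      apply mt_inj
      rw [e g, h, mt_neg, mt_one]
      decide

end Cfsg.Agent.H914.S6
end

-- part: H914/SixA5
section
/-!
# `SL₂(5)` in `Sp₆(F)` (helper914): traces and the conjugation into `Sym⁵(SL₂(F))`
-/

set_option autoImplicit false
set_option linter.unusedSectionVars false
set_option maxHeartbeats 400000

namespace Cfsg.Agent.H914.S6

open Cfsg Cfsg.Geo Matrix Cfsg.Agent.H915.LD Cfsg.Agent.H464.Sl2 Module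

universe u v

local instance fact5 : Fact (Nat.Prime 5) := ⟨Nat.prime_five⟩

/-- degree `q + 1`: the unipotent elements have trace `1` -/
theorem trace_u_succ {K : Type*} [Field K] [Fintype K] (h4 : 4 ≤ Fintype.card K) {F : Type*} [Field F] {n : ℕ}
    (hK : (Fintype.card K : F) ≠ 0)
    (ρ : Matrix.SpecialLinearGroup (Fin 2) K →* GL (Fin n) F) (hρ : ρ ≠ 1)
    (habs : ActsAbsolutelyIrreducibly (matrixSet ρ.range)) (hn : n = Fintype.card K + 1) {x : K} (hx : x ≠ 0) :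
    (ρ (u x) : Matrix (Fin n) (Fin n) F).trace = 1 := by
  classical
  let k := AlgebraicClosure F
  have hKk : (Fintype.card K : k) ≠ 0 := by
    intro h
    apply hK
    apply (algebraMap F k).injective
    rw [map_natCast, h, map_zero]
  obtain ⟨ψ, hψ⟩ := exists_prim (K := K) hKk
  have hspan := span_ext ρ k (Cfsg.Agent.H464.Sl2.span_eq_top ρ habs)
  have hne := ext_ne_one ρ k hρ
  have hfin := finrank_eq (_root_.Cfsg.Agent.H464.Sl2.ext ρ k) hψ hKk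
  rcases dim_cases (_root_.Cfsg.Agent.H464.Sl2.ext ρ k) hψ hKk hspan hne with ⟨h1, -⟩ | ⟨h1, h2⟩
  · rw [Module.finrank_fin_fun, Finset.sum_congr rfl fun b hb => h1 b (Finset.ne_of_mem_erase hb), Finset.sum_const,
      Finset.card_erase_of_mem (Finset.mem_univ _), Finset.card_univ, smul_eq_mul, mul_one] at hfin
    have h0 : finrank k (LinearMap.range (E (_root_.Cfsg.Agent.H464.Sl2.ext ρ k) ψ 0)) = 2 := by omega
    apply (algebraMap F k).injective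
    rw [← trace_ext, trace_u (_root_.Cfsg.Agent.H464.Sl2.ext ρ k) hψ hKk, map_one, ← Finset.add_sum_erase _ _ (Finset.mem_univ (0 : K)), h0,
      zero_mul, AddChar.map_zero_eq_one, one_mul]
    have h3 : ∑ b ∈ Finset.univ.erase (0 : K), ψ (b * x) * ((finrank k (LinearMap.range (E (_root_.Cfsg.Agent.H464.Sl2.ext ρ k) ψ b)) : ℕ) : k) =
        ∑ b ∈ Finset.univ.erase (0 : K), ψ (b * x) := by
      refine Finset.sum_congr rfl fun b hb => ?_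
      rw [h1 b (Finset.ne_of_mem_erase hb), Nat.cast_one, mul_one]
    have h4 : ∑ b : K, ψ (b * x) = 0 := by
      rw [AddChar.sum_mulShift x hψ, if_neg hx, Nat.cast_zero]
    rw [← Finset.add_sum_erase _ _ (Finset.mem_univ (0 : K)), zero_mul, AddChar.map_zero_eq_one] at h4
    rw [h3, Nat.cast_ofNat]
    linear_combination h4
  · rw [Module.finrank_fin_fun] at h2
    omega

/-- the structure of the core -/
structure A5Data {F : Type u} [Field F] (ρ : Matrix.SpecialLinearGroup (Fin 2) (ZMod 5) →* GL (Fin 3 ⊕ Fin 3) F) : Prop where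
  inj : Function.Injective ρ
  neg : ρ (-1) = -1
  tru : ∀ x : ZMod 5, x ≠ 0 → tr (ρ (u x)) = 1
  irr : ActsAbsolutelyIrreducibly (matrixSet ρ.range)

variable {F : Type u} [Field F] [Fintype F] {H P : Subgroup (GL (Fin 3 ⊕ Fin 3) F)}

theorem center_sl {g : Matrix.SpecialLinearGroup (Fin 2) (ZMod 5)} (h : g ∈ Subgroup.center (Matrix.SpecialLinearGroup (Fin 2) (ZMod 5))) :
    g = 1 ∨ g = -1 := by
  rw [Subgroup.mem_center_iff] at h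
  have h1 := h (u 1)
  have h2 := h (w 1)
  have e1 := congrArg mt h1
  have e2 := congrArg mt h2
  rw [mt_mul, mt_mul] at e1 e2
  have hd : mt g 0 0 * mt g 1 1 - mt g 0 1 * mt g 1 0 = 1 := by
    have := g.2
    rwa [Matrix.det_fin_two] at this
  have hu : mt (u (1 : ZMod 5)) = !![1, 1; 0, 1] := rfl
  have hw : mt (w (1 : (ZMod 5)ˣ)) = !![0, -1; 1, 0] := by
    change !![0, -(((1 : (ZMod 5)ˣ)⁻¹ : (ZMod 5)ˣ) : ZMod 5); ((1 : (ZMod 5)ˣ) : ZMod 5), 0] = _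
    simp
  rw [hu] at e1
  rw [hw] at e2
  have a1 := congrFun (congrFun e1 0) 0
  have a2 := congrFun (congrFun e1 0) 1
  have b1 := congrFun (congrFun e2 0) 0
  simp only [Matrix.mul_apply, Fin.sum_univ_two, _root_.Fin.isValue, _root_.Matrix.of_apply, _root_.Matrix.cons_val', _root_.Matrix.cons_val_fin_one, _root_.Matrix.cons_val_zero, _root_.one_mul, _root_.Matrix.cons_val_one, _root_.mul_one, _root_.MulZeroClass.mul_zero, _root_.add_zero, _root_.add_eq_left, _root_.MulZeroClass.zero_mul, _root_.neg_mul, _root_.zero_add] at a1 a2 b1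
  have h10 : mt g 1 0 = 0 := a1
  have h01 : mt g 0 1 = 0 := by
    have h : mt g 0 1 = -mt g 1 0 := b1.symm
    rw [h, h10, neg_zero]
  have h11 : mt g 1 1 = mt g 0 0 := by
    have := a2
    rw [h01] at this
    simpa using this
  rw [h10, h01, h11, mul_zero, sub_zero] at hd
  rcases mul_self_eq_one_iff.1 hd with h | h
  · left
    apply mt_inj
    rw [mt_one, Matrix.eta_fin_two (mt g), h10, h01, h11, h]
    decide
  · right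
    apply mt_inj
    rw [mt_neg, mt_one, Matrix.eta_fin_two (mt g), h10, h01, h11, h]
    decide

theorem a5_data (S : Hyp 3 H P) (hneg : (-1 : GL (Fin 3 ⊕ Fin 3) F) ∈ P) (h2 : (2 : F) ≠ 0) (h5 : (5 : F) ≠ 0)
    (e : Soc P ≃* Matrix.ProjectiveSpecialLinearGroup (Fin 2) (ZMod 5)) :
    ∃ ρ : Matrix.SpecialLinearGroup (Fin 2) (ZMod 5) →* GL (Fin 3 ⊕ Fin 3) F, ρ.range = P ∧ A5Data ρ := by
  have hc : Fintype.card (ZMod 5) = 5 := ZMod.card 5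
  obtain ⟨ρ, hρ, he⟩ := l2_rep S.toCore (K := ZMod 5) (by rw [hc]) (by rw [hc]; norm_num) e
  have hneq : (-1 : GL (Fin 3 ⊕ Fin 3) F) ≠ 1 := by
    intro h
    have h1 := congrArg (fun g : GL (Fin 3 ⊕ Fin 3) F => (g : Matrix (Fin 3 ⊕ Fin 3) (Fin 3 ⊕ Fin 3) F) (Sum.inl 0) (Sum.inl 0)) h
    simp at h1
    apply h2
    linear_combination -h1
  have hker : ∀ g, ρ g ∈ scalars (Fin 3 ⊕ Fin 3) F → g = 1 ∨ g = -1 := by
    intro g hg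
    have hgP : ρ g ∈ P := hρ ▸ ⟨g, rfl⟩
    have h1 := he g hgP
    have h3 : toSoc P ⟨ρ g, hgP⟩ = 1 := by
      rw [← MonoidHom.mem_ker, ker_toSoc, Subgroup.mem_subgroupOf]
      exact hg
    rw [h3, map_one] at h1
    exact center_sl ((QuotientGroup.eq_one_iff g).1 h1.symm)
  have hn : ρ (-1) = -1 := by
    rw [← hρ] at hneg
    obtain ⟨g, hg⟩ := hneg
    rcases hker g (by
      rw [hg, mem_scalars_iff]
      exact ⟨-1, by simp only [_root_.Units.val_neg, _root_.Units.val_one, _root_.neg_smul, _root_.one_smul]⟩) with h | h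
    · rw [h, map_one] at hg
      exact absurd hg.symm hneq
    · rw [← h, hg]
  refine ⟨ρ, hρ, ?_, hn, ?_, ?_⟩
  · rw [injective_iff_map_eq_one]
    intro g hg
    rcases hker g (by rw [hg]; exact one_mem _) with h | h
    · exact h
    · rw [h, hn] at hg
      exact absurd hg hneq
  · intro x hx
    let re := reGL (F := F) (Fintype.equivFin (Fin 3 ⊕ Fin 3))
    have h1 : re.toMonoidHom.comp ρ ≠ 1 := by
      intro h
      have h4 : re (ρ (-1)) = 1 := DFunLike.congr_fun h (-1)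
      rw [hn] at h4
      exact hneq (re.injective (h4.trans (map_one re).symm))
    have h3 : ActsAbsolutelyIrreducibly (matrixSet (re.toMonoidHom.comp ρ).range) := by
      rw [MonoidHom.range_comp, hρ]
      exact absIrr_reGL _ S.core.absIrred
    have h4 := trace_u_succ (K := ZMod 5) (by rw [hc]; norm_num) (F := F) (by rw [hc]; exact_mod_cast h5)
      (re.toMonoidHom.comp ρ) h1 h3 (by rw [hc]; simp) hx
    rw [← h4]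
    exact (trace_reGL (Fintype.equivFin (Fin 3 ⊕ Fin 3)) (ρ (u x))).symm
  · rw [hρ]; exact S.core.absIrred

/-! ### the sum -/

theorem u_pow_five (x : ZMod 5) : u x ^ 5 = 1 := by
  have h : ∀ n : ℕ, u x ^ n = u (n • x) := by
    intro n
    induction n with
    | zero => rw [pow_zero, zero_smul, u_zero]
    | succ n ih => rw [pow_succ, ih, ← u_add, succ_nsmul]
  rw [h, ← u_zero (K := ZMod 5)]
  congr 1
  clear h
  revert x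
  decide

theorem t_pm {ε : (ZMod 5)ˣ} (h : ε ^ 2 = 1) : t ε = 1 ∨ t ε = -1 := by
  have h1 : (ε : ZMod 5) * ε = 1 := by rw [← sq, ← Units.val_pow_eq_pow_val, h, Units.val_one]
  rcases mul_self_eq_one_iff.1 h1 with h | h
  · left
    have : ε = 1 := Units.ext h
    rw [this, t_one]
  · right
    apply mt_inj
    have h3 : ((ε⁻¹ : (ZMod 5)ˣ) : ZMod 5) = -1 := by
      have : ε⁻¹ = ε := by
        rw [inv_eq_iff_mul_eq_one, ← sq]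
        exact Units.ext (by rw [Units.val_pow_eq_pow_val, sq, h1, Units.val_one])
      rw [this, h]
    change !![(ε : ZMod 5), 0; 0, ((ε⁻¹ : (ZMod 5)ˣ) : ZMod 5)] = _
    rw [h, h3, mt_neg, mt_one]
    decide

/-- the elements of `SL₂(5)` -/
theorem cases5 (g : Matrix.SpecialLinearGroup (Fin 2) (ZMod 5)) :
    (g = 1 ∨ g = -1) ∨ (∃ h x, x ≠ 0 ∧ g = h * u x * h⁻¹) ∨ (∃ h x, x ≠ 0 ∧ g = -(h * u x * h⁻¹)) ∨
      ((t2 g ≠ 2 ∧ t2 g ≠ 3) ∧ (g ^ 2 = -1 ∨ g ^ 3 = 1 ∨ g ^ 3 = -1)) := by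
  by_cases hpm : g = 1 ∨ g = -1
  · exact Or.inl hpm
  right
  by_cases ht : (g.1 0 0 + g.1 1 1) ^ 2 - 4 = 0
  · obtain ⟨h, ε, y, hε, rfl⟩ := exists_conj_unip g ht
    have hy : y ≠ 0 := by
      rintro rfl
      apply hpm
      rw [u_zero, mul_one]
      rcases t_pm hε with h1 | h1
      · left; rw [h1]; simp
      · right; rw [h1]; simp
    rcases t_pm hε with h1 | h1
    · left
      exact ⟨h, y, hy, by rw [h1, one_mul]⟩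
    · right; left
      exact ⟨h, y, hy, by rw [h1]; simp⟩
  · right; right
    have key : ∀ s : ZMod 5, s ^ 2 - 4 ≠ 0 → (s ≠ 2 ∧ s ≠ 3) ∧ (s = 0 ∨ s = -1 ∨ s = 1) := by decide
    obtain ⟨h1, h2⟩ := key (t2 g) ht
    refine ⟨h1, ?_⟩
    rcases h2 with h2 | h2 | h2
    · left
      apply mt_inj
      rw [mt_two, h2, zero_smul, zero_sub, mt_neg, mt_one]
    · right; left
      apply mt_inj
      rw [mt_three, h2, mt_one]
      norm_num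
    · right; right
      apply mt_inj
      rw [mt_three, h2, mt_neg, mt_one]
      norm_num

theorem t2_conj {R : Type*} [CommRing R] (h g : Matrix.SpecialLinearGroup (Fin 2) R) : t2 (h * g * h⁻¹) = t2 g := by
  have e : ∀ g : Matrix.SpecialLinearGroup (Fin 2) R, t2 g = (mt g).trace := fun g => by
    rw [Matrix.trace_fin_two]; rfl
  rw [e, e, mt_mul, mt_mul, Matrix.trace_mul_comm, ← Matrix.mul_assoc, ← mt_mul, inv_mul_cancel, mt_one, Matrix.one_mul]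

theorem t2_u (x : ZMod 5) : t2 (u x) = 2 := by
  change (1 : ZMod 5) + 1 = 2
  decide

variable {ρ : Matrix.SpecialLinearGroup (Fin 2) (ZMod 5) →* GL (Fin 3 ⊕ Fin 3) F}

theorem tr_neg (g : GL (Fin 3 ⊕ Fin 3) F) : tr (-g) = -tr g := by
  unfold tr
  rw [Units.val_neg, Matrix.trace_neg]

theorem A5Data.map_neg (D : A5Data ρ) (g : Matrix.SpecialLinearGroup (Fin 2) (ZMod 5)) : ρ (-g) = -ρ g := by
  have : -g = -1 * g := by simp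
  rw [this, map_mul, D.neg, neg_one_mul]

theorem conj_u_ne (h : Matrix.SpecialLinearGroup (Fin 2) (ZMod 5)) {x : ZMod 5} (hx : x ≠ 0) :
    h * u x * h⁻¹ ≠ 1 ∧ h * u x * h⁻¹ ≠ -1 := by
  have h5 : (h * u x * h⁻¹) ^ 5 = 1 := by
    rw [conj_pow, u_pow_five, mul_one, mul_inv_cancel]
  constructor
  · intro h0
    have h1 : u x = 1 := by
      have : h⁻¹ * (h * u x * h⁻¹) * h = h⁻¹ * 1 * h := by rw [h0]
      simpa [mul_assoc] using this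
    apply hx
    have h2 := congrFun (congrFun (congrArg mt h1) 0) 1
    simpa [mt] using h2
  · intro h0
    rw [h0] at h5
    apply neg_one_ne
    have e : (-1 : Matrix.SpecialLinearGroup (Fin 2) (ZMod 5)) ^ 5 = -1 := by
      rw [Odd.neg_one_pow (by decide)]
    rw [← e, h5]

theorem sum_product (D : A5Data ρ) (h2 : (2 : F) ≠ 0)
    {κ : Matrix.SpecialLinearGroup (Fin 2) (ZMod 5) →* Matrix.SpecialLinearGroup (Fin 2) F}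
    (hκ : Function.Injective κ) :
    ∑ g : Matrix.SpecialLinearGroup (Fin 2) (ZMod 5), sg (t2 (κ g⁻¹)) * tr (ρ g) = 120 := by
  have hone : tr (1 : GL (Fin 3 ⊕ Fin 3) F) = 6 := by
    unfold tr
    rw [Units.val_one, Matrix.trace_one]
    simp
  have hκ1 : ∀ g, κ g = 1 → g = 1 := fun g hg => hκ (hg.trans (map_one κ).symm)
  have hκ2 : ∀ g, κ g = -1 → g = -1 := fun g hg => hκ (hg.trans (kappa_neg_one h2 hκ).symm)
  have hiv : ∀ g, t2 (κ g⁻¹) = t2 (κ g) := by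
    intro g
    rw [map_inv]
    unfold t2
    have h1 : mt (κ g)⁻¹ 0 0 = mt (κ g) 1 1 := by
      change ((κ g)⁻¹).1 0 0 = _
      rw [Matrix.SpecialLinearGroup.coe_inv, Matrix.adjugate_fin_two]; rfl
    have h2 : mt (κ g)⁻¹ 1 1 = mt (κ g) 0 0 := by
      change ((κ g)⁻¹).1 1 1 = _
      rw [Matrix.SpecialLinearGroup.coe_inv, Matrix.adjugate_fin_two]; rfl
    rw [h1, h2, add_comm]
  have huκ : ∀ h x, x ≠ 0 → sg (t2 (κ (h * u x * h⁻¹))) = 1 := by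
    intro h x hx
    obtain ⟨hne1, hne2⟩ := conj_u_ne h hx
    have h5 : (h * u x * h⁻¹) ^ 5 = 1 := by
      rw [conj_pow, u_pow_five, mul_one, mul_inv_cancel]
    refine sg_five ?_ (fun h1 => hne1 (hκ1 _ h1)) (fun h1 => hne2 (hκ2 _ h1))
    rw [← map_pow, h5, map_one]
  have key : ∀ g, sg (t2 (κ g⁻¹)) * tr (ρ g) = ((cf (ent g) : ℤ) : F) := by
    intro g
    rw [hiv]
    have ht2 : (ent g).1 + (ent g).2.2.2 = t2 g := rfl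
    rcases cases5 g with (rfl | rfl) | ⟨h, x, hx, rfl⟩ | ⟨h, x, hx, rfl⟩ | ⟨⟨h1, h1'⟩, h3⟩
    · rw [map_one, map_one, t2_one, hone]
      have : cf (ent 1) = 36 := by decide
      rw [this]
      unfold sg
      norm_num
    · rw [kappa_neg_one h2 hκ, D.neg, t2_neg, t2_one, tr_neg, hone, sg_neg]
      have : cf (ent (-1)) = 36 := by decide
      rw [this]
      unfold sg
      norm_num
    · rw [huκ h x hx, map_mul, map_mul, map_inv, tr_conj, D.tru x hx]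
      have hnp : ¬ (ent (h * u x * h⁻¹) = (1, 0, 0, 1) ∨ ent (h * u x * h⁻¹) = (4, 0, 0, 4)) := by
        rw [← mem_pm]
        rintro (h0 | h0)
        · exact (conj_u_ne h hx).1 h0
        · exact (conj_u_ne h hx).2 h0
      unfold cf
      rw [if_neg hnp, ht2, t2_conj, t2_u]
      simp only [_root_.mul_one, _root_.true_or, ↓ _root_.reduceIte, _root_.Int.cast_one]
    · rw [kappa_neg h2 hκ, t2_neg, sg_neg, huκ h x hx, D.map_neg, tr_neg, map_mul, map_mul, map_inv, tr_conj, D.tru x hx]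
      have hnp : ¬ (ent (-(h * u x * h⁻¹)) = (1, 0, 0, 1) ∨ ent (-(h * u x * h⁻¹)) = (4, 0, 0, 4)) := by
        rw [← mem_pm]
        rintro (h0 | h0)
        · exact (conj_u_ne h hx).2 (by rw [← h0, neg_neg])
        · exact (conj_u_ne h hx).1 (neg_injective h0)
      unfold cf
      rw [if_neg hnp, ht2, t2_neg, t2_conj, t2_u]
      rw [if_pos (Or.inr (by decide))]
      simp
    · have hne1 : g ≠ 1 := by
        rintro rfl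
        exact h1 t2_one
      have hne2 : g ≠ -1 := by
        rintro rfl
        apply h1'
        rw [t2_neg, t2_one]
        decide
      have hk1 : κ g ≠ 1 := fun h => hne1 (hκ1 _ h)
      have hk2 : κ g ≠ -1 := fun h => hne2 (hκ2 _ h)
      have hs : sg (t2 (κ g)) = 0 := by
        rcases h3 with h3 | h3 | h3
        · exact sg_two (by rw [← map_pow, h3, kappa_neg_one h2 hκ]) hk1 hk2
        · exact sg_three (by rw [← map_pow, h3, map_one]) hk1 hk2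
        · have h4 : sg (t2 (κ (-g))) = 0 := by
            rw [kappa_neg h2 hκ]
            refine sg_three ?_ (fun h => hk2 (by rw [← h, neg_neg])) (fun h => hk1 (neg_injective h))
            rw [← kappa_neg h2 hκ, ← map_pow, Odd.neg_pow (by decide), h3, neg_neg, map_one]
          rw [kappa_neg h2 hκ, t2_neg, sg_neg] at h4
          exact neg_eq_zero.1 h4
      have hnp : ¬ (ent g = (1, 0, 0, 1) ∨ ent g = (4, 0, 0, 4)) := by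
        rw [← mem_pm]
        rintro (h0 | h0)
        · exact hne1 h0
        · exact hne2 h0
      unfold cf
      rw [hs, zero_mul, if_neg hnp, ht2, if_neg (by rintro (h | h) <;> contradiction)]
      simp
  rw [Finset.sum_congr rfl fun g _ => key g, ← Int.cast_sum, sum_cf]
  norm_num

end Cfsg.Agent.H914.S6
end

-- part: H914/SixA5b
section
/-!
# `SL₂(5)` in `Sp₆(F)` (helper914): `H = P` if `2` is no square
-/

set_option autoImplicit false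
set_option linter.unusedSectionVars false
set_option maxHeartbeats 400000

namespace Cfsg.Agent.H914.S6

open Cfsg Cfsg.Geo Matrix Cfsg.Agent.H915.LD Cfsg.Agent.H464.Sl2 Module

universe u v

local instance fact5' : Fact (Nat.Prime 5) := ⟨Nat.prime_five⟩

variable {F : Type u} [Field F] [Fintype F] {H P : Subgroup (GL (Fin 3 ⊕ Fin 3) F)}
  {ρ : Matrix.SpecialLinearGroup (Fin 2) (ZMod 5) →* GL (Fin 3 ⊕ Fin 3) F}

/-! ### generation -/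

theorem u_eq_pow (n : ℕ) : u (n : ZMod 5) = u 1 ^ n := by
  induction n with
  | zero => rw [Nat.cast_zero, u_zero, pow_zero]
  | succ n ih => rw [Nat.cast_succ, u_add, ih, pow_succ]

theorem w_eq {K : Type*} [Field K] (c : Kˣ) :
    w c = u (-((c⁻¹ : Kˣ) : K)) * (w 1 * u (-(c : K)) * w (-1)) * u (-((c⁻¹ : Kˣ) : K)) := by
  apply Subtype.ext
  ext i j
  (revert i j; simp [_root_.Fin.forall_fin_succ])

theorem gen_top {C : Subgroup (Matrix.SpecialLinearGroup (Fin 2) (ZMod 5))} (hu : u 1 ∈ C) (hw : w 1 ∈ C) : C = ⊤ := by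
  have hu' : ∀ x : ZMod 5, u x ∈ C := by
    intro x
    have : u x = u 1 ^ x.val := by rw [← u_eq_pow, ZMod.natCast_zmod_val]
    rw [this]
    exact C.pow_mem hu _
  have hwm : w (-1 : (ZMod 5)ˣ) = (w 1)⁻¹ := by
    rw [eq_inv_iff_mul_eq_one, w_mul_w]
    have : (-(1 / (-1 : (ZMod 5)ˣ)) : (ZMod 5)ˣ) = 1 := by
      rw [one_div, inv_neg, inv_one, neg_neg]
    rw [this, t_one]
  have hw' : ∀ c : (ZMod 5)ˣ, w c ∈ C := by
    intro c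
    rw [w_eq c, hwm]
    exact C.mul_mem (C.mul_mem (hu' _) (C.mul_mem (C.mul_mem hw (hu' _)) (C.inv_mem hw))) (hu' _)
  rw [eq_top_iff]
  intro g _
  rcases bruhat g with ⟨x, a, rfl⟩ | ⟨x, c, y, rfl⟩
  · refine C.mul_mem (hu' _) ?_
    have : t a = (w 1)⁻¹ * w a := by rw [eq_inv_mul_iff_mul_eq, w_one_mul_t]
    rw [this]
    exact C.mul_mem (C.inv_mem hw) (hw' _)
  · exact C.mul_mem (C.mul_mem (hu' _) (hw' _)) (hu' _)

/-- elements behaving like `w 1` -/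
theorem w_like {g : Matrix.SpecialLinearGroup (Fin 2) (ZMod 5)} (h1 : g ^ 2 = -1) (h2 : (u 1 * g) ^ 3 = -1) :
    ∃ a : ZMod 5, g = u a * w 1 * u (-a) := by
  have hM0 : mt g ≠ 0 := by
    intro h
    have hd : (mt g).det = 1 := g.2
    rw [h, Matrix.det_fin_two] at hd
    simp only [_root_.Matrix.zero_apply, _root_.MulZeroClass.mul_zero, _root_.sub_self, _root_.zero_ne_one] at hd
  have ht : t2 g = 0 := by
    have h := mt_two g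
    rw [h1, mt_neg, mt_one, eq_sub_iff_add_eq, neg_add_cancel] at h
    rcases smul_eq_zero.1 h.symm with h | h
    · exact h
    · exact absurd h hM0
  have hug1 : u 1 * g ≠ 1 := by
    intro h
    rw [h, one_pow] at h2
    exact neg_one_ne h2.symm
  have htu : t2 (u 1 * g) = t2 g + mt g 1 0 := by
    unfold t2
    have hu : mt (u (1 : ZMod 5)) = !![1, 1; 0, 1] := rfl
    rw [mt_mul, hu, Matrix.mul_apply, Matrix.mul_apply, Fin.sum_univ_two, Fin.sum_univ_two]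
    simp only [_root_.Fin.isValue, _root_.Matrix.of_apply, _root_.Matrix.cons_val', _root_.Matrix.cons_val_zero, _root_.Matrix.cons_val_fin_one, _root_.one_mul, _root_.Matrix.cons_val_one, _root_.MulZeroClass.zero_mul, _root_.zero_add]
    ring
  have hug2 : u 1 * g ≠ -1 := by
    intro h
    have h3 : g = -(u (-1)) := by
      have h4 : u (-1 : ZMod 5) * u 1 = 1 := by rw [← u_add, neg_add_cancel, u_zero]
      calc g = u (-1) * (u 1 * g) := by rw [← mul_assoc, h4, one_mul]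
        _ = _ := by rw [h]; simp
    rw [h3, t2_neg, t2_u] at ht
    revert ht
    decide
  have h3 := mt_three (u 1 * g)
  rw [h2, mt_neg, mt_one] at h3
  obtain ⟨-, e2⟩ := lin_rel (g := u 1 * g) (α := t2 (u 1 * g) ^ 2 - 1) (β := t2 (u 1 * g) - 1) (by
    rw [eq_sub_iff_add_eq] at h3
    rw [← h3, sub_smul, one_smul]
    abel) hug1 hug2
  rw [htu, ht, zero_add, sub_eq_zero] at e2
  have hd : mt g 0 0 * mt g 1 1 - mt g 0 1 * mt g 1 0 = 1 := by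
    have := g.2
    rwa [Matrix.det_fin_two] at this
  have h11 : mt g 1 1 = -mt g 0 0 := by
    have : mt g 0 0 + mt g 1 1 = 0 := ht
    linear_combination this
  have h01 : mt g 0 1 = -(mt g 0 0 * mt g 0 0) - 1 := by
    rw [e2, h11] at hd
    linear_combination -hd
  refine ⟨mt g 0 0, mt_inj ?_⟩
  have hu : ∀ x : ZMod 5, mt (u x) = !![1, x; 0, 1] := fun _ => rfl
  have hw : mt (w (1 : (ZMod 5)ˣ)) = !![0, -1; 1, 0] := by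
    change !![0, -(((1 : (ZMod 5)ˣ)⁻¹ : (ZMod 5)ˣ) : ZMod 5); ((1 : (ZMod 5)ˣ) : ZMod 5), 0] = _
    simp
  rw [mt_mul, mt_mul, hu, hu, hw, Matrix.eta_fin_two (mt g), e2, h11, h01]
  simp only [Matrix.of_apply, Matrix.cons_val', Matrix.cons_val_zero]
  ext i j
  (revert i j; simp only [Matrix.mul_apply, Fin.sum_univ_two, _root_.Fin.forall_fin_succ, Fin.isValue, _root_.Matrix.of_apply, _root_.Matrix.cons_val', _root_.Matrix.cons_val_fin_one, _root_.Matrix.cons_mul, _root_.Nat.succ_eq_add_one, Nat.reduceAdd, _root_.Matrix.vecMul_cons, _root_.Matrix.head_cons, _root_.one_smul, _root_.Matrix.tail_cons, _root_.Matrix.smul_cons, _root_.smul_eq_mul, _root_.mul_one, _root_.MulZeroClass.mul_zero, _root_.Matrix.smul_empty, _root_.Matrix.empty_vecMul, _root_.add_zero, _root_.Matrix.add_cons, _root_.zero_add, _root_.Matrix.empty_add_empty, _root_.zero_smul,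 _root_.Matrix.empty_mul, _root_.Equiv.symm_apply_apply, _root_.Matrix.cons_val_zero, _root_.Matrix.cons_val_one, _root_.Matrix.cons_val_succ, _root_.mul_neg, _root_.forall_const, _root_.true_and, _root_.one_mul, _root_.implies_true, _root_.and_true]) <;> (repeat' with_reducible apply And.intro) <;> ring

/-! ### the action of `H` -/

/-- an element of `H` centralising `ρ(u 1)` -/
theorem centralizer_u (S : Hyp 3 H P) (hρ : ρ.range = P) (D : A5Data ρ) {h : GL (Fin 3 ⊕ Fin 3) F} (hh : h ∈ H)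
    (hu : h * ρ (u 1) * h⁻¹ = ρ (u 1)) : ∃ a : ZMod 5, h = ρ (u a) ∨ h = -ρ (u a) := by
  have hP : ∀ g, ρ g ∈ P := fun g => hρ ▸ ⟨g, rfl⟩
  have hw : h * ρ (w 1) * h⁻¹ ∈ P := S.core.normal h hh _ (hP _)
  rw [← hρ] at hw
  obtain ⟨g, hg⟩ := hw
  have hw2 : (w (1 : (ZMod 5)ˣ)) ^ 2 = -1 := by
    rw [pow_two, w_mul_w]
    apply mt_inj
    change !![((-(1 / 1) : (ZMod 5)ˣ) : ZMod 5), 0; 0, (((-(1 / 1) : (ZMod 5)ˣ)⁻¹ : (ZMod 5)ˣ) : ZMod 5)] = _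
    rw [mt_neg, mt_one]
    simp
    decide
  have hw3 : (u 1 * w (1 : (ZMod 5)ˣ)) ^ 3 = -1 := by
    have ht : t2 (u 1 * w (1 : (ZMod 5)ˣ)) = 1 := by
      unfold t2
      have hu : mt (u (1 : ZMod 5)) = !![1, 1; 0, 1] := rfl
      have hw : mt (w (1 : (ZMod 5)ˣ)) = !![0, -1; 1, 0] := by
        change !![0, -(((1 : (ZMod 5)ˣ)⁻¹ : (ZMod 5)ˣ) : ZMod 5); ((1 : (ZMod 5)ˣ) : ZMod 5), 0] = _
        simp
      rw [mt_mul, hu, hw]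
      simp
    apply mt_inj
    rw [mt_three, ht, mt_neg, mt_one]
    simp
  have hg2 : g ^ 2 = -1 := by
    apply D.inj
    rw [map_pow, hg, conj_pow, ← map_pow, hw2, D.neg]
    simp only [_root_.mul_neg, _root_.mul_one, _root_.neg_mul, _root_.mul_inv_cancel]
  have hg3 : (u 1 * g) ^ 3 = -1 := by
    apply D.inj
    rw [map_pow, map_mul, hg, D.neg]
    conv_lhs => rw [← hu]
    have : h * ρ (u 1) * h⁻¹ * (h * ρ (w 1) * h⁻¹) = h * ρ (u 1 * w 1) * h⁻¹ := by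
      rw [map_mul]; group
    rw [this, conj_pow, ← map_pow, hw3, D.neg]
    simp only [_root_.mul_neg, _root_.mul_one, _root_.neg_mul, _root_.mul_inv_cancel]
  obtain ⟨a, rfl⟩ := w_like hg2 hg3
  refine ⟨a, ?_⟩
  have hy : ρ (u a) ∈ P := hP _
  refine S.inner hh hy ?_
  -- the centraliser
  let k := (ρ (u a))⁻¹ * h
  have hinv : (u a)⁻¹ = u (-a) := by
    rw [inv_eq_iff_mul_eq_one, ← u_add, add_neg_cancel, u_zero]
  have hcom : ∀ x : ZMod 5, u x * u a = u a * u x := fun x => by rw [← u_add, ← u_add, add_comm]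
  let C : Subgroup (Matrix.SpecialLinearGroup (Fin 2) (ZMod 5)) :=
    (MulAut.conj k).toMonoidHom.comp ρ |>.eqLocus ρ
  have hCu : u 1 ∈ C := by
    change k * ρ (u 1) * k⁻¹ = ρ (u 1)
    have e1 : k * ρ (u 1) * k⁻¹ = (ρ (u a))⁻¹ * (h * ρ (u 1) * h⁻¹) * ρ (u a) := by
      simp only [k]; group
    have e2 : (u a)⁻¹ * u 1 * u a = u 1 := by
      rw [_root_.mul_assoc, hcom, ← _root_.mul_assoc, inv_mul_cancel, _root_.one_mul]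
    rw [e1, hu, ← map_inv, ← map_mul, ← map_mul, e2]
  have hCw : w 1 ∈ C := by
    change k * ρ (w 1) * k⁻¹ = ρ (w 1)
    have e1 : k * ρ (w 1) * k⁻¹ = (ρ (u a))⁻¹ * (h * ρ (w 1) * h⁻¹) * ρ (u a) := by
      simp only [k]; group
    have h1 : u (-a) * u a = 1 := by rw [← u_add, neg_add_cancel, u_zero]
    have e2 : (u a)⁻¹ * (u a * w 1 * u (-a)) * u a = w 1 := by
      rw [hinv, _root_.mul_assoc, _root_.mul_assoc (u a * w 1), h1, _root_.mul_one, ← _root_.mul_assoc, h1,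
        _root_.one_mul]
    rw [e1, ← hg, ← map_inv, ← map_mul, ← map_mul, e2]
  have hC := gen_top hCu hCw
  intro x hx
  rw [← hρ] at hx
  obtain ⟨z, rfl⟩ := hx
  have hz : z ∈ C := by rw [hC]; trivial
  have hz' : k * ρ z * k⁻¹ = ρ z := hz
  change k * ρ z * k⁻¹ * (ρ z)⁻¹ ∈ _
  rw [hz', mul_inv_cancel]
  exact one_mem _

end Cfsg.Agent.H914.S6
end

-- part: H914/SpinA
section
/-!
# The 8-dimensional (spin) module of `Sp_6(F)` in characteristic two (helper914)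

`d3`, `cauchy_binet` : the determinant of a product of a `3 × 6` and a `6 × 3` matrix
-/

set_option autoImplicit false
set_option linter.unusedSectionVars false
set_option maxHeartbeats 400000

namespace Cfsg.Agent.H914.S6.Spin

universe u

/-- the determinant of three vectors -/
def d3 {R : Type u} [CommRing R] (u v w : Fin 3 → R) : R :=
  u 0 * (v 1 * w 2 - v 2 * w 1) - v 0 * (u 1 * w 2 - u 2 * w 1) + w 0 * (u 1 * v 2 - u 2 * v 1)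

variable {R : Type u} [CommRing R]

/-- the Cauchy-Binet formula, `3 × 6` -/
theorem cauchy_binet (p q x y : Fin 3 → Fin 3 → R) :
    d3 (fun r => ∑ i, (p i r * x i 0 + q i r * y i 0)) (fun r => ∑ i, (p i r * x i 1 + q i r * y i 1))
      (fun r => ∑ i, (p i r * x i 2 + q i r * y i 2)) =
    (d3 (p 0) (p 1) (p 2) * d3 (x 0) (x 1) (x 2) + d3 (p 0) (p 1) (q 2) * d3 (x 0) (x 1) (y 2) +
     d3 (p 0) (q 1) (p 2) * d3 (x 0) (y 1) (x 2) + d3 (p 0) (q 1) (q 2) * d3 (x 0) (y 1) (y 2) +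
     d3 (q 0) (p 1) (p 2) * d3 (y 0) (x 1) (x 2) + d3 (q 0) (p 1) (q 2) * d3 (y 0) (x 1) (y 2) +
     d3 (q 0) (q 1) (p 2) * d3 (y 0) (y 1) (x 2) + d3 (q 0) (q 1) (q 2) * d3 (y 0) (y 1) (y 2)) +
    ((d3 (p 0) (q 0) (p 1) * d3 (x 0) (y 0) (x 1) + d3 (p 2) (q 2) (p 1) * d3 (x 2) (y 2) (x 1)) +
     (d3 (p 0) (q 0) (q 1) * d3 (x 0) (y 0) (y 1) + d3 (p 2) (q 2) (q 1) * d3 (x 2) (y 2) (y 1)) +
     (d3 (p 0) (q 0) (p 2) * d3 (x 0) (y 0) (x 2) + d3 (p 1) (q 1) (p 2) * d3 (x 1) (y 1) (x 2)) +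
     (d3 (p 0) (q 0) (q 2) * d3 (x 0) (y 0) (y 2) + d3 (p 1) (q 1) (q 2) * d3 (x 1) (y 1) (y 2)) +
     (d3 (p 1) (q 1) (p 0) * d3 (x 1) (y 1) (x 0) + d3 (p 2) (q 2) (p 0) * d3 (x 2) (y 2) (x 0)) +
     (d3 (p 1) (q 1) (q 0) * d3 (x 1) (y 1) (y 0) + d3 (p 2) (q 2) (q 0) * d3 (x 2) (y 2) (y 0))) := by
  simp only [Fin.sum_univ_three, d3]
  ring

end Cfsg.Agent.H914.S6.Spin
end

-- part: H914/SpinB
section
/-!
# The 8-dimensional (spin) module of `Sp_6` in characteristic two (helper914)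

`ix ε r` : the coordinate `r` or its dual; `C g` : the matrix of the `3 × 3` minors of `g` at these triples.

* `C_mul` : `C (g * h) = C g * C h` for `g`, `h` symplectic, characteristic two
* `C_one`, `C_transpose`
-/

set_option autoImplicit false
set_option linter.unusedSectionVars false
set_option maxHeartbeats 400000

namespace Cfsg.Agent.H914.S6.Spin

open Matrix

universe u

/-- the index set of the spin module -/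
abbrev E : Type := Bool × Bool × Bool

/-- the coordinate `r`, or its dual -/
def cr (b : Bool) (r : Fin 3) : Fin 3 ⊕ Fin 3 := bif b then Sum.inr r else Sum.inl r

@[simp] theorem cr_false (r : Fin 3) : cr false r = Sum.inl r := rfl
@[simp] theorem cr_true (r : Fin 3) : cr true r = Sum.inr r := rfl

/-- the triple of coordinates of `ε` -/
def ix (ε : E) : Fin 3 → Fin 3 ⊕ Fin 3 := ![cr ε.1 0, cr ε.2.1 1, cr ε.2.2 2]

theorem ix_zero (ε : E) : ix ε 0 = cr ε.1 0 := rfl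
theorem ix_one (ε : E) : ix ε 1 = cr ε.2.1 1 := rfl
theorem ix_two (ε : E) : ix ε 2 = cr ε.2.2 2 := rfl

variable {R : Type u} [CommRing R]

/-- the matrix of the `3 × 3` minors -/
def C (g : Matrix (Fin 3 ⊕ Fin 3) (Fin 3 ⊕ Fin 3) R) : Matrix E E R := Matrix.of fun δ ε =>
  d3 (fun r => g (ix δ r) (ix ε 0)) (fun r => g (ix δ r) (ix ε 1)) (fun r => g (ix δ r) (ix ε 2))

theorem C_apply (g : Matrix (Fin 3 ⊕ Fin 3) (Fin 3 ⊕ Fin 3) R) (δ ε : E) : C g δ ε =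
    d3 (fun r => g (ix δ r) (ix ε 0)) (fun r => g (ix δ r) (ix ε 1)) (fun r => g (ix δ r) (ix ε 2)) := rfl

theorem d3_transpose (M : Fin 3 → Fin 3 → R) :
    d3 (fun r => M r 0) (fun r => M r 1) (fun r => M r 2) = d3 (M 0) (M 1) (M 2) := by
  unfold d3
  ring

theorem C_apply' (g : Matrix (Fin 3 ⊕ Fin 3) (Fin 3 ⊕ Fin 3) R) (δ ε : E) : C g δ ε =
    d3 (fun s => g (ix δ 0) (ix ε s)) (fun s => g (ix δ 1) (ix ε s)) (fun s => g (ix δ 2) (ix ε s)) :=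
  d3_transpose (fun r s => g (ix δ r) (ix ε s))

theorem C_transpose (g : Matrix (Fin 3 ⊕ Fin 3) (Fin 3 ⊕ Fin 3) R) : C gᵀ = (C g)ᵀ := by
  ext δ ε
  rw [Matrix.transpose_apply, C_apply, C_apply]
  simp only [Matrix.transpose_apply]
  exact d3_transpose (fun r s => g (ix ε s) (ix δ r))

theorem C_one : C (1 : Matrix (Fin 3 ⊕ Fin 3) (Fin 3 ⊕ Fin 3) R) = 1 := by
  ext ⟨a, b, c⟩ ⟨a', b', c'⟩
  rw [C_apply]
  simp only [d3, ix_zero, ix_one, ix_two, Matrix.one_apply]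
  rcases a <;> rcases b <;> rcases c <;> rcases a' <;> rcases b' <;> rcases c' <;> simp

/-- symplectic matrices -/
def Sy (g : Matrix (Fin 3 ⊕ Fin 3) (Fin 3 ⊕ Fin 3) R) : Prop := gᵀ * J (Fin 3) R * g = J (Fin 3) R

theorem Sy.right {g : Matrix (Fin 3 ⊕ Fin 3) (Fin 3 ⊕ Fin 3) R} (h : Sy g) :
    g * J (Fin 3) R * gᵀ = J (Fin 3) R := by
  have hJ : J (Fin 3) R * J (Fin 3) R = -1 := J_squared _ _
  have h2 : (-(J (Fin 3) R * gᵀ * J (Fin 3) R)) * g = 1 := by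
    rw [Matrix.neg_mul, Matrix.mul_assoc, Matrix.mul_assoc, ← Matrix.mul_assoc _ (J (Fin 3) R), h, hJ, neg_neg]
  have h3 := mul_eq_one_comm.1 h2
  rw [Matrix.mul_neg, ← Matrix.mul_assoc, ← Matrix.mul_assoc] at h3
  have h4 : g * J (Fin 3) R * gᵀ * (J (Fin 3) R * J (Fin 3) R) = -J (Fin 3) R := by
    rw [← Matrix.mul_assoc, ← neg_neg (g * J (Fin 3) R * gᵀ * J (Fin 3) R), h3, Matrix.neg_mul, Matrix.one_mul]
  rw [hJ, Matrix.mul_neg, Matrix.mul_one] at h4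
  exact neg_injective h4

/-- the rows of a symplectic matrix -/
theorem Sy.row {g : Matrix (Fin 3 ⊕ Fin 3) (Fin 3 ⊕ Fin 3) R} (h : Sy g) (a b : Fin 3 ⊕ Fin 3) :
    ∑ i, (g a (Sum.inr i) * g b (Sum.inl i) - g a (Sum.inl i) * g b (Sum.inr i)) = J (Fin 3) R a b := by
  have h1 := congrFun (congrFun h.right a) b
  rw [← h1]
  simp only [Matrix.mul_apply, Matrix.transpose_apply, Fintype.sum_sum_type, J, Matrix.fromBlocks_apply₁₁,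
    Matrix.fromBlocks_apply₁₂, Matrix.fromBlocks_apply₂₁, Matrix.fromBlocks_apply₂₂, Matrix.zero_apply,
    Matrix.neg_apply, Matrix.one_apply, Fin.sum_univ_three]
  simp only [_root_.Fin.isValue, _root_.MulZeroClass.mul_zero, _root_.add_zero, ↓ _root_.reduceIte, _root_.mul_one, _root_.one_ne_zero, _root_.Fin.reduceEq, _root_.zero_add, _root_.zero_ne_one, _root_.mul_neg, _root_.neg_zero, _root_.neg_mul]
  ring

/-- the columns of a symplectic matrix -/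
theorem Sy.col {g : Matrix (Fin 3 ⊕ Fin 3) (Fin 3 ⊕ Fin 3) R} (h : Sy g) (a b : Fin 3 ⊕ Fin 3) :
    ∑ i, (g (Sum.inr i) a * g (Sum.inl i) b - g (Sum.inl i) a * g (Sum.inr i) b) = J (Fin 3) R a b := by
  have h1 := congrFun (congrFun h a) b
  rw [← h1]
  simp only [Matrix.mul_apply, Matrix.transpose_apply, Fintype.sum_sum_type, J, Matrix.fromBlocks_apply₁₁,
    Matrix.fromBlocks_apply₁₂, Matrix.fromBlocks_apply₂₁, Matrix.fromBlocks_apply₂₂, Matrix.zero_apply,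
    Matrix.neg_apply, Matrix.one_apply, Fin.sum_univ_three]
  simp only [_root_.Fin.isValue, _root_.MulZeroClass.mul_zero, _root_.add_zero, ↓ _root_.reduceIte, _root_.mul_one, _root_.one_ne_zero, _root_.Fin.reduceEq, _root_.zero_add, _root_.zero_ne_one, _root_.mul_neg, _root_.neg_zero, _root_.neg_mul]
  ring

theorem Sy.transpose {g : Matrix (Fin 3 ⊕ Fin 3) (Fin 3 ⊕ Fin 3) R} (h : Sy g) : Sy gᵀ := by
  unfold Sy
  rw [Matrix.transpose_transpose]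
  exact h.right

theorem Sy.mul {g h : Matrix (Fin 3 ⊕ Fin 3) (Fin 3 ⊕ Fin 3) R} (hg : Sy g) (hh : Sy h) : Sy (g * h) := by
  unfold Sy at *
  rw [Matrix.transpose_mul, Matrix.mul_assoc, Matrix.mul_assoc, ← Matrix.mul_assoc (J (Fin 3) R),
    ← Matrix.mul_assoc gᵀ, ← Matrix.mul_assoc gᵀ, hg, ← Matrix.mul_assoc, hh]

theorem J_ix (ε : E) (r s : Fin 3) : J (Fin 3) R (ix ε r) (ix ε s) = 0 := by
  obtain ⟨a, b, c⟩ := ε
  fin_cases r <;> fin_cases s <;> rcases a <;> rcases b <;> rcases c <;> simp [ix, J]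

/-- the contraction relation -/
theorem contr {p q : Fin 3 → Fin 3 → R} (h : ∀ r s, ∑ i, (q i r * p i s - p i r * q i s) = 0) (v : Fin 3 → R) :
    d3 (p 0) (q 0) v + d3 (p 1) (q 1) v + d3 (p 2) (q 2) v = 0 := by
  have h1 := h 1 0
  have h2 := h 2 0
  have h3 := h 2 1
  simp only [Fin.sum_univ_three] at h1 h2 h3
  unfold d3
  linear_combination v 2 * h1 - v 1 * h2 + v 0 * h3

theorem d3_self_left (u v : Fin 3 → R) : d3 u v u = 0 := by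
  unfold d3
  ring

theorem d3_self_right (u v : Fin 3 → R) : d3 u v v = 0 := by
  unfold d3
  ring

theorem pair_zero (h2 : (2 : R) = 0) {a a' b b' : R} (ha : a + a' = 0) (hb : b + b' = 0) : a * b + a' * b' = 0 := by
  linear_combination (b' ) * ha + a * hb - a * b' * h2

/-- **Multiplicativity of the spin module** -/
theorem C_mul (h2 : (2 : R) = 0) {g h : Matrix (Fin 3 ⊕ Fin 3) (Fin 3 ⊕ Fin 3) R} (hg : Sy g) (hh : Sy h) :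
    C (g * h) = C g * C h := by
  ext δ ε
  have key := cauchy_binet (fun i r => g (ix δ r) (Sum.inl i)) (fun i r => g (ix δ r) (Sum.inr i))
    (fun i c => h (Sum.inl i) (ix ε c)) (fun i c => h (Sum.inr i) (ix ε c))
  have hA := contr (p := fun i r => g (ix δ r) (Sum.inl i)) (q := fun i r => g (ix δ r) (Sum.inr i))
    (fun r s => (hg.row (ix δ r) (ix δ s)).trans (J_ix δ r s))
  have hB := contr (p := fun i c => h (Sum.inl i) (ix ε c)) (q := fun i c => h (Sum.inr i) (ix ε c))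
    (fun r s => (hh.col (ix ε r) (ix ε s)).trans (J_ix ε r s))
  have e : ∀ c, (fun r => (g * h) (ix δ r) c) = fun r => ∑ i, (g (ix δ r) (Sum.inl i) * h (Sum.inl i) c +
      g (ix δ r) (Sum.inr i) * h (Sum.inr i) c) := by
    intro c
    funext r
    rw [Matrix.mul_apply, Fintype.sum_sum_type, Finset.sum_add_distrib]
  rw [C_apply, e, e, e]
  beta_reduce at key hA hB
  rw [key, Matrix.mul_apply]
  have e2 : ∀ η, C g δ η * C h η ε = d3 (fun r => g (ix δ r) (ix η 0)) (fun r => g (ix δ r) (ix η 1))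
      (fun r => g (ix δ r) (ix η 2)) * d3 (fun s => h (ix η 0) (ix ε s)) (fun s => h (ix η 1) (ix ε s))
      (fun s => h (ix η 2) (ix ε s)) := fun η => by rw [C_apply g, C_apply' h]
  simp only [e2, Fintype.sum_prod_type, Fintype.sum_bool, ix_zero, ix_one, ix_two, cr_true, cr_false]
  have zA1 := hA (fun r => g (ix δ r) (Sum.inl 1))
  have zA2 := hA (fun r => g (ix δ r) (Sum.inr 1))
  have zA3 := hA (fun r => g (ix δ r) (Sum.inl 2))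
  have zA4 := hA (fun r => g (ix δ r) (Sum.inr 2))
  have zA5 := hA (fun r => g (ix δ r) (Sum.inl 0))
  have zA6 := hA (fun r => g (ix δ r) (Sum.inr 0))
  have zB1 := hB (fun c => h (Sum.inl 1) (ix ε c))
  have zB2 := hB (fun c => h (Sum.inr 1) (ix ε c))
  have zB3 := hB (fun c => h (Sum.inl 2) (ix ε c))
  have zB4 := hB (fun c => h (Sum.inr 2) (ix ε c))
  have zB5 := hB (fun c => h (Sum.inl 0) (ix ε c))
  have zB6 := hB (fun c => h (Sum.inr 0) (ix ε c))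
  simp only [d3_self_left, d3_self_right, add_zero, zero_add] at zA1 zA2 zA3 zA4 zA5 zA6 zB1 zB2 zB3 zB4 zB5 zB6
  rw [pair_zero h2 zA1 zB1, pair_zero h2 zA2 zB2, pair_zero h2 zA3 zB3, pair_zero h2 zA4 zB4,
    pair_zero h2 zA5 zB5, pair_zero h2 zA6 zB6]
  ring

end Cfsg.Agent.H914.S6.Spin
end

-- part: H914/SpinC
section
/-!
# Lines fixed in the spin module (helper914)

* `Sy.gl`, `sy_of_mem`, `mem_of_sy` : symplectic matrices and `spGL 3 F`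
* `C_form` : the form `C J` is invariant
* `lineStab` : the stabiliser in `spGL 3 F` of a line of the spin module
* `false_of_line` : a residual maximal subgroup does not fix a line if it is small
-/

set_option autoImplicit false
set_option linter.unusedSectionVars false
set_option maxHeartbeats 400000

namespace Cfsg.Agent.H914.S6.Spin

open Matrix Cfsg Cfsg.Geo Cfsg.Agent.H915.LD
open scoped MatrixGroups

universe u

section Ring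

variable {R : Type u} [CommRing R]

theorem Sy.J : Sy (J (Fin 3) R) := by
  unfold Sy
  rw [Matrix.J_transpose, Matrix.neg_mul, Matrix.J_squared, neg_neg, Matrix.one_mul]

theorem Sy.one : Sy (1 : Matrix (Fin 3 ⊕ Fin 3) (Fin 3 ⊕ Fin 3) R) := by
  unfold Sy
  rw [Matrix.transpose_one, Matrix.one_mul, Matrix.mul_one]

/-- the invariant form of the spin module -/
theorem C_form (h2 : (2 : R) = 0) {g : Matrix (Fin 3 ⊕ Fin 3) (Fin 3 ⊕ Fin 3) R} (hg : Sy g) :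
    (C g)ᵀ * C (Matrix.J (Fin 3) R) * C g = C (Matrix.J (Fin 3) R) := by
  rw [← C_transpose, ← C_mul h2 hg.transpose Sy.J, ← C_mul h2 (hg.transpose.mul Sy.J) hg, hg]

/-- the opposite triple -/
def bar (ε : E) : E := (!ε.1, !ε.2.1, !ε.2.2)

theorem C_J_apply (h2 : (2 : R) = 0) (δ ε : E) : C (Matrix.J (Fin 3) R) δ ε = if δ = bar ε then 1 else 0 := by
  have hneg : (-1 : R) = 1 := by linear_combination (-1 : R) * h2
  obtain ⟨a, b, c⟩ := δ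
  obtain ⟨a', b', c'⟩ := ε
  rw [C_apply]
  simp only [d3, ix_zero, ix_one, ix_two, Matrix.J]
  rcases a <;> rcases b <;> rcases c <;> rcases a' <;> rcases b' <;> rcases c' <;> simp [bar, hneg]

theorem C_J_mulVec (h2 : (2 : R) = 0) (n : E → R) (ε : E) : (C (Matrix.J (Fin 3) R) *ᵥ n) ε = n (bar ε) := by
  simp only [Matrix.mulVec, dotProduct, C_J_apply h2]
  have : ∀ x : E, (if ε = bar x then (1 : R) else 0) * n x = if x = bar ε then n x else 0 := by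
    intro x
    have h : (ε = bar x) ↔ (x = bar ε) := by
      constructor
      · rintro rfl
        simp [bar]
      · rintro rfl
        simp [bar]
    by_cases hx : x = bar ε
    · rw [if_pos (h.2 hx), if_pos hx, one_mul]
    · rw [if_neg (fun h' => hx (h.1 h')), if_neg hx, zero_mul]
  simp only [this, Finset.sum_ite_eq', Finset.mem_univ, if_true]

end Ring

section Field

variable {F : Type u} [Field F]

theorem sy_of_mem {g : GL (Fin 3 ⊕ Fin 3) F} (hg : g ∈ spGL 3 F) :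
    Sy (g : Matrix (Fin 3 ⊕ Fin 3) (Fin 3 ⊕ Fin 3) F) := transpose_J hg

theorem mem_of_sy {g : GL (Fin 3 ⊕ Fin 3) F} (hg : Sy (g : Matrix (Fin 3 ⊕ Fin 3) (Fin 3 ⊕ Fin 3) F)) :
    g ∈ spGL 3 F := by
  rw [H931.mem_spGL_iff]
  intro u v
  unfold sympForm
  conv_rhs => rw [← hg]
  rw [← Matrix.mulVec_mulVec, ← Matrix.mulVec_mulVec, Matrix.dotProduct_mulVec u, Matrix.vecMul_transpose]

/-- the diagonal symplectic matrix -/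
def dg (d : Fin 3 → Fˣ) : Matrix (Fin 3 ⊕ Fin 3) (Fin 3 ⊕ Fin 3) F :=
  Matrix.diagonal (Sum.elim (fun i => (d i : F)) fun i => ((d i)⁻¹ : Fˣ))

theorem sy_dg (d : Fin 3 → Fˣ) : Sy (dg d) := by
  unfold Sy dg
  rw [Matrix.diagonal_transpose]
  ext i j
  rw [Matrix.mul_diagonal, Matrix.diagonal_mul]
  rcases i with i | i <;> rcases j with j | j <;> simp [Matrix.J, Matrix.one_apply]
  · by_cases h : i = j
    · subst h
      simp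
    · simp [h]
  · by_cases h : i = j
    · subst h
      simp
    · simp [h]

theorem dg_mul_inv (d : Fin 3 → Fˣ) : dg d * dg (fun i => (d i)⁻¹) = 1 := by
  unfold dg
  rw [Matrix.diagonal_mul_diagonal, ← Matrix.diagonal_one]
  congr 1
  funext i
  rcases i with i | i <;> simp

/-- the diagonal matrix as an element of `GL` -/
def dgU (d : Fin 3 → Fˣ) : GL (Fin 3 ⊕ Fin 3) F :=
  ⟨dg d, dg fun i => (d i)⁻¹, dg_mul_inv d, by simpa only [_root_.inv_inv] using dg_mul_inv fun i => (d i)⁻¹⟩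

theorem dgU_mem (d : Fin 3 → Fˣ) : dgU d ∈ spGL 3 F := mem_of_sy (sy_dg d)

/-- the weight -/
def wt (d : Fin 3 → Fˣ) (ε : E) : Fˣ := (bif ε.1 then (d 0)⁻¹ else d 0) * (bif ε.2.1 then (d 1)⁻¹ else d 1) *
  (bif ε.2.2 then (d 2)⁻¹ else d 2)

theorem C_dg (d : Fin 3 → Fˣ) : C (dg d) = Matrix.diagonal fun ε => (wt d ε : F) := by
  ext ⟨a, b, c⟩ ⟨a', b', c'⟩
  rw [C_apply]
  simp only [d3, ix_zero, ix_one, ix_two, dg, Matrix.diagonal_apply, wt]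
  rcases a <;> rcases b <;> rcases c <;> rcases a' <;> rcases b' <;> rcases c' <;> simp <;> ring

theorem C_dg_mulVec (d : Fin 3 → Fˣ) (n : E → F) (ε : E) : (C (dg d) *ᵥ n) ε = wt d ε * n ε := by
  rw [C_dg, Matrix.mulVec_diagonal]

/-- the stabiliser of a line of the spin module -/
def lineStab (h2 : (2 : F) = 0) (n : E → F) : Subgroup (GL (Fin 3 ⊕ Fin 3) F) where
  carrier := {g | g ∈ spGL 3 F ∧ ∃ c : Fˣ, C (g : Matrix (Fin 3 ⊕ Fin 3) (Fin 3 ⊕ Fin 3) F) *ᵥ n = (c : F) • n}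
  mul_mem' := by
    rintro a b ⟨ha, c, hc⟩ ⟨hb, d, hd⟩
    refine ⟨mul_mem ha hb, c * d, ?_⟩
    rw [Units.val_mul, C_mul h2 (sy_of_mem ha) (sy_of_mem hb), ← Matrix.mulVec_mulVec, hd, Matrix.mulVec_smul, hc,
      smul_smul, Units.val_mul, mul_comm (d : F)]
  one_mem' := ⟨one_mem _, 1, by rw [Units.val_one, C_one, Matrix.one_mulVec, Units.val_one, one_smul]⟩
  inv_mem' := by
    rintro a ⟨ha, c, hc⟩
    refine ⟨inv_mem ha, c⁻¹, ?_⟩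
    have h1 : C ((a⁻¹ : GL (Fin 3 ⊕ Fin 3) F) : Matrix (Fin 3 ⊕ Fin 3) (Fin 3 ⊕ Fin 3) F) *ᵥ
        (C (a : Matrix (Fin 3 ⊕ Fin 3) (Fin 3 ⊕ Fin 3) F) *ᵥ n) = n := by
      rw [Matrix.mulVec_mulVec, ← C_mul h2 (sy_of_mem (inv_mem ha)) (sy_of_mem ha), ← Units.val_mul, inv_mul_cancel,
        Units.val_one, C_one, Matrix.one_mulVec]
    rw [hc, Matrix.mulVec_smul] at h1
    calc _ = ((c⁻¹ : Fˣ) : F) • ((c : F) • (C ((a⁻¹ : GL (Fin 3 ⊕ Fin 3) F) : Matrix (Fin 3 ⊕ Fin 3) (Fin 3 ⊕ Fin 3) F) *ᵥ n)) := by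
          rw [smul_smul, ← Units.val_mul, inv_mul_cancel, Units.val_one, one_smul]
      _ = _ := by rw [h1]

theorem mem_lineStab {h2 : (2 : F) = 0} {n : E → F} {g : GL (Fin 3 ⊕ Fin 3) F} : g ∈ lineStab h2 n ↔
    g ∈ spGL 3 F ∧ ∃ c : Fˣ, C (g : Matrix (Fin 3 ⊕ Fin 3) (Fin 3 ⊕ Fin 3) F) *ᵥ n = (c : F) • n := Iff.rfl

theorem lineStab_le {h2 : (2 : F) = 0} {n : E → F} : lineStab h2 n ≤ spGL 3 F := fun _ h => h.1

end Field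

end Cfsg.Agent.H914.S6.Spin
end

-- part: H914/SpinD
section
/-!
# A residual maximal subgroup of `Sp_6(F)`, `F` of characteristic two, fixing a line of the spin module (helper914)

* `lineStab_ne` : the stabiliser of a line is proper, `|F| ≥ 4`
* `card_le` : its index is at most `|F|^8`
* `false_of_line`
-/

set_option autoImplicit false
set_option linter.unusedSectionVars false
set_option maxHeartbeats 400000

namespace Cfsg.Agent.H914.S6.Spin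

open Matrix Cfsg Cfsg.Geo Cfsg.Agent.H915.LD
open scoped MatrixGroups

universe u

variable {F : Type u} [Field F]

theorem bar_ne (ε : E) : bar ε ≠ ε := by
  obtain ⟨a, b, c⟩ := ε
  rcases a <;> simp [bar]

theorem bar_bar (ε : E) : bar (bar ε) = ε := by
  obtain ⟨a, b, c⟩ := ε
  simp [bar]

theorem lineStab_ne (h2 : (2 : F) = 0) {n : E → F} (hn : n ≠ 0) {c : Fˣ} (hc : c ≠ c⁻¹) :
    lineStab h2 n ≠ spGL 3 F := by
  intro h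
  obtain ⟨ε, hε⟩ := Function.ne_iff.1 hn
  rw [Pi.zero_apply] at hε
  have key : ∀ (d : Fin 3 → Fˣ) (ε' : E), n ε' ≠ 0 → wt d ε' = wt d ε := by
    intro d ε' hε'
    have h1 : dgU d ∈ lineStab h2 n := by
      rw [h]
      exact dgU_mem d
    obtain ⟨-, e, he⟩ := mem_lineStab.1 h1
    have h3 := congrFun he ε
    have h4 := congrFun he ε'
    change (C (dg d) *ᵥ n) ε = _ at h3
    change (C (dg d) *ᵥ n) ε' = _ at h4
    rw [C_dg_mulVec, Pi.smul_apply, smul_eq_mul] at h3 h4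
    apply Units.ext
    rw [mul_right_cancel₀ hε h3, mul_right_cancel₀ hε' h4]
  have hc' : ∀ a b : Bool, (bif a then c⁻¹ else c) = (bif b then c⁻¹ else c) → a = b := by
    intro a b hab
    rcases a <;> rcases b
    · rfl
    · exact absurd hab hc
    · exact absurd hab.symm hc
    · rfl
  have hsup : ∀ ε' : E, n ε' ≠ 0 → ε' = ε := by
    intro ε' hε'
    have k1 := key ![c, 1, 1] ε' hε'
    have k2 := key ![1, c, 1] ε' hε'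
    have k3 := key ![1, 1, c] ε' hε'
    obtain ⟨a, b, e⟩ := ε'
    obtain ⟨a', b', e'⟩ := ε
    simp only [wt, Matrix.cons_val_zero, Matrix.cons_val_one, Matrix.cons_val, inv_one, Bool.cond_self, mul_one,
      one_mul] at k1 k2 k3
    rw [hc' a a' k1, hc' b b' k2, hc' e e' k3]
  have hJ : (⟨Matrix.J (Fin 3) F, -Matrix.J (Fin 3) F, by rw [Matrix.mul_neg, Matrix.J_squared, neg_neg],
      by rw [Matrix.neg_mul, Matrix.J_squared, neg_neg]⟩ : GL (Fin 3 ⊕ Fin 3) F) ∈ lineStab h2 n := by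
    rw [h]
    exact mem_of_sy Sy.J
  obtain ⟨-, e, he⟩ := mem_lineStab.1 hJ
  have h3 := congrFun he (bar ε)
  change (C (Matrix.J (Fin 3) F) *ᵥ n) (bar ε) = _ at h3
  rw [C_J_mulVec h2, bar_bar, Pi.smul_apply, smul_eq_mul] at h3
  have h4 : n (bar ε) = 0 := by
    by_contra h5
    exact bar_ne ε (hsup _ h5)
  rw [h4, mul_zero] at h3
  exact hε h3

/-- the action of `spGL 3 F` on the spin module -/
@[reducible] def act (h2 : (2 : F) = 0) : MulAction (spGL 3 F) (E → F) where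
  smul g n := C ((g : GL (Fin 3 ⊕ Fin 3) F) : Matrix (Fin 3 ⊕ Fin 3) (Fin 3 ⊕ Fin 3) F) *ᵥ n
  one_smul n := by
    change C ((1 : GL (Fin 3 ⊕ Fin 3) F) : Matrix (Fin 3 ⊕ Fin 3) (Fin 3 ⊕ Fin 3) F) *ᵥ n = n
    rw [Units.val_one, C_one, Matrix.one_mulVec]
  mul_smul a b n := by
    change C (((a : GL (Fin 3 ⊕ Fin 3) F) * (b : GL (Fin 3 ⊕ Fin 3) F) : GL (Fin 3 ⊕ Fin 3) F) :
      Matrix (Fin 3 ⊕ Fin 3) (Fin 3 ⊕ Fin 3) F) *ᵥ n = C _ *ᵥ (C _ *ᵥ n)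
    rw [Units.val_mul, C_mul h2 (sy_of_mem a.2) (sy_of_mem b.2), Matrix.mulVec_mulVec]

theorem card_le (h2 : (2 : F) = 0) [Fintype F] (n : E → F) :
    Nat.card (spGL 3 F) ≤ Fintype.card F ^ 8 * Nat.card (lineStab h2 n) := by
  classical
  let A := act h2 (F := F)
  have h1 : Nat.card (MulAction.orbit (spGL 3 F) n) * Nat.card (MulAction.stabilizer (spGL 3 F) n) =
      Nat.card (spGL 3 F) := by
    rw [← Nat.card_prod]
    exact Nat.card_congr (MulAction.orbitProdStabilizerEquivGroup (spGL 3 F) n)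
  have h3 : Nat.card (MulAction.orbit (spGL 3 F) n) ≤ Fintype.card F ^ 8 := by
    have h4 := Nat.card_le_card_of_injective (Subtype.val : MulAction.orbit (spGL 3 F) n → (E → F))
      Subtype.val_injective
    have h5 : Nat.card (E → F) = Fintype.card F ^ 8 := by
      rw [Nat.card_eq_fintype_card, Fintype.card_fun]
      rfl
    rwa [h5] at h4
  have h6 : Nat.card (MulAction.stabilizer (spGL 3 F) n) ≤ Nat.card (lineStab h2 n) := by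
    refine Nat.card_le_card_of_injective (fun g => (⟨((g : spGL 3 F) : GL (Fin 3 ⊕ Fin 3) F), ?_⟩ : lineStab h2 n)) ?_
    · refine mem_lineStab.2 ⟨(g : spGL 3 F).2, 1, ?_⟩
      rw [Units.val_one, one_smul]
      exact MulAction.mem_stabilizer_iff.1 g.2
    · intro a b hab
      exact Subtype.ext (Subtype.ext (congrArg (fun x : lineStab h2 n => (x : GL (Fin 3 ⊕ Fin 3) F)) hab))
  rw [← h1]
  exact Nat.mul_le_mul h3 h6

/-- `n` spans the space of vectors fixed by `P` -/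
structure FixOne (P : Subgroup (GL (Fin 3 ⊕ Fin 3) F)) (n : E → F) : Prop where
  ne : n ≠ 0
  fix : ∀ g ∈ P, C (g : Matrix (Fin 3 ⊕ Fin 3) (Fin 3 ⊕ Fin 3) F) *ᵥ n = n
  uniq : ∀ n' : E → F, (∀ g ∈ P, C (g : Matrix (Fin 3 ⊕ Fin 3) (Fin 3 ⊕ Fin 3) F) *ᵥ n' = n') → ∃ c : F, n' = c • n

theorem FixOne.le_lineStab {H P : Subgroup (GL (Fin 3 ⊕ Fin 3) F)} (h2 : (2 : F) = 0) {n : E → F}
    (hn : FixOne P n) (hH : H ≤ spGL 3 F) (hP : P ≤ spGL 3 F)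
    (hnorm : ∀ g ∈ H, ∀ x ∈ P, g⁻¹ * x * g ∈ P) : H ≤ lineStab h2 n := by
  intro g hg
  refine mem_lineStab.2 ⟨hH hg, ?_⟩
  have hinv : C (g : Matrix (Fin 3 ⊕ Fin 3) (Fin 3 ⊕ Fin 3) F) *
      C ((g⁻¹ : GL (Fin 3 ⊕ Fin 3) F) : Matrix (Fin 3 ⊕ Fin 3) (Fin 3 ⊕ Fin 3) F) = 1 := by
    rw [← C_mul h2 (sy_of_mem (hH hg)) (sy_of_mem (inv_mem (hH hg))), ← Units.val_mul, mul_inv_cancel, Units.val_one,
      C_one]
  have hinv' : C ((g⁻¹ : GL (Fin 3 ⊕ Fin 3) F) : Matrix (Fin 3 ⊕ Fin 3) (Fin 3 ⊕ Fin 3) F) *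
      C (g : Matrix (Fin 3 ⊕ Fin 3) (Fin 3 ⊕ Fin 3) F) = 1 := mul_eq_one_comm.1 hinv
  obtain ⟨c, hc⟩ := hn.uniq (C (g : Matrix (Fin 3 ⊕ Fin 3) (Fin 3 ⊕ Fin 3) F) *ᵥ n) (fun x hx => by
    have h1 := hn.fix _ (hnorm g hg x hx)
    rw [Units.val_mul, Units.val_mul, C_mul h2 ((sy_of_mem (inv_mem (hH hg))).mul (sy_of_mem (hP hx)))
      (sy_of_mem (hH hg)), C_mul h2 (sy_of_mem (inv_mem (hH hg))) (sy_of_mem (hP hx))] at h1
    have h3 := congrArg (fun v => C (g : Matrix (Fin 3 ⊕ Fin 3) (Fin 3 ⊕ Fin 3) F) *ᵥ v) h1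
    rw [Matrix.mulVec_mulVec, ← Matrix.mul_assoc, ← Matrix.mul_assoc, hinv, Matrix.one_mul] at h3
    rw [Matrix.mulVec_mulVec, h3])
  have hc0 : c ≠ 0 := by
    rintro rfl
    rw [zero_smul] at hc
    apply hn.ne
    calc n = (C ((g⁻¹ : GL (Fin 3 ⊕ Fin 3) F) : Matrix (Fin 3 ⊕ Fin 3) (Fin 3 ⊕ Fin 3) F) *
      C (g : Matrix (Fin 3 ⊕ Fin 3) (Fin 3 ⊕ Fin 3) F)) *ᵥ n := by rw [hinv', Matrix.one_mulVec]
      _ = 0 := by rw [← Matrix.mulVec_mulVec, hc, Matrix.mulVec_zero]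
  exact ⟨Units.mk0 c hc0, hc⟩

/-- **A small residual maximal subgroup has not exactly one fixed line.** -/
theorem false_of_line [Fintype F] (h2 : (2 : F) = 0) {H P : Subgroup (GL (Fin 3 ⊕ Fin 3) F)} (S : Hyp 3 H P)
    {n : E → F} (hn : FixOne P n) {c : Fˣ} (hc : c ≠ c⁻¹) {B : ℕ} (hB : Nat.card H ≤ B)
    (hlt : Fintype.card F ^ 8 * B < Nat.card (spGL 3 F)) : False := by
  have hnorm : ∀ g ∈ H, ∀ x ∈ P, g⁻¹ * x * g ∈ P := by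
    intro g hg x hx
    have h1 := S.core.normal g⁻¹ (inv_mem hg) x hx
    rwa [inv_inv] at h1
  have h1 := hn.le_lineStab h2 S.H_le S.P_le hnorm
  have h3 := S.eq_of_le h1 lineStab_le (lineStab_ne h2 hn.ne hc)
  have h4 := card_le h2 n
  rw [h3] at h4
  exact absurd hlt (not_lt.2 (h4.trans (Nat.mul_le_mul_left _ hB)))

end Cfsg.Agent.H914.S6.Spin
end

-- part: H914/SpinE
section
/-!
# Descent of the fixed line, and the bound on the order of `H` (helper914)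
-/

set_option autoImplicit false
set_option linter.unusedSectionVars false
set_option maxHeartbeats 400000

namespace Cfsg.Agent.H914.S6.Spin

open Matrix Cfsg Cfsg.Geo Cfsg.Agent.H915.LD
open scoped MatrixGroups

universe u v

theorem d3_map {R : Type u} {S : Type v} [CommRing R] [CommRing S] (f : R →+* S) (x y z : Fin 3 → R) :
    d3 (fun r => f (x r)) (fun r => f (y r)) (fun r => f (z r)) = f (d3 x y z) := by
  unfold d3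
  simp only [map_add, map_sub, map_mul]

theorem C_map {R : Type u} {S : Type v} [CommRing R] [CommRing S] (f : R →+* S)
    (g : Matrix (Fin 3 ⊕ Fin 3) (Fin 3 ⊕ Fin 3) R) : C (g.map f) = (C g).map f := by
  ext δ ε
  rw [Matrix.map_apply, C_apply, C_apply]
  exact d3_map f _ _ _

theorem Sy.map {R : Type u} {S : Type v} [CommRing R] [CommRing S] (f : R →+* S)
    {g : Matrix (Fin 3 ⊕ Fin 3) (Fin 3 ⊕ Fin 3) R} (h : Sy g) : Sy (g.map f) := by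
  unfold Sy at *
  have hJ : (Matrix.J (Fin 3) R).map f = Matrix.J (Fin 3) S := by
    ext i j
    rcases i with i | i <;> rcases j with j | j <;> simp only [Matrix.J, Matrix.one_apply, apply_ite f, _root_.Matrix.map_apply, _root_.Matrix.fromBlocks_apply₁₁, _root_.Matrix.zero_apply, _root_.map_zero, _root_.Matrix.fromBlocks_apply₁₂, _root_.Matrix.neg_apply, _root_.map_neg, _root_.map_one, _root_.Matrix.fromBlocks_apply₂₁, _root_.Matrix.fromBlocks_apply₂₂]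
  rw [← hJ, ← Matrix.transpose_map, ← Matrix.map_mul, ← Matrix.map_mul, h]

/-- The line of fixed vectors is defined over the small field. -/
theorem exists_fixOne {F : Type u} [Field F] {k : Type v} [Field k] [Algebra F k]
    {P : Subgroup (GL (Fin 3 ⊕ Fin 3) F)} {nk : E → k} (hne : nk ≠ 0)
    (hfix : ∀ g ∈ P, C ((g : Matrix (Fin 3 ⊕ Fin 3) (Fin 3 ⊕ Fin 3) F).map (algebraMap F k)) *ᵥ nk = nk)
    (huniq : ∀ n' : E → k, (∀ g ∈ P, C ((g : Matrix (Fin 3 ⊕ Fin 3) (Fin 3 ⊕ Fin 3) F).map (algebraMap F k)) *ᵥ n' = n') →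
      ∃ c : k, n' = c • nk) : ∃ n : E → F, FixOne P n := by
  obtain ⟨ε, hε⟩ := Function.ne_iff.1 hne
  rw [Pi.zero_apply] at hε
  obtain ⟨φ, hφ⟩ : ∃ φ : Module.Dual F k, φ (nk ε) ≠ 0 := by
    by_contra h
    push_neg at h
    exact hε ((Module.forall_dual_apply_eq_zero_iff F (nk ε)).1 h)
  have hn0 : (fun i => φ (nk i)) ε ≠ 0 := hφ
  have hfix' : ∀ g ∈ P, C (g : Matrix (Fin 3 ⊕ Fin 3) (Fin 3 ⊕ Fin 3) F) *ᵥ (fun i => φ (nk i)) = fun i => φ (nk i) := by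
    intro g hg
    have h1 := hfix g hg
    rw [C_map] at h1
    funext i
    conv_rhs => rw [← h1]
    simp only [Matrix.mulVec, dotProduct, Matrix.map_apply, map_sum]
    refine Finset.sum_congr rfl fun j _ => ?_
    rw [← Algebra.smul_def, map_smul, smul_eq_mul]
  have hlift : ∀ n' : E → F, (∀ g ∈ P, C (g : Matrix (Fin 3 ⊕ Fin 3) (Fin 3 ⊕ Fin 3) F) *ᵥ n' = n') →
      ∃ c : k, (fun i => algebraMap F k (n' i)) = c • nk := by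
    intro n' hn'
    apply huniq
    intro g hg
    rw [C_map]
    funext i
    have h1 := congrFun (hn' g hg) i
    conv_rhs => rw [← h1]
    simp only [Matrix.mulVec, dotProduct, Matrix.map_apply, map_sum, map_mul]
  refine ⟨fun i => φ (nk i), ⟨fun h => hn0 (congrFun h ε), hfix', ?_⟩⟩
  intro n' hn'
  obtain ⟨c, hc⟩ := hlift n' hn'
  obtain ⟨c', hc'⟩ := hlift _ hfix'
  refine ⟨n' ε / φ (nk ε), ?_⟩
  funext i
  apply (algebraMap F k).injective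
  have e1 := congrFun hc i
  have e2 := congrFun hc' i
  have e3 := congrFun hc ε
  have e4 := congrFun hc' ε
  simp only [Pi.smul_apply, smul_eq_mul] at e1 e2 e3 e4
  have h5 : algebraMap F k (φ (nk ε)) ≠ 0 := by
    rwa [Ne, map_eq_zero]
  rw [Pi.smul_apply, smul_eq_mul, map_mul, map_div₀, e1, e2, e3, div_mul_eq_mul_div, eq_div_iff h5, e4]
  ring

section Card

variable {F : Type u} [Field F] {H P : Subgroup (GL (Fin 3 ⊕ Fin 3) F)}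

/-- in characteristic two the scalars of `Sp` are trivial -/
theorem scalars_bot (h2 : (2 : F) = 0) (S : Hyp 3 H P) : (scalars (Fin 3 ⊕ Fin 3) F).subgroupOf P = ⊥ := by
  rw [eq_bot_iff]
  intro g hg
  rw [Subgroup.mem_bot]
  apply Subtype.ext
  have hneg : (-1 : F) = 1 := by linear_combination (-1 : F) * h2
  rcases scalar_cases (by norm_num) (S.P_le g.2) (Subgroup.mem_subgroupOf.1 hg) with h | h
  · exact h
  · rw [h]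
    apply Units.ext
    ext i j
    change -(1 : Matrix (Fin 3 ⊕ Fin 3) (Fin 3 ⊕ Fin 3) F) i j = (1 : Matrix (Fin 3 ⊕ Fin 3) (Fin 3 ⊕ Fin 3) F) i j
    linear_combination (-(1 : Matrix (Fin 3 ⊕ Fin 3) (Fin 3 ⊕ Fin 3) F) i j) * h2

/-- in characteristic two `P` is its own socle -/
noncomputable def socEquiv (h2 : (2 : F) = 0) (S : Hyp 3 H P) : P ≃* Soc P :=
  MulEquiv.ofBijective (toSoc P) ⟨by
    rw [← MonoidHom.ker_eq_bot_iff, show (toSoc P).ker = (scalars (Fin 3 ⊕ Fin 3) F).subgroupOf P from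
      QuotientGroup.ker_mk' _]
    exact scalars_bot h2 S, toSoc_surjective P⟩

/-- `H` acts faithfully on `P` in characteristic two -/
theorem card_H_le (h2 : (2 : F) = 0) [Finite F] (S : Hyp 3 H P) : Nat.card H ≤ Nat.card (MulAut P) := by
  have hfin : Finite P := inferInstance
  let f : H → MulAut P := fun h =>
    { toFun := fun x => ⟨(h : GL (Fin 3 ⊕ Fin 3) F) * x * (h : GL (Fin 3 ⊕ Fin 3) F)⁻¹, S.core.normal h h.2 x x.2⟩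
      invFun := fun x => ⟨(h : GL (Fin 3 ⊕ Fin 3) F)⁻¹ * x * (h : GL (Fin 3 ⊕ Fin 3) F), by
        have := S.core.normal _ (inv_mem h.2) x x.2
        rwa [inv_inv] at this⟩
      left_inv := fun x => Subtype.ext (by dsimp only; group)
      right_inv := fun x => Subtype.ext (by dsimp only; group)
      map_mul' := fun x y => Subtype.ext (by
        change (h : GL (Fin 3 ⊕ Fin 3) F) * (x * y) * (h : GL (Fin 3 ⊕ Fin 3) F)⁻¹ = _ * _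
        group) }
  refine Nat.card_le_card_of_injective f ?_
  intro a b hab
  apply Subtype.ext
  have h1 : ∀ x ∈ P, (a : GL (Fin 3 ⊕ Fin 3) F) * x * (a : GL (Fin 3 ⊕ Fin 3) F)⁻¹ =
      (b : GL (Fin 3 ⊕ Fin 3) F) * x * (b : GL (Fin 3 ⊕ Fin 3) F)⁻¹ := by
    intro x hx
    exact congrArg (fun t : MulAut P => ((t ⟨x, hx⟩ : P) : GL (Fin 3 ⊕ Fin 3) F)) hab
  have h3 := S.core.centralizer_scalar ((b : GL (Fin 3 ⊕ Fin 3) F)⁻¹ * a) (mul_mem (inv_mem b.2) a.2) (by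
    intro x hx
    have h4 : (b : GL (Fin 3 ⊕ Fin 3) F)⁻¹ * a * x * ((b : GL (Fin 3 ⊕ Fin 3) F)⁻¹ * a)⁻¹ * x⁻¹ = 1 := by
      calc _ = (b : GL (Fin 3 ⊕ Fin 3) F)⁻¹ * (a * x * (a : GL (Fin 3 ⊕ Fin 3) F)⁻¹) * b * x⁻¹ := by group
        _ = 1 := by rw [h1 x hx]; group
    rw [h4]
    exact one_mem _)
  have hneg : (-1 : F) = 1 := by linear_combination (-1 : F) * h2
  rcases scalar_cases (by norm_num) (S.H_le (mul_mem (inv_mem b.2) a.2)) h3 with h | h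
  · exact (inv_mul_eq_one.1 h).symm
  · rw [inv_mul_eq_iff_eq_mul, mul_neg, mul_one] at h
    rw [h]
    apply Units.ext
    ext i j
    change -((b : GL (Fin 3 ⊕ Fin 3) F) : Matrix (Fin 3 ⊕ Fin 3) (Fin 3 ⊕ Fin 3) F) i j = _
    linear_combination (-((b : GL (Fin 3 ⊕ Fin 3) F) : Matrix (Fin 3 ⊕ Fin 3) (Fin 3 ⊕ Fin 3) F) i j) * h2

theorem card_H_le' (h2 : (2 : F) = 0) [Finite F] (S : Hyp 3 H P) {T : Type v} [Group T] (e : Soc P ≃* T) :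
    Nat.card H ≤ Nat.card (MulAut T) := by
  rw [← Nat.card_congr (MulAut.congr ((socEquiv h2 S).trans e)).toEquiv]
  exact card_H_le h2 S

theorem card_sp6' [Fintype F] : Nat.card (spGL 3 F) = Fintype.card F ^ 9 *
    ((Fintype.card F ^ 2 - 1) * (Fintype.card F ^ 4 - 1) * (Fintype.card F ^ 6 - 1)) := by
  have h1 := H955.card_spGL (m := 3) (F := F)
  rw [h1, Nat.card_eq_fintype_card]
  simp only [Finset.prod_range_succ, _root_.Nat.reducePow, _root_.Finset.range_one, _root_.Finset.prod_singleton, _root_.zero_add, _root_.mul_one, _root_.Nat.reduceAdd, _root_.Nat.reduceMul]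

/-- numerical bound -/
theorem num_bound [Fintype F] (h4 : 4 ≤ Fintype.card F) {B : ℕ} (hB : B ≤ 60000000) :
    Fintype.card F ^ 8 * B < Nat.card (spGL 3 F) := by
  rw [card_sp6']
  generalize Fintype.card F = q at h4
  have h1 : 15 ≤ q ^ 2 - 1 := by
    have : 4 ^ 2 ≤ q ^ 2 := Nat.pow_le_pow_left h4 2
    omega
  have h3 : 255 ≤ q ^ 4 - 1 := by
    have : 4 ^ 4 ≤ q ^ 4 := Nat.pow_le_pow_left h4 4
    omega
  have h5 : 4095 ≤ q ^ 6 - 1 := by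
    have : 4 ^ 6 ≤ q ^ 6 := Nat.pow_le_pow_left h4 6
    omega
  have h6 : 15 * 255 * 4095 ≤ (q ^ 2 - 1) * (q ^ 4 - 1) * (q ^ 6 - 1) := Nat.mul_le_mul (Nat.mul_le_mul h1 h3) h5
  have h7 : 0 < q ^ 8 := by positivity
  calc q ^ 8 * B < q ^ 8 * (4 * (15 * 255 * 4095)) := by
        apply Nat.mul_lt_mul_of_pos_left _ h7
        omega
    _ ≤ q ^ 8 * (q * ((q ^ 2 - 1) * (q ^ 4 - 1) * (q ^ 6 - 1))) := by
        apply Nat.mul_le_mul_left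
        exact Nat.mul_le_mul h4 h6
    _ = _ := by ring

end Card

end Cfsg.Agent.H914.S6.Spin
end

private theorem dce_e1e03a2f5d35 : _root_.True := by
  try have : _root_.True := by simp only [_root_.Cfsg.Agent.H914.S6.Spin.d3.eq_1]
  try have : _root_.True := by simp only [_root_.Cfsg.Agent.H914.S6.Spin.dg.eq_1]
  try have : _root_.True := by simp only [_root_.Cfsg.Agent.H914.S6.Spin.wt.eq_1]
  try have : _root_.True := by simp only [_root_.Cfsg.Agent.H914.S6.s5.eq_1]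
  try have : _root_.True := by simp only [_root_.Cfsg.Agent.H914.S6.mt.eq_1]
  try have : _root_.True := by simp only [_root_.Cfsg.Agent.H914.S6.Spin.bar.eq_1]
  try have : _root_.True := by simp only [_root_.Cfsg.Agent.H914.S6.vv.eq_1]
  try have : _root_.True := by simp only [_root_.Cfsg.Agent.H914.S6.Spin.ix.eq_1]
  exact _root_.True.intro
end

-- part: H914/SixRow
section
set_option linter.all false
open scoped Cfsg.Agent.FastGrp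

/-!
# The conclusion of `S5806` in terms of the socle (helper914)

`Row6 p F T`, isomorphism lemmas, residues.
-/

set_option autoImplicit false
set_option linter.unusedSectionVars false
set_option maxHeartbeats 400000

namespace Cfsg.Agent.H914.S6

open Matrix Cfsg Cfsg.Geo Cfsg.Agent.H915.LD
open scoped MatrixGroups

universe u v

/-- the list of `S5806` -/
def Row6 (p : ℕ) (F : Type u) [Field F] [Fintype F] (T : Type v) [Group T] : Prop :=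
  (Nonempty (T ≃* alternatingGroup (Fin 5)) ∧ Fintype.card F = p ∧ (p % 40 = 3 ∨ p % 40 = 37 ∨ p % 40 = 13 ∨ p % 40 = 27 ∨ p % 8 = 1 ∨ p % 8 = 7)) ∨
  (Nonempty (T ≃* Matrix.ProjectiveSpecialLinearGroup (Fin 2) (ZMod 7)) ∧ ((Fintype.card F = p ∧ p ≠ 7 ∧ (p % 16 = 1 ∨ p % 16 = 15 ∨ p % 16 = 7 ∨ p % 16 = 9)) ∨ (Fintype.card F = p ^ 2 ∧ p ≠ 3 ∧ (p % 16 = 3 ∨ p % 16 = 13 ∨ p % 16 = 5 ∨ p % 16 = 11)))) ∨
  (Nonempty (T ≃* Matrix.ProjectiveSpecialLinearGroup (Fin 2) (ZMod 13)) ∧ ((Fintype.card F = p ∧ (p % 13 = 1 ∨ p % 13 = 12 ∨ p % 13 = 3 ∨ p % 13 = 10 ∨ p % 13 = 4 ∨ p % 13 = 9)) ∨ (Fintype.card F = p ^ 2 ∧ p ≠ 2 ∧ (p % 13 = 2 ∨ p % 13 = 11 ∨ p % 13 = 5 ∨ p % 13 = 8 ∨ p % 13 = 6 ∨ p % 13 = 7)))) ∨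
  (Nonempty (T ≃* alternatingGroup (Fin 7)) ∧ Fintype.card F = 9) ∨
  ((∃ (K : Type) (_ : Field K) (_ : Fintype K), Fintype.card K = 9 ∧ Nonempty (T ≃* Cfsg.PSU 3 K 3)) ∧ (Fintype.card F = 2 ∨ (Fintype.card F = p ∧ (p % 60 = 7 ∨ p % 60 = 53 ∨ p % 60 = 17 ∨ p % 60 = 43 ∨ p % 12 = 1 ∨ p % 12 = 11)))) ∨
  (Cfsg.Spor.IsoJ2 T ∧ ((Fintype.card F = p ∧ (p % 5 = 0 ∨ p % 5 = 1 ∨ p % 5 = 4)) ∨ (Fintype.card F = p ^ 2 ∧ p ≠ 2 ∧ (p % 5 = 2 ∨ p % 5 = 3)))) ∨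
  (Nonempty (T ≃* Matrix.ProjectiveSpecialLinearGroup (Fin 2) F) ∧ 7 ≤ p) ∨
  (Nonempty (T ≃* Cfsg.Lie.G2 F) ∧ p = 2 ∧ Fintype.card F ≠ 2)

theorem psl_zmod {r : ℕ} [hr : Fact r.Prime] {K : Type v} [Field K] [Fintype K] (hK : Fintype.card K = r) (m : ℕ) :
    Nonempty (Matrix.ProjectiveSpecialLinearGroup (Fin m) K ≃* Matrix.ProjectiveSpecialLinearGroup (Fin m) (ZMod r)) := by
  have h : Fintype.card K = Fintype.card (ZMod r) := by rw [hK, ZMod.card]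
  exact ⟨LieClassical.FieldTransfer.pslCongr (FiniteField.ringEquivOfCardEq (K := K) (K' := ZMod r) h)⟩

/-- a root of `x² = x + 1` if `p ≡ ±1 (mod 5)` -/
theorem exists_tau {F : Type u} [Field F] (p : ℕ) [hp : Fact p.Prime] [CharP F p] (h2 : p ≠ 2)
    (h5 : p % 5 = 1 ∨ p % 5 = 4) : ∃ τ : F, τ * τ = τ + 1 := by
  have hfive : Fact (Nat.Prime 5) := ⟨Nat.prime_five⟩
  have h1 : IsSquare ((p : ℕ) : ZMod 5) := by
    have h3 : ((p : ℕ) : ZMod 5) = ((p % 5 : ℕ) : ZMod 5) := (ZMod.natCast_mod p 5).symm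
    rw [h3]
    rcases h5 with h | h
    · rw [h]
      exact ⟨1, by norm_num⟩
    · rw [h]
      exact ⟨2, by norm_num⟩
  have h3 : IsSquare ((5 : ℕ) : ZMod p) := (ZMod.exists_sq_eq_prime_iff_of_mod_four_eq_one (by norm_num) h2).1 h1
  obtain ⟨s, hs⟩ := h3
  let f : ZMod p →+* F := ZMod.castHom (dvd_refl p) F
  have hfs : (f s) * (f s) = 5 := by
    have h4 : f ((5 : ℕ) : ZMod p) = 5 := by rw [map_natCast]; norm_num
    rw [← map_mul, ← hs, h4]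
  have h2F : (2 : F) ≠ 0 := by
    intro h
    have h4 : ((2 : ℕ) : F) = 0 := by exact_mod_cast h
    rw [CharP.cast_eq_zero_iff F p] at h4
    exact h2 ((Nat.prime_dvd_prime_iff_eq hp.out Nat.prime_two).1 h4)
  refine ⟨(1 + f s) / 2, ?_⟩
  field_simp
  linear_combination hfs

theorem not_sq_two {F : Type u} [Field F] [Fintype F] (p : ℕ) (hF : Fintype.card F = p) (h8 : p % 8 = 3 ∨ p % 8 = 5) :
    ¬ IsSquare (2 : F) := by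
  rw [FiniteField.isSquare_two_iff, hF]
  omega

end Cfsg.Agent.H914.S6
end
end
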